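import Cfsg.Agent.Lib.SL2.NormalizerSL
import Cfsg.Agent.Lib.SL2.SmallConj

/-!
# Klein four-subgroups of `PSL₂(q)`, `q` odd
-/

set_option autoImplicit false

namespace Cfsg.Agent.Lib.SL2

open Matrix

section Abstract

variable {G : Type*} [Group G]

lemma sq_of_orderOf_two {x : G} (h : orderOf x = 2) : x * x = 1 := by
  have := pow_orderOf_eq_one x
  rwa [h, sq] at this

/-- The four-group of two commuting involutions. -/
def klein (x y : G) (hx : x * x = 1) (hy : y * y = 1) (hxy : x * y = y * x) : Subgroup G where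
  carrier := {1, x, y, x * y}
  one_mem' := Or.inl rfl
  mul_mem' := by
    have e1 : x * (x * y) = y := by rw [← mul_assoc, hx, one_mul]
    have e2 : y * (x * y) = x := by rw [hxy, ← mul_assoc, hy, one_mul]
    have e3 : x * y * x = y := by rw [hxy, mul_assoc, hx, mul_one]
    have e4 : x * y * y = x := by rw [mul_assoc, hy, mul_one]
    have e5 : x * y * (x * y) = 1 := by rw [← mul_assoc, e3, hy]
    rintro a b (rfl | rfl | rfl | rfl) (rfl | rfl | rfl | rfl) <;>
      simp [hx, hy, hxy.symm, e1, e2, e3, e4, e5]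
  inv_mem' := by
    have hx' : x⁻¹ = x := inv_eq_of_mul_eq_one_right hx
    have hy' : y⁻¹ = y := inv_eq_of_mul_eq_one_right hy
    rintro a (rfl | rfl | rfl | rfl) <;> simp [hx', hy', hxy.symm]

lemma mem_klein {x y : G} {hx : x * x = 1} {hy : y * y = 1} {hxy : x * y = y * x} {a : G} :
    a ∈ klein x y hx hy hxy ↔ a = 1 ∨ a = x ∨ a = y ∨ a = x * y := Iff.rfl

lemma isKleinFour_klein [Finite G] {x y : G} (hx : x * x = 1) (hy : y * y = 1)
    (hxy : x * y = y * x) (hx1 : x ≠ 1) (hy1 : y ≠ 1) (hne : x ≠ y) :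
    IsKleinFour (klein x y hx hy hxy) := by
  classical
  have := Fintype.ofFinite G
  constructor
  · have hset : ((klein x y hx hy hxy : Subgroup G) : Set G) = ↑({1, x, y, x * y} : Finset G) := by
      ext a; simp [mem_klein]
    show Nat.card ((klein x y hx hy hxy : Subgroup G) : Set G) = 4
    rw [hset, Nat.card_coe_set_eq, Set.ncard_coe_finset]
    have h1 : (1 : G) ≠ x * y := fun e => hne (by
      rw [← inv_eq_of_mul_eq_one_right hx]; exact inv_eq_of_mul_eq_one_right e.symm)
    have h2 : x ≠ x * y := fun e => hy1 (mul_eq_left.1 e.symm)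
    have h3 : y ≠ x * y := fun e => hx1 (mul_eq_right.1 e.symm)
    rw [Finset.card_insert_of_notMem (by simp [hx1.symm, hy1.symm, h1]),
      Finset.card_insert_of_notMem (by simp [hne, h2]),
      Finset.card_insert_of_notMem (by simp [h3]), Finset.card_singleton]
  · have key : ∀ a : klein x y hx hy hxy, a * a = 1 := by
      rintro ⟨a, ha⟩
      apply Subtype.ext
      show a * a = 1
      rcases mem_klein.1 ha with rfl | rfl | rfl | rfl
      · exact one_mul 1
      · exact hx
      · exact hy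
      · rw [mul_assoc, ← mul_assoc y x y, ← hxy, mul_assoc x y y, hy, mul_one, hx]
    apply Nat.dvd_antisymm
    · exact Monoid.exponent_dvd_of_forall_pow_eq_one fun a => by rw [sq]; exact key a
    · have h : orderOf (⟨x, mem_klein.2 (Or.inr (Or.inl rfl))⟩ : klein x y hx hy hxy) = 2 := by
        rw [Subgroup.orderOf_mk]
        exact orderOf_eq_prime (by rw [sq]; exact hx) hx1
      exact h ▸ Monoid.order_dvd_exponent _

lemma klein_eq_of_mem {V : Subgroup G} [Finite G] (hV : IsKleinFour V) {x y : G} (hxV : x ∈ V)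
    (hyV : y ∈ V) (hx1 : x ≠ 1) (hy1 : y ≠ 1) (hne : x ≠ y) :
    ∃ (hx : x * x = 1) (hy : y * y = 1) (hxy : x * y = y * x), V = klein x y hx hy hxy := by
  have hsq : ∀ a ∈ V, a * a = 1 := fun a ha =>
    congrArg Subtype.val (IsKleinFour.mul_self (⟨a, ha⟩ : V))
  have hinv : ∀ a ∈ V, a⁻¹ = a := fun a ha => inv_eq_of_mul_eq_one_right (hsq a ha)
  have hxy : x * y = y * x := by
    have h := hinv _ (V.mul_mem hxV hyV)
    rw [_root_.mul_inv_rev, hinv x hxV, hinv y hyV] at h
    exact h.symm
  refine ⟨hsq x hxV, hsq y hyV, hxy, (Subgroup.eq_of_le_of_card_ge ?_ ?_).symm⟩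
  · rintro a (rfl | rfl | rfl | rfl)
    exacts [V.one_mem, hxV, hyV, V.mul_mem hxV hyV]
  · rw [(isKleinFour_klein (hsq x hxV) (hsq y hyV) hxy hx1 hy1 hne).card_four, hV.card_four]

/-- Orbit–stabiliser for conjugacy of subgroups. -/
lemma card_conj_subgroups [Finite G] (V : Subgroup G) :
    Nat.card {W : Subgroup G // ∃ g : G, W = V.map (MulAut.conj g).toMonoidHom} *
      Nat.card (Subgroup.normalizer (V : Set G)) = Nat.card G := by
  classical
  set N := Subgroup.normalizer (V : Set G) with hN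
  have key : ∀ g h : G, g⁻¹ * h ∈ N ↔
      V.map (MulAut.conj g).toMonoidHom = V.map (MulAut.conj h).toMonoidHom := by
    intro g h
    rw [hN, Subgroup.mem_normalizer_iff, SetLike.ext_iff]
    simp only [Subgroup.mem_map_equiv, MulAut.conj_symm_apply]
    constructor
    · intro H z
      constructor
      · intro hz
        refine (H (h⁻¹ * z * h)).2 ?_
        simpa [mul_assoc] using hz
      · intro hz
        have := (H (h⁻¹ * z * h)).1 hz
        simpa [mul_assoc] using this
    · intro H z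
      have := H (h * z * h⁻¹)
      simpa [mul_assoc] using this.symm
  let f : G ⧸ N → {W : Subgroup G // ∃ g : G, W = V.map (MulAut.conj g).toMonoidHom} :=
    Quotient.lift (fun g => ⟨_, g, rfl⟩) (fun g h hgh => Subtype.ext
      ((key g h).1 (QuotientGroup.leftRel_apply.1 hgh)))
  have hf : Function.Bijective f := by
    constructor
    · intro a b
      induction a using QuotientGroup.induction_on with | H g =>
      induction b using QuotientGroup.induction_on with | H h =>
      intro e
      exact QuotientGroup.eq.2 ((key g h).2 (congrArg Subtype.val e))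
    · rintro ⟨W, g, rfl⟩; exact ⟨(g : G ⧸ N), rfl⟩
  rw [← Nat.card_congr (Equiv.ofBijective f hf)]
  exact (Subgroup.card_eq_card_quotient_mul_card_subgroup N).symm

/-- Orbit–stabiliser for conjugacy of elements. -/
lemma card_conj_elements [Finite G] (x : G) :
    Nat.card {y : G // IsConj x y} * Nat.card (Subgroup.centralizer ({x} : Set G)) = Nat.card G := by
  classical
  set C := Subgroup.centralizer ({x} : Set G)
  have key : ∀ g h : G, g⁻¹ * h ∈ C ↔ g * x * g⁻¹ = h * x * h⁻¹ := by
    intro g h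
    rw [Subgroup.mem_centralizer_singleton_iff]
    constructor
    · intro e
      calc g * x * g⁻¹ = g * (x * (g⁻¹ * h)) * h⁻¹ := by group
        _ = g * ((g⁻¹ * h) * x) * h⁻¹ := by rw [e]
        _ = h * x * h⁻¹ := by group
    · intro e
      calc g⁻¹ * h * x = g⁻¹ * (h * x * h⁻¹) * h := by group
        _ = g⁻¹ * (g * x * g⁻¹) * h := by rw [e]
        _ = x * (g⁻¹ * h) := by group
  let f : G ⧸ C → {y : G // IsConj x y} :=
    Quotient.lift (fun g => ⟨g * x * g⁻¹, isConj_iff.2 ⟨g, rfl⟩⟩) (fun g h hgh => Subtype.ext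
      ((key g h).1 (QuotientGroup.leftRel_apply.1 hgh)))
  have hf : Function.Bijective f := by
    constructor
    · intro a b
      induction a using QuotientGroup.induction_on with | H g =>
      induction b using QuotientGroup.induction_on with | H h =>
      intro e
      exact QuotientGroup.eq.2 ((key g h).2 (congrArg Subtype.val e))
    · rintro ⟨y, hy⟩
      obtain ⟨g, rfl⟩ := isConj_iff.1 hy
      exact ⟨(g : G ⧸ C), rfl⟩
  rw [← Nat.card_congr (Equiv.ofBijective f hf)]
  exact (Subgroup.card_eq_card_quotient_mul_card_subgroup C).symm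

/-- Ordered pairs of distinct points. -/
lemma card_offDiag_subtype (A : Type*) [Finite A] :
    Nat.card {q : A × A // q.1 ≠ q.2} = Nat.card A * Nat.card A - Nat.card A := by
  classical
  have := Fintype.ofFinite A
  rw [Nat.card_eq_fintype_card, Fintype.card_subtype_compl, Fintype.card_prod,
    Nat.card_eq_fintype_card]
  congr 1
  exact Fintype.card_congr
    { toFun := fun q => q.1.1, invFun := fun a => ⟨(a, a), rfl⟩
      left_inv := fun q => Subtype.ext (Prod.ext rfl q.2), right_inv := fun a => rfl }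

end Abstract

variable {F : Type*} [Field F] [Fintype F]

/-- The data attached to an involution. -/
structure InvolutionData (x : PSLtwo F) where
  /-- half the centraliser order -/
  k : ℕ
  /-- a generator of the torus -/
  g : PSLtwo F
  /-- an element inverting the torus -/
  n : PSLtwo F
  hk : Nat.card (torus x) = k
  heven : Even k
  hg : orderOf g = k
  hT : torus x = Subgroup.zpowers g
  hn : n ∉ torus x
  hcomm : n * x = x * n
  hhalf : g ^ (k / 2) = x
  hout : ∀ y : PSLtwo F, y * x = x * y → y ∉ torus x →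
    y * y = 1 ∧ y * g * y⁻¹ = g⁻¹ ∧ y * n ∈ torus x
  hcard : Nat.card (Subgroup.centralizer ({x} : Set (PSLtwo F))) = 2 * k
  hkq : (k = (Fintype.card F - 1) / 2 ∨ k = (Fintype.card F + 1) / 2)

/-- Lifts of involutions have trace zero and are semisimple. -/
lemma isSemi_of_involution (h2 : (2 : F) ≠ 0) {x : PSLtwo F} (hx : orderOf x = 2) : IsSemi x := by
  obtain ⟨g, rfl⟩ := proj_surjective x
  have hne : proj g ≠ 1 := fun e => by rw [e, orderOf_one] at hx; omega
  have ht : tr g = 0 := (tr_of_pow hne).1 (by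
    have h := pow_orderOf_eq_one (proj g)
    rwa [hx, sq] at h)
  exact ⟨g, rfl, elliptic_or_split_of_tr
    ⟨by rw [ht]; exact h2.symm, by rw [ht]; exact fun e => h2 (by linear_combination e)⟩⟩

lemma isConj_of_involutions (h2 : (2 : F) ≠ 0) {x y : PSLtwo F} (hx : orderOf x = 2)
    (hy : orderOf y = 2) : IsConj x y := by
  have key : ∀ z : PSLtwo F, orderOf z = 2 → ∀ g, proj g = z → tr g = 0 := fun z hz g hg => by
    have hne : proj g ≠ 1 := fun e => by rw [hg] at e; rw [e, orderOf_one] at hz; omega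
    refine (tr_of_pow hne).1 ?_
    have h := pow_orderOf_eq_one z
    rw [hz, sq, ← hg] at h
    exact h
  obtain ⟨u, rfl⟩ := proj_surjective x
  obtain ⟨v, rfl⟩ := proj_surjective y
  exact proj.map_isConj (isConj_of_tr_eq (elliptic_or_split_of_tr (isSemi_of_involution h2 hx).tr_ne)
    ((key _ hx u rfl).trans (key _ hy v rfl).symm))

theorem exists_involutionData (h2 : (2 : F) ≠ 0) {x : PSLtwo F} (hx : orderOf x = 2) :
    Nonempty (InvolutionData x) := by
  classical
  have hs := isSemi_of_involution h2 hx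
  have hx1 := hs.ne_one
  have := isCyclic_torus_semi hs
  obtain ⟨g, hg⟩ := IsCyclic.exists_generator (α := torus x)
  set k := Nat.card (torus x) with hk
  have hgo : orderOf (g : PSLtwo F) = k := by
    rw [Subgroup.orderOf_coe, orderOf_eq_card_of_forall_mem_zpowers hg]
  have hT : torus x = Subgroup.zpowers (g : PSLtwo F) := (Subgroup.eq_of_le_of_card_ge
    (Subgroup.zpowers_le.2 g.2) (by rw [Nat.card_zpowers, hgo])).symm
  have heven : Even k := by
    refine even_iff_two_dvd.2 ?_
    rw [← hx, ← Subgroup.orderOf_mk x (mem_torus_self x)]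
    exact orderOf_dvd_natCard _
  have hk0 : 0 < k := Nat.card_pos
  have hhalf : (g : PSLtwo F) ^ (k / 2) = x := by
    have hxg : x ∈ Subgroup.zpowers (g : PSLtwo F) := hT ▸ mem_torus_self x
    rw [← mem_powers_iff_mem_zpowers, Submonoid.mem_powers_iff] at hxg
    obtain ⟨i, hi⟩ := hxg
    have h2i : (g : PSLtwo F) ^ (2 * i) = 1 := by
      rw [mul_comm, pow_mul, hi, sq, sq_of_orderOf_two hx]
    obtain ⟨j, hj⟩ := orderOf_dvd_of_pow_eq_one h2i
    rw [hgo] at hj
    obtain ⟨m, hm⟩ := heven
    have hij : i = m * j := by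
      rw [hm] at hj; nlinarith
    rcases Nat.even_or_odd j with ⟨t, ht⟩ | ⟨t, ht⟩
    · refine absurd ?_ hx1
      have hk1 : (g : PSLtwo F) ^ k = 1 := by rw [← hgo]; exact pow_orderOf_eq_one _
      refine hi.symm.trans ?_
      rw [hij, ht, show m * (t + t) = k * t by rw [hm]; ring, pow_mul, hk1, one_pow]
    · have hk1 : (g : PSLtwo F) ^ k = 1 := by rw [← hgo]; exact pow_orderOf_eq_one _
      refine Eq.trans ?_ hi
      rw [hij, ht, show m * (2 * t + 1) = k * t + k / 2 by
        rw [hm, show (m + m) / 2 = m by omega]; ring, pow_add, pow_mul, hk1, one_pow, one_mul]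
  obtain ⟨n, hn, hn'⟩ := exists_inverter hs
  have hinvx : x⁻¹ = x := inv_eq_of_mul_eq_one_right (sq_of_orderOf_two hx)
  have hmemN : ∀ y : PSLtwo F, y * x = x * y →
      y ∈ Subgroup.normalizer ((torus x : Subgroup (PSLtwo F)) : Set (PSLtwo F)) := fun y hy => by
    rw [mem_normalizer_torus_iff hx1, mul_inv_eq_iff_eq_mul.2 hy]
    exact mem_torus_self x
  have hcx : ∀ y ∈ Subgroup.normalizer ((torus x : Subgroup (PSLtwo F)) : Set (PSLtwo F)),
      y * x = x * y := fun y hy => by
    by_cases hyT : y ∈ torus x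
    · exact torus_comm hx1 hyT (mem_torus_self x)
    · have h := (normalizer_torus_inverts hs hy hyT).2 x (mem_torus_self x)
      rw [hinvx] at h
      exact mul_inv_eq_iff_eq_mul.1 h
  have hNc := normalizer_torus_card hs
  refine ⟨⟨k, g, n, rfl, heven, hgo, hT, hn', hcx n hn, hhalf, ?_, ?_, ?_⟩⟩
  · intro y hy hyT
    obtain ⟨hy2, hyi⟩ := normalizer_torus_inverts hs (hmemN y hy) hyT
    refine ⟨hy2, hyi g g.2, ?_⟩
    set N := Subgroup.normalizer ((torus x : Subgroup (PSLtwo F)) : Set (PSLtwo F))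
    have hidx : ((torus x).subgroupOf N).index = 2 := by
      have h1 := Subgroup.index_mul_card ((torus x).subgroupOf N)
      rw [Nat.card_congr (Subgroup.subgroupOfEquivOfLe Subgroup.le_normalizer).toEquiv, hNc] at h1
      exact Nat.eq_of_mul_eq_mul_right hk0 h1
    have h := Subgroup.mul_mem_iff_of_index_two hidx (a := (⟨y, hmemN y hy⟩ : N)) (b := ⟨n, hn⟩)
    exact h.2 (iff_of_false hyT hn')
  · rw [← hNc]
    refine Nat.card_congr (Equiv.subtypeEquivRight fun y => ?_)
    rw [Subgroup.mem_centralizer_singleton_iff]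
    exact ⟨hmemN y, hcx y⟩
  · have h := card_torus_semi hs
    have hd : Nat.gcd 2 (Fintype.card F - 1) = 2 := Nat.gcd_eq_left (by
      have := Nat.odd_iff.1 (two_ne_zero_iff_odd.1 h2); omega)
    rwa [hd] at h

/-- `12 · #(four-groups) = |PSL₂(q)|`. -/
theorem card_kleinFour_mul (hodd : Odd (Fintype.card F)) :
    12 * Nat.card {V : Subgroup (PSLtwo F) // IsKleinFour V} = Nat.card (PSLtwo F) := by
  classical
  have h2 : (2 : F) ≠ 0 := two_ne_zero_iff_odd.2 hodd
  let P := {p : PSLtwo F × PSLtwo F // orderOf p.1 = 2 ∧ orderOf p.2 = 2 ∧ p.1 ≠ p.2 ∧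
    p.1 * p.2 = p.2 * p.1}
  have ord2 : ∀ {x : PSLtwo F}, x * x = 1 → x ≠ 1 → orderOf x = 2 := fun h h1 =>
    orderOf_eq_prime (by rw [sq]; exact h) h1
  have sq2 : ∀ {x : PSLtwo F}, orderOf x = 2 → x * x = 1 ∧ x ≠ 1 := fun {x} h =>
    ⟨sq_of_orderOf_two h, fun e => by rw [e, orderOf_one] at h; omega⟩
  have : Finite P := Subtype.finite
  let := Fintype.ofFinite P
  have h6 : Nat.card P = 6 * Nat.card {V : Subgroup (PSLtwo F) // IsKleinFour V} := by
    let f : P → {V : Subgroup (PSLtwo F) // IsKleinFour V} := fun p =>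
      ⟨klein p.1.1 p.1.2 (sq2 p.2.1).1 (sq2 p.2.2.1).1 p.2.2.2.2,
        isKleinFour_klein _ _ _ (sq2 p.2.1).2 (sq2 p.2.2.1).2 p.2.2.2.1⟩
    have := Fintype.ofFinite {V : Subgroup (PSLtwo F) // IsKleinFour V}
    rw [← Nat.card_congr (Equiv.sigmaFiberEquiv f), Nat.card_sigma]
    have : ∀ V, Nat.card {p : P // f p = V} = 6 := by
      rintro ⟨V, hV⟩
      have hN : Nat.card {a : V // a ≠ 1} = 3 := by
        have := Fintype.ofFinite V
        rw [Nat.card_eq_fintype_card, Fintype.card_subtype_compl, Fintype.card_subtype_eq,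
          ← Nat.card_eq_fintype_card, hV.card_four]
      let e : {p : P // f p = ⟨V, hV⟩} ≃ {q : {a : V // a ≠ 1} × {a : V // a ≠ 1} // q.1 ≠ q.2} :=
        { toFun := fun p => ⟨(⟨⟨p.1.1.1, (SetLike.ext_iff.1 (congrArg Subtype.val p.2) _).1 (Or.inr (Or.inl rfl))⟩,
              fun e => (sq2 p.1.2.1).2 (congrArg Subtype.val e)⟩,
            ⟨⟨p.1.1.2, (SetLike.ext_iff.1 (congrArg Subtype.val p.2) _).1 (Or.inr (Or.inr (Or.inl rfl)))⟩,
              fun e => (sq2 p.1.2.2.1).2 (congrArg Subtype.val e)⟩),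
            fun e => p.1.2.2.2.1 (congrArg (fun a => ((a : {a : V // a ≠ 1}).1 : PSLtwo F)) e)⟩
          invFun := fun q =>
            ⟨⟨((q.1.1.1 : PSLtwo F), (q.1.2.1 : PSLtwo F)),
              ord2 (congrArg Subtype.val (IsKleinFour.mul_self q.1.1.1))
                (fun e => q.1.1.2 (Subtype.ext e)),
              ord2 (congrArg Subtype.val (IsKleinFour.mul_self q.1.2.1))
                (fun e => q.1.2.2 (Subtype.ext e)),
              fun e => q.2 (Subtype.ext (Subtype.ext e)),
              congrArg Subtype.val (IsKleinFour.isMulCommutative.is_comm.comm q.1.1.1 q.1.2.1)⟩, by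
              obtain ⟨_, _, _, hVe⟩ := klein_eq_of_mem hV q.1.1.1.2 q.1.2.1.2
                (fun e => q.1.1.2 (Subtype.ext e)) (fun e => q.1.2.2 (Subtype.ext e))
                (fun e => q.2 (Subtype.ext (Subtype.ext e)))
              exact Subtype.ext hVe.symm⟩
          left_inv := fun p => rfl
          right_inv := fun q => rfl }
      rw [Nat.card_congr e, card_offDiag_subtype, hN]
    rw [Finset.sum_congr rfl (fun V _ => this V), Finset.sum_const, smul_eq_mul, Finset.card_univ,
      Nat.card_eq_fintype_card, mul_comm]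
  obtain ⟨x, hx⟩ : ∃ x : PSLtwo F, orderOf x = 2 := by
    refine exists_prime_orderOf_dvd_card' (G := PSLtwo F) 2 ?_
    have hG : Nat.card (PSLtwo F) * Nat.gcd 2 (Fintype.card F - 1) = _ := card_PSL_mul (F := F)
    obtain ⟨t, ht⟩ := hodd
    rw [Nat.gcd_eq_left (show 2 ∣ Fintype.card F - 1 by omega), ht,
      show (2 * t + 1) ^ 2 - 1 = 4 * (t * t + t) from Nat.sub_eq_of_eq_add (by ring)] at hG
    exact ⟨(2 * t + 1) * (t * t + t), by nlinarith⟩
  obtain ⟨d⟩ := exists_involutionData h2 hx
  -- every involution has `k` partners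
  have hfib : ∀ a : PSLtwo F, orderOf a = 2 →
      Nat.card {y : PSLtwo F // orderOf y = 2 ∧ a ≠ y ∧ a * y = y * a} = d.k := by
    intro a ha
    obtain ⟨c, hc⟩ := isConj_iff.1 (isConj_of_involutions h2 hx ha)
    have e1 : {y : PSLtwo F // orderOf y = 2 ∧ a ≠ y ∧ a * y = y * a} ≃
        {y : PSLtwo F // orderOf y = 2 ∧ x ≠ y ∧ x * y = y * x} :=
      Equiv.subtypeEquiv (MulAut.conj c).toEquiv.symm fun y => by
        obtain ⟨z, rfl⟩ := (MulAut.conj c).surjective y
        rw [show a = MulAut.conj c x from hc.symm,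
          show (MulAut.conj c).toEquiv.symm (MulAut.conj c z) = z from
            (MulAut.conj c).symm_apply_apply z,
          MulEquiv.orderOf_eq, (MulAut.conj c).injective.ne_iff, ← map_mul, ← map_mul,
          (MulAut.conj c).injective.eq_iff]
    rw [Nat.card_congr e1]
    have hset : ∀ y : PSLtwo F, (orderOf y = 2 ∧ x ≠ y ∧ x * y = y * x) ↔
        (y ∈ Subgroup.centralizer ({x} : Set (PSLtwo F)) ∧ y ∉ torus x) := by
      intro y
      rw [Subgroup.mem_centralizer_singleton_iff]
      constructor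
      · rintro ⟨hy, hne, hc⟩
        refine ⟨hc.symm, fun hT => hne ?_⟩
        rw [d.hT, ← mem_powers_iff_mem_zpowers, Submonoid.mem_powers_iff] at hT
        obtain ⟨i, rfl⟩ := hT
        obtain ⟨h1, h1'⟩ := sq2 hy
        have hk1 : d.g ^ d.k = 1 := by rw [← d.hg]; exact pow_orderOf_eq_one _
        obtain ⟨j, hj⟩ := orderOf_dvd_of_pow_eq_one (show d.g ^ (2 * i) = 1 by
          rw [mul_comm, pow_mul, sq]; exact h1)
        rw [d.hg] at hj
        obtain ⟨m, hm⟩ := d.heven
        have hij : i = m * j := by rw [hm] at hj; nlinarith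
        rcases Nat.even_or_odd j with ⟨t, ht⟩ | ⟨t, ht⟩
        · exfalso; apply h1'
          rw [hij, ht, show m * (t + t) = d.k * t by rw [hm]; ring, pow_mul, hk1, one_pow]
        · conv_lhs => rw [← d.hhalf]
          rw [hij, ht, show m * (2 * t + 1) = d.k * t + d.k / 2 by
            rw [hm, show (m + m) / 2 = m by omega]; ring, pow_add, pow_mul, hk1, one_pow, one_mul]
      · rintro ⟨hc, hT⟩
        exact ⟨ord2 (d.hout y hc hT).1 (fun e => hT (e ▸ (torus x).one_mem)),
          fun e => hT (e ▸ mem_torus_self x), hc.symm⟩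
    rw [Nat.card_congr (Equiv.subtypeEquivRight hset)]
    have hle : torus x ≤ Subgroup.centralizer ({x} : Set (PSLtwo F)) := fun y hy =>
      Subgroup.mem_centralizer_singleton_iff.2
        (torus_comm (isSemi_of_involution h2 hx).ne_one hy (mem_torus_self x))
    rw [Nat.card_congr (Equiv.subtypeSubtypeEquivSubtypeInter
      (fun y => y ∈ Subgroup.centralizer ({x} : Set (PSLtwo F))) (fun y => y ∉ torus x)).symm,
      Nat.card_eq_fintype_card,
      Fintype.card_subtype_compl, ← Nat.card_eq_fintype_card, ← Nat.card_eq_fintype_card,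
      show Nat.card {y : Subgroup.centralizer ({x} : Set (PSLtwo F)) // (y : PSLtwo F) ∈ torus x} =
        Nat.card ((torus x).subgroupOf (Subgroup.centralizer ({x} : Set (PSLtwo F)))) from rfl,
      Nat.card_congr (Subgroup.subgroupOfEquivOfLe hle).toEquiv, d.hk, d.hcard]
    omega
  have hP : Nat.card P = Nat.card {a : PSLtwo F // IsConj x a} * d.k := by
    have e : P ≃ Σ a : {a : PSLtwo F // IsConj x a},
        {y : PSLtwo F // orderOf y = 2 ∧ (a : PSLtwo F) ≠ y ∧ (a : PSLtwo F) * y = y * a} :=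
      { toFun := fun p => ⟨⟨p.1.1, isConj_of_involutions h2 hx p.2.1⟩, p.1.2, p.2.2⟩
        invFun := fun s => ⟨(s.1.1, s.2.1), by
          obtain ⟨c, hc⟩ := isConj_iff.1 s.1.2
          exact (congrArg orderOf hc.symm).trans
            ((MulEquiv.orderOf_eq (MulAut.conj c) x).trans hx), s.2.2⟩
        left_inv := fun p => rfl
        right_inv := fun s => rfl }
    have := Fintype.ofFinite {a : PSLtwo F // IsConj x a}
    rw [Nat.card_congr e, Nat.card_sigma,
      Finset.sum_congr rfl (fun a _ => hfib a.1 (by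
        obtain ⟨c, hc⟩ := isConj_iff.1 a.2
        exact (congrArg orderOf hc.symm).trans
            ((MulEquiv.orderOf_eq (MulAut.conj c) x).trans hx))),
      Finset.sum_const, smul_eq_mul, Finset.card_univ, Nat.card_eq_fintype_card]
  have hI := card_conj_elements x
  rw [d.hcard] at hI
  rw [← hI, show Nat.card {y : PSLtwo F // IsConj x y} * (2 * d.k) = 2 * Nat.card P by rw [hP]; ring,
    h6]
  ring

/-- The four-group normalisers have order 12 if all four-groups are conjugate. -/
lemma card_normalizer_of_single_class (hodd : Odd (Fintype.card F)) {V : Subgroup (PSLtwo F)}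
    (hV : IsKleinFour V)
    (hall : ∀ W : Subgroup (PSLtwo F), IsKleinFour W → ∃ g, W = V.map (MulAut.conj g).toMonoidHom) :
    Nat.card (Subgroup.normalizer (V : Set (PSLtwo F))) = 12 := by
  have h1 := card_conj_subgroups V
  have h2 := card_kleinFour_mul hodd
  have he : Nat.card {W : Subgroup (PSLtwo F) // ∃ g, W = V.map (MulAut.conj g).toMonoidHom} =
      Nat.card {W : Subgroup (PSLtwo F) // IsKleinFour W} := by
    refine Nat.card_congr (Equiv.subtypeEquivRight fun W => ⟨?_, hall W⟩)
    rintro ⟨g, rfl⟩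
    let e := Subgroup.equivMapOfInjective V (MulAut.conj g).toMonoidHom (MulEquiv.injective _)
    exact ⟨(Nat.card_congr e.toEquiv).symm.trans hV.card_four,
      (Monoid.exponent_eq_of_mulEquiv e).symm.trans hV.exponent_two⟩
  rw [he, ← h2, mul_comm 12] at h1
  have hpos : 0 < Nat.card {W : Subgroup (PSLtwo F) // IsKleinFour W} := by
    have : Nonempty {W : Subgroup (PSLtwo F) // IsKleinFour W} := ⟨⟨V, hV⟩⟩
    exact Nat.card_pos
  exact Nat.eq_of_mul_eq_mul_left hpos h1

/-- Four-group classes. -/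
theorem kleinFour_classes (hodd : Odd (Fintype.card F)) :
    ((Fintype.card F % 8 = 3 ∨ Fintype.card F % 8 = 5) →
      ∀ V W : Subgroup (PSLtwo F), IsKleinFour V → IsKleinFour W →
        ∃ g, W = V.map (MulAut.conj g).toMonoidHom) ∧
    ((Fintype.card F % 8 = 1 ∨ Fintype.card F % 8 = 7) →
      ∃ V₁ V₂ : Subgroup (PSLtwo F), IsKleinFour V₁ ∧ IsKleinFour V₂ ∧
        (¬ ∃ g, V₂ = V₁.map (MulAut.conj g).toMonoidHom) ∧
        ∀ W : Subgroup (PSLtwo F), IsKleinFour W →
          (∃ g, W = V₁.map (MulAut.conj g).toMonoidHom) ∨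
            ∃ g, W = V₂.map (MulAut.conj g).toMonoidHom) := by
  classical
  have h2 : (2 : F) ≠ 0 := two_ne_zero_iff_odd.2 hodd
  obtain ⟨x, hx⟩ : ∃ x : PSLtwo F, orderOf x = 2 := by
    refine exists_prime_orderOf_dvd_card' (G := PSLtwo F) 2 ?_
    rw [← card_kleinFour_mul hodd]
    exact Dvd.intro (6 * Nat.card {V : Subgroup (PSLtwo F) // IsKleinFour V}) (by ring)
  obtain ⟨d⟩ := exists_involutionData h2 hx
  obtain ⟨m, hm⟩ := d.heven
  have hk2 : d.k / 2 = m := by omega
  have hxx : x * x = 1 := sq_of_orderOf_two hx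
  have hxg : x * d.g = d.g * x := by
    have h := (Commute.pow_self d.g (d.k / 2)).eq
    rwa [d.hhalf] at h
  have hn := d.hout d.n d.hcomm d.hn
  have hgi : ∀ i : ℕ, d.g ^ i * x = x * d.g ^ i := fun i => (Commute.pow_right hxg i).eq.symm
  have hbc : ∀ i : ℕ, (d.g ^ i * d.n) * x = x * (d.g ^ i * d.n) := fun i => by
    rw [mul_assoc, d.hcomm, ← mul_assoc, hgi i, mul_assoc]
  have hbT : ∀ i : ℕ, d.g ^ i * d.n ∉ torus x := fun i h => d.hn (by
    have := (torus x).mul_mem ((torus x).inv_mem
      (show d.g ^ i ∈ torus x by rw [d.hT]; exact Subgroup.npow_mem_zpowers _ _)) h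
    rwa [inv_mul_cancel_left] at this)
  let K : ℕ → Subgroup (PSLtwo F) := fun i =>
    klein x (d.g ^ i * d.n) hxx (d.hout _ (hbc i) (hbT i)).1 (hbc i).symm
  have hKm : ∀ i, IsKleinFour (K i) := fun i => isKleinFour_klein _ _ _
    (fun e => by rw [e, orderOf_one] at hx; omega) (fun e => hbT i (e ▸ (torus x).one_mem))
    (fun e => hbT i (by rw [← e]; exact mem_torus_self x))
  have hng : d.n * d.g * d.n⁻¹ = d.g⁻¹ := hn.2.1
  -- conjugation by `g` shifts by two
  have hstep : ∀ i, K (i + 2) = (K i).map (MulAut.conj d.g).toMonoidHom := by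
    intro i
    have e : d.g * (d.g ^ i * d.n) * d.g⁻¹ = d.g ^ (i + 2) * d.n := by
      have hng' : d.n * d.g⁻¹ = d.g * d.n := by
        calc d.n * d.g⁻¹ = (d.n * d.g * d.n⁻¹)⁻¹ * d.n := by group
          _ = d.g * d.n := by rw [hng, inv_inv]
      rw [mul_assoc, mul_assoc (d.g ^ i), hng', ← mul_assoc, ← mul_assoc, ← pow_succ', ← pow_succ]
    refine Subgroup.eq_of_le_of_card_ge ?_ ?_
    · have hgx : d.g * x * d.g⁻¹ = x := mul_inv_eq_iff_eq_mul.2 hxg.symm
      rintro a (rfl | h | rfl | rfl)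
      · exact Subgroup.one_mem _
      · exact ⟨x, Or.inr (Or.inl rfl), hgx.trans h.symm⟩
      · exact ⟨d.g ^ i * d.n, Or.inr (Or.inr (Or.inl rfl)), e⟩
      · refine Subgroup.mul_mem _ ⟨x, Or.inr (Or.inl rfl), hgx⟩ ⟨d.g ^ i * d.n, Or.inr (Or.inr (Or.inl rfl)), e⟩
    · rw [Subgroup.card_map_of_injective (MulEquiv.injective _), (hKm i).card_four,
        (hKm (i + 2)).card_four]
  have hpar : ∀ i, ∃ g, K i = (K (i % 2)).map (MulAut.conj g).toMonoidHom := by
    intro i
    induction i using Nat.strong_induction_on with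
    | _ i ih =>
      rcases Nat.lt_or_ge i 2 with h | h
      · refine ⟨1, ?_⟩
        rw [Nat.mod_eq_of_lt h, show (MulAut.conj (1 : PSLtwo F)).toMonoidHom = MonoidHom.id _ from
          by ext a; simp, Subgroup.map_id]
      · obtain ⟨g, hg⟩ := ih (i - 2) (by omega)
        refine ⟨d.g * g, ?_⟩
        conv_lhs => rw [show i = i - 2 + 2 by omega, hstep, hg, Subgroup.map_map]
        rw [show (i - 2) % 2 = i % 2 by omega]
        congr 1
        ext a; simp [mul_assoc]
  -- the partner
  have hswap : K m = K 0 := by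
    refine (Subgroup.eq_of_le_of_card_ge ?_ (by rw [(hKm m).card_four, (hKm 0).card_four])).symm
    have e : d.g ^ m * d.n = x * (d.g ^ 0 * d.n) := by
      rw [pow_zero, one_mul, ← hk2, d.hhalf]
    rintro a (rfl | rfl | rfl | rfl)
    · exact Or.inl rfl
    · exact Or.inr (Or.inl rfl)
    · exact Or.inr (Or.inr (Or.inr (by rw [e, ← mul_assoc, hxx, one_mul]; exact Set.mem_singleton _)))
    · exact Or.inr (Or.inr (Or.inl e.symm))
  -- every four-group is conjugate to some `K i`
  have hev : ∀ W : Subgroup (PSLtwo F), IsKleinFour W →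
      (∃ g, W = (K 0).map (MulAut.conj g).toMonoidHom) ∨
        ∃ g, W = (K 1).map (MulAut.conj g).toMonoidHom := by
    intro W hW
    have : Nontrivial W := Finite.one_lt_card_iff_nontrivial.1 (by rw [hW.card_four]; norm_num)
    obtain ⟨w, hw⟩ := exists_ne (1 : W)
    have hw2 : orderOf (w : PSLtwo F) = 2 := by
      rw [Subgroup.orderOf_coe]
      exact orderOf_eq_prime (by rw [sq]; exact IsKleinFour.mul_self w) hw
    obtain ⟨c, hc⟩ := isConj_iff.1 (isConj_of_involutions h2 hw2 hx)
    set W' := W.map (MulAut.conj c).toMonoidHom with hW'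
    let e := Subgroup.equivMapOfInjective W (MulAut.conj c).toMonoidHom (MulEquiv.injective _)
    have hW'K : IsKleinFour W' := ⟨(Nat.card_congr e.toEquiv).symm.trans hW.card_four,
      (Monoid.exponent_eq_of_mulEquiv e).symm.trans hW.exponent_two⟩
    have hxW : x ∈ W' := ⟨w, w.2, hc⟩
    have hx1 : x ≠ 1 := fun e => by rw [e, orderOf_one] at hx; omega
    obtain ⟨y, hyW, hy1, hyx⟩ : ∃ y ∈ W', y ≠ 1 ∧ x ≠ y := by
      by_contra hcon
      push Not at hcon
      have hle : (W' : Set (PSLtwo F)) ⊆ ({1, x} : Set (PSLtwo F)) := fun a ha => by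
        by_cases h1 : a = 1
        · exact Or.inl h1
        · exact Or.inr (hcon a ha h1).symm
      have h4 := Set.ncard_le_ncard hle
      rw [← Nat.card_coe_set_eq, show Nat.card (W' : Set (PSLtwo F)) = 4 from hW'K.card_four] at h4
      have : ({1, x} : Set (PSLtwo F)).ncard ≤ 2 :=
        le_trans (Set.ncard_insert_le _ _) (by simp)
      omega
    obtain ⟨hx', hy', hxy, hWe⟩ := klein_eq_of_mem hW'K hxW hyW hx1 hy1 hyx
    have hyT : y ∉ torus x := by
      intro hT
      rw [d.hT, ← mem_powers_iff_mem_zpowers, Submonoid.mem_powers_iff] at hT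
      obtain ⟨i, rfl⟩ := hT
      obtain ⟨j, hj⟩ := orderOf_dvd_of_pow_eq_one (show d.g ^ (2 * i) = 1 by
        rw [mul_comm, pow_mul, sq]; exact hy')
      rw [d.hg] at hj
      have hk1 : d.g ^ d.k = 1 := by rw [← d.hg]; exact pow_orderOf_eq_one _
      have hij : i = m * j := by rw [hm] at hj; nlinarith
      rcases Nat.even_or_odd j with ⟨t, ht⟩ | ⟨t, ht⟩
      · apply hy1
        rw [hij, ht, show m * (t + t) = d.k * t by rw [hm]; ring, pow_mul, hk1, one_pow]
      · apply hyx
        conv_lhs => rw [← d.hhalf]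
        rw [hij, ht, show m * (2 * t + 1) = d.k * t + d.k / 2 by rw [hk2, hm]; ring, pow_add,
          pow_mul, hk1, one_pow, one_mul]
    obtain ⟨i, hi⟩ : ∃ i : ℕ, y = d.g ^ i * d.n := by
      have h := (d.hout y hxy.symm hyT).2.2
      rw [d.hT, ← mem_powers_iff_mem_zpowers, Submonoid.mem_powers_iff] at h
      obtain ⟨i, hi⟩ := h
      exact ⟨i, by rw [hi, mul_assoc, hn.1, mul_one]⟩
    have hWK : W' = K i := by rw [hWe]; subst hi; rfl
    obtain ⟨g, hg⟩ := hpar i
    have hWW : W = (K (i % 2)).map (MulAut.conj (c⁻¹ * g)).toMonoidHom := by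
      have : W = W'.map (MulAut.conj c⁻¹).toMonoidHom := by
        rw [hW', Subgroup.map_map]
        ext a; simp [mul_assoc]
      rw [this, hWK, hg, Subgroup.map_map]
      congr 1
      ext a; simp [mul_assoc]
    rcases Nat.mod_two_eq_zero_or_one i with h | h <;> rw [h] at hWW
    exacts [Or.inl ⟨_, hWW⟩, Or.inr ⟨_, hWW⟩]
  have hmq : (Fintype.card F % 8 = 3 ∨ Fintype.card F % 8 = 5 → m % 2 = 1) ∧
      (Fintype.card F % 8 = 1 ∨ Fintype.card F % 8 = 7 → m % 2 = 0) := by
    have := d.hkq
    constructor <;> intro h <;> rcases h with h | h <;> omega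
  refine ⟨fun hq V W hV hW => ?_, fun hq => ?_⟩
  · -- one class
    obtain ⟨γ, hγ⟩ := hpar m
    rw [hmq.1 hq, hswap] at hγ
    have hone : ∀ U : Subgroup (PSLtwo F), IsKleinFour U →
        ∃ g, U = (K 1).map (MulAut.conj g).toMonoidHom := fun U hU => by
      rcases hev U hU with ⟨g, hg⟩ | h
      · exact ⟨g * γ, by rw [hg, hγ, Subgroup.map_map]; congr 1; ext a; simp [mul_assoc]⟩
      · exact h
    obtain ⟨a, ha⟩ := hone V hV
    obtain ⟨b, hb⟩ := hone W hW
    refine ⟨b * a⁻¹, ?_⟩
    rw [hb, ha, Subgroup.map_map]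
    congr 1; ext z; simp [mul_assoc]
  · refine ⟨K 0, K 1, hKm 0, hKm 1, ?_, hev⟩
    rintro ⟨g, hg⟩
    have hall : ∀ U : Subgroup (PSLtwo F), IsKleinFour U →
        ∃ g, U = (K 0).map (MulAut.conj g).toMonoidHom := fun U hU => by
      rcases hev U hU with h | ⟨a, ha⟩
      · exact h
      · exact ⟨a * g, by rw [ha, hg, Subgroup.map_map]; congr 1; ext z; simp [mul_assoc]⟩
    have h12 := card_normalizer_of_single_class hodd (hKm 0) hall
    -- an element `u` of the torus with `u² = x` normalises `K 0`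
    obtain ⟨j, hj⟩ : ∃ j, m = 2 * j := ⟨m / 2, by have := hmq.2 hq; omega⟩
    set u := d.g ^ j with hu
    have huu : u * u = x := by rw [hu, ← pow_add, ← two_mul, ← hj, ← hk2, d.hhalf]
    have hn0 : d.g ^ 0 * d.n = d.n := by rw [pow_zero, one_mul]
    have hux : u * x = x * u := hgi j
    have hconj : d.n * u * d.n⁻¹ = u⁻¹ := by rw [hu, ← conj_pow, hng, inv_pow]
    have hKmem : ∀ a, a ∈ K 0 ↔ a = 1 ∨ a = x ∨ a = d.n ∨ a = x * d.n := fun a => by
      show a = 1 ∨ a = x ∨ a = d.g ^ 0 * d.n ∨ a = x * (d.g ^ 0 * d.n) ↔ _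
      rw [hn0]
    have huN : u * d.n * u⁻¹ = x * d.n := by
      calc u * d.n * u⁻¹ = u * (d.n * u⁻¹ * d.n⁻¹) * d.n := by group
        _ = u * (d.n * u * d.n⁻¹)⁻¹ * d.n := by group
        _ = x * d.n := by rw [hconj, inv_inv, huu]
    have huxx : u * x * u⁻¹ = x := mul_inv_eq_iff_eq_mul.2 hux
    have hmap : (K 0).map (MulAut.conj u).toMonoidHom = K 0 := by
      refine Subgroup.eq_of_le_of_card_ge ?_
        (by rw [Subgroup.card_map_of_injective (MulEquiv.injective _)])
      rintro _ ⟨a, ha, rfl⟩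
      rw [hKmem]
      show u * a * u⁻¹ = 1 ∨ _
      rcases (hKmem a).1 ha with rfl | rfl | rfl | rfl
      · exact Or.inl (by simp)
      · exact Or.inr (Or.inl huxx)
      · exact Or.inr (Or.inr (Or.inr huN))
      · refine Or.inr (Or.inr (Or.inl ?_))
        show u * (x * d.n) * u⁻¹ = d.n
        rw [show u * (x * d.n) * u⁻¹ = (u * x * u⁻¹) * (u * d.n * u⁻¹) by group, huxx, huN,
          ← mul_assoc, hxx, one_mul]
    have hNu : u ∈ Subgroup.normalizer ((K 0 : Subgroup (PSLtwo F)) : Set (PSLtwo F)) := by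
      rw [Subgroup.mem_normalizer_iff]
      intro a
      conv_rhs => rw [← hmap, Subgroup.mem_map_equiv]
      simp [mul_assoc]
    have hKN : K 0 ≤ Subgroup.normalizer ((K 0 : Subgroup (PSLtwo F)) : Set (PSLtwo F)) :=
      Subgroup.le_normalizer
    let D : Subgroup (PSLtwo F) := K 0 ⊔ Subgroup.zpowers u
    have huK : u ∉ K 0 := fun h => by
      have hu2 : u * u = 1 := congrArg Subtype.val
        (@IsKleinFour.mul_self _ _ (hKm 0) (⟨u, h⟩ : K 0))
      rw [huu] at hu2
      rw [hu2, orderOf_one] at hx; omega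
    have hu4 : orderOf u = 4 := by
      have : Fact (Nat.Prime 2) := ⟨Nat.prime_two⟩
      refine orderOf_eq_prime_pow (p := 2) (n := 1) ?_ ?_
      · rw [pow_one, sq, huu]; intro e; rw [e, orderOf_one] at hx; omega
      · rw [show (2 : ℕ) ^ (1 + 1) = 2 * 2 by norm_num, pow_mul, sq u, huu, sq, hxx]
    have hD8 : Nat.card D = 8 := by
      have hle : Subgroup.zpowers u ≤ Subgroup.normalizer ((K 0 : Subgroup (PSLtwo F)) : Set (PSLtwo F)) :=
        Subgroup.zpowers_le.2 hNu
      have hD : D ≤ Subgroup.normalizer ((K 0 : Subgroup (PSLtwo F)) : Set (PSLtwo F)) :=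
        sup_le hKN hle
      have hp : IsPGroup 2 D := IsPGroup.to_sup_of_normal_left'
        (IsPGroup.of_card (n := 2) (hKm 0).card_four)
        (IsPGroup.of_card (n := 2) (by rw [Nat.card_zpowers, hu4]; norm_num)) hle
      obtain ⟨a, ha⟩ := IsPGroup.iff_card.1 hp
      have hdvd : Nat.card D ∣ 12 := h12 ▸ Subgroup.card_dvd_of_le hD
      have hlt : K 0 < D := lt_of_le_of_ne le_sup_left fun e =>
        huK (e.symm ▸ Subgroup.mem_sup_right (Subgroup.mem_zpowers u))
      obtain ⟨b, hb⟩ := Subgroup.card_dvd_of_le hlt.le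
      rw [(hKm 0).card_four] at hb
      have hb1 : b ≠ 1 := fun h => hlt.ne (Subgroup.eq_of_le_of_card_ge hlt.le
        (by rw [(hKm 0).card_four, hb, h, mul_one]))
      rw [ha] at hb hdvd ⊢
      have hle12 := Nat.le_of_dvd (by norm_num) hdvd
      have ha4 : a < 4 := by
        by_contra h
        have := Nat.pow_le_pow_right two_pos (show 4 ≤ a by omega)
        omega
      interval_cases a <;> omega
    have hdvd : Nat.card D ∣ 12 :=
      h12 ▸ Subgroup.card_dvd_of_le (sup_le hKN (Subgroup.zpowers_le.2 hNu))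
    rw [hD8] at hdvd
    norm_num at hdvd

end Cfsg.Agent.Lib.SL2
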