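import Cfsg.Agent.Lib.SL2.NormalizerSL
import Cfsg.Agent.Lib.SL2.KleinFour

/-!
# Sylow 2-subgroups of `SL(2, q)`, `q` odd: centraliser and normaliser
-/

set_option autoImplicit false

namespace Cfsg.Agent.Lib.SL2

open Matrix

variable {F : Type*} [Field F]

/-- Elements squaring to one are central. -/
lemma mem_center_of_mul_self (h2 : (2 : F) ≠ 0) {a : SLtwo F} (ha : a * a = 1) :
    a ∈ Subgroup.center (SLtwo F) := by
  have hi : a⁻¹ = a := inv_eq_of_mul_eq_one_right ha
  have e00 : a 1 1 = a 0 0 := by rw [← inv_00 a, hi]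
  have e01 : a 0 1 = 0 := by
    have h : -a 0 1 = a 0 1 := by rw [← inv_01 a, hi]
    exact (mul_eq_zero.1 (show (2 : F) * a 0 1 = 0 by linear_combination -h)).resolve_left h2
  have e10 : a 1 0 = 0 := by
    have h : -a 1 0 = a 1 0 := by rw [← inv_10 a, hi]
    exact (mul_eq_zero.1 (show (2 : F) * a 1 0 = 0 by linear_combination -h)).resolve_left h2
  have hd := det_entries a
  rw [e00, e01, zero_mul, sub_zero] at hd
  rw [mem_center_iff_eq]
  rcases mul_self_eq_one_iff.1 hd with h | h
  · exact Or.inl (ext_entries (by simp [h]) (by simp [e01]) (by simp [e10]) (by simp [e00, h]))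
  · exact Or.inr (ext_entries (by simp [h]) (by simp [e01]) (by simp [e10]) (by simp [e00, h]))

variable [Fintype F]

/-- There is a Sylow 2-subgroup with the stated properties. -/
theorem exists_sylowTwo_facts (hodd : Odd (Fintype.card F)) :
    ∃ S : Sylow 2 (SLtwo F),
      Subgroup.centralizer ((S : Subgroup (SLtwo F)) : Set (SLtwo F)) = Subgroup.center (SLtwo F) ∧
      ((Fintype.card F % 8 = 1 ∨ Fintype.card F % 8 = 7) →
        Subgroup.normalizer ((S : Subgroup (SLtwo F)) : Set (SLtwo F)) = (S : Subgroup (SLtwo F))) ∧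
      ((Fintype.card F % 8 = 3 ∨ Fintype.card F % 8 = 5) →
        Nat.card (Subgroup.normalizer ((S : Subgroup (SLtwo F)) : Set (SLtwo F))) = 3 * Nat.card S) := by
  classical
  have : Fact (Nat.Prime 2) := ⟨Nat.prime_two⟩
  have h2 : (2 : F) ≠ 0 := two_ne_zero_iff_odd.2 hodd
  have hq := Nat.odd_iff.1 hodd
  have hq3 : 3 ≤ Fintype.card F := by
    have := Fintype.one_lt_card (α := F)
    omega
  -- the torus with order divisible by four
  obtain ⟨g, hg, m, r, hm, hr, hC, hcyc, hG, hr3⟩ : ∃ (g : SLtwo F),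
      (IsElliptic g ∨ IsSplit g) ∧ ∃ m r : ℕ, m % 2 = 1 ∧ 2 ≤ r ∧
      Nat.card (Subgroup.centralizer ({g} : Set (SLtwo F))) = 2 ^ r * m ∧
      IsCyclic (Subgroup.centralizer ({g} : Set (SLtwo F))) ∧
      (∃ u, u % 2 = 1 ∧ Nat.card (SLtwo F) = 2 ^ (r + 1) * u) ∧
      ((Fintype.card F % 8 = 1 ∨ Fintype.card F % 8 = 7) ↔ 3 ≤ r) := by
    have split : ∀ a : ℕ, a % 4 = 0 → 0 < a →
        ∃ m r, m % 2 = 1 ∧ 2 ≤ r ∧ a = 2 ^ r * m ∧ (a % 8 = 0 ↔ 3 ≤ r) := by
      intro a ha h0
      obtain ⟨r, m, hm, rfl⟩ := Nat.exists_eq_pow_mul_and_not_dvd h0.ne' 2 (by norm_num)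
      have hr : 2 ≤ r := by
        rcases r with _ | _ | r
        · simp at ha; omega
        · simp at ha; omega
        · omega
      refine ⟨m, r, by omega, hr, rfl, ⟨fun h => ?_, fun h => ?_⟩⟩
      · by_contra h'
        obtain rfl : r = 2 := by omega
        norm_num at h
        omega
      · obtain ⟨s, rfl⟩ : ∃ s, r = 3 + s := ⟨r - 3, by omega⟩
        rw [pow_add, show (2 : ℕ) ^ 3 = 8 by norm_num, mul_assoc]
        exact Nat.mul_mod_right 8 _
    have hsq : Fintype.card F ^ 2 - 1 = (Fintype.card F - 1) * (Fintype.card F + 1) := by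
      rw [mul_comm, ← Nat.sq_sub_sq, one_pow]
    rcases (show Fintype.card F % 4 = 1 ∨ Fintype.card F % 4 = 3 by omega) with h4 | h4
    · obtain ⟨g, hg⟩ := exists_split (F := F) (by omega)
      obtain ⟨m, r, hm, hr, he, h8⟩ := split (Fintype.card F - 1) (by omega) (by omega)
      refine ⟨g, Or.inr hg, m, r, hm, hr, (card_centralizer_split hg).trans he,
        isCyclic_centralizer_split hg,
        ⟨m * ((Fintype.card F + 1) / 2) * Fintype.card F, ?_, ?_⟩, ?_⟩
      · have hb : (Fintype.card F + 1) / 2 % 2 = 1 := by omega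
        simp [Nat.mul_mod, hm, hb, hq]
      · rw [card_SLtwo, hsq, pow_succ, he,
          show Fintype.card F + 1 = 2 * ((Fintype.card F + 1) / 2) by omega]
        simp only [Nat.mul_div_cancel_left _ two_pos]
        ring
      · rw [← h8]; omega
    · obtain ⟨g, hg⟩ := exists_elliptic (F := F)
      obtain ⟨m, r, hm, hr, he, h8⟩ := split (Fintype.card F + 1) (by omega) (by omega)
      refine ⟨g, Or.inl hg, m, r, hm, hr, (card_centralizer_elliptic hg).trans he,
        isCyclic_centralizer_elliptic hg,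
        ⟨m * ((Fintype.card F - 1) / 2) * Fintype.card F, ?_, ?_⟩, ?_⟩
      · have hb : (Fintype.card F - 1) / 2 % 2 = 1 := by omega
        simp [Nat.mul_mod, hm, hb, hq]
      · rw [card_SLtwo, hsq, pow_succ, he,
          show Fintype.card F - 1 = 2 * ((Fintype.card F - 1) / 2) by omega]
        simp only [Nat.mul_div_cancel_left _ two_pos]
        ring
      · rw [← h8]; omega
  obtain ⟨u, hu, hG⟩ := hG
  have hgc : g ∉ Subgroup.center (SLtwo F) :=
    hg.elim IsElliptic.notMem_center IsSplit.notMem_center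
  obtain ⟨hNc, hNsq, -⟩ := normalizer_centralizer_facts h2 hg
  set C := Subgroup.centralizer ({g} : Set (SLtwo F)) with hCdef
  set N := Subgroup.normalizer (C : Set (SLtwo F)) with hNdef
  have hCN : C ≤ N := Subgroup.le_normalizer
  obtain ⟨n, hnN, hnC⟩ : ∃ n ∈ N, n ∉ C := by
    by_contra hcon
    push Not at hcon
    have := Subgroup.card_dvd_of_le (show N ≤ C from hcon)
    rw [hNc] at this
    have h' := Nat.le_of_dvd Nat.card_pos this
    have : 0 < Nat.card C := Nat.card_pos
    omega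
  have hinv : ∀ v ∈ N, v ∉ C → ∀ a ∈ C, v * a * v⁻¹ = a⁻¹ := by
    intro v hv hvC a ha
    have hva : v * a ∉ C := fun h => hvC (by simpa using C.mul_mem h (C.inv_mem ha))
    have e : v * a * (v * a) = v * v := (hNsq _ (N.mul_mem hv (hCN ha)) hva).trans (hNsq v hv hvC).symm
    calc v * a * v⁻¹ = a⁻¹ * (v⁻¹ * (v * a * (v * a))) * v⁻¹ := by group
      _ = a⁻¹ * (v⁻¹ * (v * v)) * v⁻¹ := by rw [e]
      _ = a⁻¹ := by group
  -- the cyclic 2-part
  obtain ⟨g0, hg0⟩ := IsCyclic.exists_generator (α := C)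
  have hg0o : orderOf (g0 : SLtwo F) = 2 ^ r * m := by
    rw [Subgroup.orderOf_coe, orderOf_eq_card_of_forall_mem_zpowers hg0, hC]
  have hC0 : C = Subgroup.zpowers (g0 : SLtwo F) := (Subgroup.eq_of_le_of_card_ge
    (Subgroup.zpowers_le.2 g0.2) (by rw [Nat.card_zpowers, hg0o, hC])).symm
  set t := (g0 : SLtwo F) ^ m with ht
  have htC : t ∈ C := C.pow_mem g0.2 m
  have hto : orderOf t = 2 ^ r := by
    rw [ht, orderOf_pow_of_dvd (by omega) (hg0o ▸ Dvd.intro_left _ rfl), hg0o,
      Nat.mul_div_cancel _ (by omega)]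
  have htwo : ∀ x ∈ C, ∀ k : ℕ, x ^ 2 ^ k = 1 → x ∈ Subgroup.zpowers t := by
    intro x hx k hk
    rw [hC0, ← mem_powers_iff_mem_zpowers, Submonoid.mem_powers_iff] at hx
    obtain ⟨i, rfl⟩ := hx
    rw [← pow_mul] at hk
    have hd := orderOf_dvd_of_pow_eq_one hk
    rw [hg0o] at hd
    have hcop : Nat.Coprime m (2 ^ k) :=
      Nat.Coprime.pow_right _ (Nat.coprime_two_right.2 (Nat.odd_iff.2 hm))
    obtain ⟨j, rfl⟩ : m ∣ i := hcop.dvd_of_dvd_mul_right (dvd_trans (Dvd.intro_left _ rfl) hd)
    rw [pow_mul]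
    exact Subgroup.npow_mem_zpowers _ _
  have htc : t ∉ Subgroup.center (SLtwo F) := by
    intro h
    have h4 : 4 ≤ 2 ^ r := by
      calc 4 = 2 ^ 2 := by norm_num
        _ ≤ 2 ^ r := Nat.pow_le_pow_right two_pos hr
    have h' := Subgroup.card_dvd_of_le (Subgroup.zpowers_le.2 h)
    rw [Nat.card_zpowers, hto, card_center_odd h2] at h'
    have := Nat.le_of_dvd two_pos h'
    omega
  have hCt : Subgroup.centralizer ({t} : Set (SLtwo F)) = C := centralizer_eq_of_mem hgc htC htc
  have hnle : Subgroup.zpowers n ≤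
      Subgroup.normalizer ((Subgroup.zpowers t : Subgroup (SLtwo F)) : Set (SLtwo F)) := by
    rw [Subgroup.zpowers_le, Subgroup.mem_normalizer_iff_map_conj_eq, MonoidHom.map_zpowers]
    show Subgroup.zpowers (n * t * n⁻¹) = _
    rw [hinv n hnN hnC t htC, Subgroup.zpowers_inv]
  set S0 := Subgroup.zpowers t ⊔ Subgroup.zpowers n with hS0
  have htS : t ∈ S0 := Subgroup.mem_sup_left (Subgroup.mem_zpowers t)
  have hnS : n ∈ S0 := Subgroup.mem_sup_right (Subgroup.mem_zpowers n)
  have hS0N : S0 ≤ N := sup_le (Subgroup.zpowers_le.2 (hCN htC)) (Subgroup.zpowers_le.2 hnN)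
  have hn4 : n ^ 4 = 1 := by
    rw [show (4 : ℕ) = 2 * 2 from rfl, pow_mul, sq n, hNsq n hnN hnC, sq]
    simp
  have hp : IsPGroup 2 S0 := IsPGroup.to_sup_of_normal_left'
    (IsPGroup.of_card (n := r) (by rw [Nat.card_zpowers, hto]))
    (by
      obtain ⟨j, -, hj⟩ := (Nat.dvd_prime_pow Nat.prime_two (m := 2)).1
        (orderOf_dvd_of_pow_eq_one (show n ^ 2 ^ 2 = 1 by norm_num [hn4]))
      exact IsPGroup.of_card (n := j) (by rw [Nat.card_zpowers, hj])) hnle
  obtain ⟨s, hs⟩ := IsPGroup.iff_card.1 hp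
  have hs' : s = r + 1 := by
    have h1 : 2 ^ s ∣ 2 ^ (r + 1) := by
      have := S0.card_subgroup_dvd_card
      rw [hs, hG] at this
      exact (Nat.Coprime.pow_left _ (Nat.coprime_two_left.2 (Nat.odd_iff.2 hu))).dvd_of_dvd_mul_right this
    have hlt : Subgroup.zpowers t < S0 := lt_of_le_of_ne le_sup_left fun e =>
      hnC (Subgroup.zpowers_le.2 htC (e.symm ▸ hnS))
    obtain ⟨b, hb⟩ := Subgroup.card_dvd_of_le hlt.le
    rw [Nat.card_zpowers, hto, hs] at hb
    have hb1 : b ≠ 1 := fun h => hlt.ne (Subgroup.eq_of_le_of_card_ge hlt.le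
      (by rw [Nat.card_zpowers, hto, hs, hb, h, mul_one]))
    have h1' := (Nat.pow_dvd_pow_iff_le_right one_lt_two).1 h1
    rcases Nat.lt_or_ge s (r + 1) with h | h
    · exfalso
      have := Nat.pow_le_pow_right two_pos (show s ≤ r by omega)
      have hb0 : 0 < b := by
        rcases Nat.eq_zero_or_pos b with rfl | h0
        · simp at hb
        · exact h0
      have : 2 ^ r * 2 ≤ 2 ^ r * b := Nat.mul_le_mul_left _ (by omega)
      have : 0 < 2 ^ r := Nat.two_pow_pos r
      omega
    · omega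
  subst hs'
  have hi : ¬ 2 ∣ S0.index := by
    have := Subgroup.index_mul_card S0
    rw [hs, hG, mul_comm (2 ^ (r + 1))] at this
    rw [Nat.eq_of_mul_eq_mul_right (Nat.two_pow_pos _) this]
    omega
  refine ⟨hp.toSylow hi, ?_, ?_, ?_⟩
  · show Subgroup.centralizer ((S0 : Subgroup (SLtwo F)) : Set (SLtwo F)) = _
    refine le_antisymm (fun c hc => ?_) (Subgroup.center_le_centralizer _)
    rw [Subgroup.mem_centralizer_iff] at hc
    have hcC : c ∈ C := hCt ▸ Subgroup.mem_centralizer_singleton_iff.2 (hc t htS).symm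
    have e := hinv n hnN hnC c hcC
    rw [hc n hnS, mul_inv_cancel_right] at e
    exact mem_center_of_mul_self h2 (mul_eq_one_iff_eq_inv.2 e)
  · intro h8
    have hr' := hr3.1 h8
    show Subgroup.normalizer ((S0 : Subgroup (SLtwo F)) : Set (SLtwo F)) = S0
    refine le_antisymm (fun v hv => ?_) Subgroup.le_normalizer
    have hmem : ∀ x ∈ S0, x ∈ C → x ∈ Subgroup.zpowers t := fun x hx hxC => by
      obtain ⟨k, hk⟩ := hp ⟨x, hx⟩
      exact htwo x hxC k (congrArg Subtype.val hk)
    have hvt : v * t * v⁻¹ ∈ S0 := (Subgroup.mem_normalizer_iff.1 hv t).1 htS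
    have hvtC : v * t * v⁻¹ ∈ C := by
      by_contra hn'
      have h := hNsq _ (hS0N hvt) hn'
      have h4 : (v * t * v⁻¹) ^ 4 = 1 := by
        rw [show (4 : ℕ) = 2 * 2 from rfl, pow_mul, sq (v * t * v⁻¹), h, sq]; simp
      rw [conj_pow, conj_eq_one_iff] at h4
      have := Nat.le_of_dvd (by norm_num) (orderOf_dvd_of_pow_eq_one h4)
      rw [hto] at this
      have := Nat.pow_le_pow_right two_pos hr'
      omega
    have hvN : v ∈ N := by
      have hc' : Subgroup.centralizer ({v * t * v⁻¹} : Set (SLtwo F)) = C := by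
        refine centralizer_eq_of_mem hgc hvtC fun h => htc ?_
        have := (Subgroup.Normal.conj_mem (inferInstance : (Subgroup.center (SLtwo F)).Normal) _ h v⁻¹)
        simpa [mul_assoc] using this
      rw [hNdef, Subgroup.mem_normalizer_iff]
      intro x
      conv_lhs => rw [← hCt]
      conv_rhs => rw [← hc']
      rw [Subgroup.mem_centralizer_singleton_iff, Subgroup.mem_centralizer_singleton_iff]
      constructor
      · intro h
        calc v * x * v⁻¹ * (v * t * v⁻¹) = v * (x * t) * v⁻¹ := by group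
          _ = v * (t * x) * v⁻¹ := by rw [h]
          _ = v * t * v⁻¹ * (v * x * v⁻¹) := by group
      · intro h
        calc x * t = v⁻¹ * (v * x * v⁻¹ * (v * t * v⁻¹)) * v := by group
          _ = v⁻¹ * (v * t * v⁻¹ * (v * x * v⁻¹)) * v := by rw [h]
          _ = t * x := by group
    have key : ∀ w ∈ C, w ∈ Subgroup.normalizer ((S0 : Subgroup (SLtwo F)) : Set (SLtwo F)) →
        w ∈ S0 := by
      intro w hwC hw
      have hwn : w * n * w⁻¹ * n⁻¹ ∈ S0 :=
        S0.mul_mem ((Subgroup.mem_normalizer_iff.1 hw n).1 hnS) (S0.inv_mem hnS)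
      have e : w * n * w⁻¹ * n⁻¹ = w * w := by
        have h := hinv n hnN hnC w⁻¹ (C.inv_mem hwC)
        rw [inv_inv] at h
        calc w * n * w⁻¹ * n⁻¹ = w * (n * w⁻¹ * n⁻¹) := by group
          _ = w * w := by rw [h]
      rw [e] at hwn
      obtain ⟨k, hk⟩ := hp ⟨w * w, hwn⟩
      have hk' : (w * w) ^ 2 ^ k = 1 := congrArg Subtype.val hk
      refine Subgroup.mem_sup_left (htwo w hwC (k + 1) ?_)
      rw [pow_succ', pow_mul, sq]
      exact hk'
    by_cases hvC : v ∈ C
    · exact key v hvC hv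
    · have hidx : (C.subgroupOf N).index = 2 := by
        have h1 := Subgroup.index_mul_card (C.subgroupOf N)
        rw [Nat.card_congr (Subgroup.subgroupOfEquivOfLe hCN).toEquiv, hNc] at h1
        exact Nat.eq_of_mul_eq_mul_right Nat.card_pos h1
      have hw : v * n⁻¹ ∈ C := ((Subgroup.mul_mem_iff_of_index_two hidx
        (a := (⟨v, hvN⟩ : N)) (b := ⟨n⁻¹, N.inv_mem hnN⟩)).2
          (iff_of_false hvC (fun h => hnC (by simpa using C.inv_mem h))) : _)
      have := S0.mul_mem (key _ hw (Subgroup.mul_mem _ hv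
        (Subgroup.inv_mem _ (Subgroup.le_normalizer hnS)))) hnS
      rwa [inv_mul_cancel_right] at this
  · intro h8
    obtain rfl : r = 2 := by
      have := mt hr3.2 (by omega)
      omega
    show Nat.card (Subgroup.normalizer ((S0 : Subgroup (SLtwo F)) : Set (SLtwo F))) = 3 * Nat.card S0
    have hsqc : ∀ x ∈ S0, x * x ∈ Subgroup.center (SLtwo F) := by
      intro x hx
      by_cases hxC : x ∈ C
      · refine mem_center_of_mul_self h2 ?_
        obtain ⟨k, hk⟩ := hp ⟨x, hx⟩
        have hd := orderOf_dvd_of_mem_zpowers (htwo x hxC k (congrArg Subtype.val hk))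
        rw [hto] at hd
        rw [← sq, ← sq, ← pow_mul]
        exact orderOf_dvd_iff_pow_eq_one.1 hd
      · rw [hNsq x (hS0N hx) hxC]
        exact (mem_center_iff_eq _).2 (Or.inr rfl)
    have hZ : Subgroup.center (SLtwo F) ≤ S0 := by
      intro z hz
      rcases (mem_center_iff_eq z).1 hz with rfl | rfl
      · exact S0.one_mem
      · rw [← hNsq n hnN hnC]; exact S0.mul_mem hnS hnS
    have hker : (proj (F := F)).ker = Subgroup.center (SLtwo F) := QuotientGroup.ker_mk' _
    set V := S0.map (proj (F := F)) with hVdef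
    have hcom : V.comap proj = S0 := Subgroup.comap_map_eq_self (hker.trans_le hZ)
    have hcard2 : ∀ H : Subgroup (PSLtwo F), Nat.card (H.comap proj) = 2 * Nat.card H := by
      intro H
      have h1 := Subgroup.index_mul_card (H.comap proj)
      have h3 := Subgroup.index_mul_card H
      rw [Subgroup.index_comap_of_surjective H proj_surjective] at h1
      have hSL : Nat.card (SLtwo F) = Nat.card (PSLtwo F) * 2 := by
        rw [← card_center_odd h2]
        exact Subgroup.card_eq_card_quotient_mul_card_subgroup _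
      rw [hSL, ← h3, mul_assoc] at h1
      rw [Nat.eq_of_mul_eq_mul_left (Nat.pos_of_ne_zero Subgroup.index_ne_zero_of_finite) h1]
      ring
    have hV4 : Nat.card V = 4 := by
      have := hcard2 V
      rw [hcom, hs] at this
      norm_num [-Nat.card_eq_fintype_card] at this
      omega
    have hV : IsKleinFour V := by
      refine ⟨hV4, ?_⟩
      have hd : Monoid.exponent V ∣ 2 := Monoid.exponent_dvd_of_forall_pow_eq_one fun a => by
        obtain ⟨x, hx, hxa⟩ := a.2
        apply Subtype.ext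
        show (a : PSLtwo F) ^ 2 = 1
        rw [← hxa, ← map_pow, sq, proj_eq_one_iff]
        exact hsqc x hx
      rcases (Nat.dvd_prime Nat.prime_two).1 hd with h | h
      · exfalso
        have := Monoid.exp_eq_one_iff.1 h
        have h1 : Nat.card V = 1 := Nat.card_unique
        omega
      · exact h
    have h12 := card_normalizer_of_single_class hodd hV
      (fun W hW => (kleinFour_classes hodd).1 h8 V W hV hW)
    rw [← hcom, ← Subgroup.comap_normalizer_eq_of_surjective _ proj_surjective, hcard2, h12,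
      hcard2, hV4]

end Cfsg.Agent.Lib.SL2
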