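import Cfsg.Agent.Lib.SL2.MaxShapes
import Cfsg.Agent.Lib.SL2.KleinFour
import Cfsg.Agent.Lib.LinGroup.Simple

/-!
# The action of `PGL₂(F)` on `PSL₂(F)`
-/

set_option autoImplicit false

namespace Cfsg.Agent.Lib.SL2

open Matrix

variable {F : Type*} [Field F]

/-- `PGL₂(F)`. -/
abbrev PGLtwo (F : Type*) [CommRing F] := Matrix.ProjGenLinGroup (Fin 2) F

/-- The embedding `PSL₂(F) → PGL₂(F)`. -/
abbrev toP : PSLtwo F →* PGLtwo F := Matrix.ProjectiveSpecialLinearGroup.toPGL

lemma toP_injective : Function.Injective (toP (F := F)) :=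
  Matrix.ProjectiveSpecialLinearGroup.toPGL_injective

lemma range_mk_toGL :
    ((Matrix.ProjGenLinGroup.mk (n := Fin 2) (R := F)).comp Matrix.SpecialLinearGroup.toGL).range =
      (toP (F := F)).range := by
  ext x
  constructor
  · rintro ⟨g, rfl⟩; exact ⟨proj g, rfl⟩
  · rintro ⟨y, rfl⟩
    obtain ⟨g, rfl⟩ := proj_surjective y
    exact ⟨g, rfl⟩

/-- Conjugation of an element of `SL₂` by an element of `GL₂`. -/
def slConj (D : GL (Fin 2) F) (g : SLtwo F) : SLtwo F :=
  ⟨(D * Matrix.SpecialLinearGroup.toGL g * D⁻¹ : GL (Fin 2) F).1, by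
    rw [Units.val_mul, Units.val_mul, Matrix.det_mul, Matrix.det_mul, mul_right_comm,
      ← Matrix.det_mul, ← Units.val_mul, mul_inv_cancel, Units.val_one, Matrix.det_one, one_mul]
    exact g.2⟩

lemma toGL_slConj (D : GL (Fin 2) F) (g : SLtwo F) :
    Matrix.SpecialLinearGroup.toGL (slConj D g) = D * Matrix.SpecialLinearGroup.toGL g * D⁻¹ :=
  Units.ext rfl

lemma toGL_inj {a b : SLtwo F}
    (h : Matrix.SpecialLinearGroup.toGL a = Matrix.SpecialLinearGroup.toGL b) : a = b :=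
  Subtype.ext (congrArg Units.val h)

lemma slConj_mul (D : GL (Fin 2) F) (g h : SLtwo F) :
    slConj D (g * h) = slConj D g * slConj D h := toGL_inj (by
  rw [map_mul, toGL_slConj, toGL_slConj, toGL_slConj, map_mul]; group)

lemma slConj_one (D : GL (Fin 2) F) : slConj D 1 = 1 := toGL_inj (by
  rw [toGL_slConj, map_one, mul_one, mul_inv_cancel])

lemma slConj_inv (D : GL (Fin 2) F) (g : SLtwo F) : slConj D g⁻¹ = (slConj D g)⁻¹ :=
  eq_inv_of_mul_eq_one_left (by rw [← slConj_mul, inv_mul_cancel, slConj_one])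

lemma tr_slConj (D : GL (Fin 2) F) (g : SLtwo F) : tr (slConj D g) = tr g := by
  have h1 : ∀ x : SLtwo F, tr x = Matrix.trace (x : Matrix (Fin 2) (Fin 2) F) := fun x => by
    rw [Matrix.trace_fin_two]; rfl
  rw [h1, h1]
  exact Matrix.trace_units_conj D _

/-- The action of `PGL₂(F)` on `PSL₂(F)` by conjugation. -/
noncomputable def pglAct (δ : PGLtwo F) : PSLtwo F ≃* PSLtwo F :=
  haveI : (toP (F := F)).range.Normal := toPGL_range_normal
  (MonoidHom.ofInjective toP_injective).trans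
    ((MulAut.conjNormal δ).trans (MonoidHom.ofInjective toP_injective).symm)

lemma toP_pglAct (δ : PGLtwo F) (x : PSLtwo F) : toP (pglAct δ x) = δ * toP x * δ⁻¹ := by
  have : (toP (F := F)).range.Normal := toPGL_range_normal
  rw [pglAct, MulEquiv.trans_apply, MulEquiv.trans_apply,
    MonoidHom.apply_ofInjective_symm, MulAut.conjNormal_apply]
  rfl

lemma pglAct_eq_iff {δ : PGLtwo F} {x y : PSLtwo F} :
    pglAct δ x = y ↔ δ * toP x * δ⁻¹ = toP y :=
  ⟨fun h => by rw [← h, toP_pglAct], fun h => toP_injective (by rw [toP_pglAct, h])⟩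

lemma pglAct_mk (D : GL (Fin 2) F) (g : SLtwo F) :
    pglAct (Matrix.ProjGenLinGroup.mk D) (proj g) = proj (slConj D g) := by
  rw [pglAct_eq_iff]
  show Matrix.ProjGenLinGroup.mk D * Matrix.ProjGenLinGroup.mk (Matrix.SpecialLinearGroup.toGL g) *
    (Matrix.ProjGenLinGroup.mk D)⁻¹ = Matrix.ProjGenLinGroup.mk (Matrix.SpecialLinearGroup.toGL _)
  rw [← map_inv, ← map_mul, ← map_mul, toGL_slConj]

lemma pglAct_mul (δ ε : PGLtwo F) (x : PSLtwo F) : pglAct (δ * ε) x = pglAct δ (pglAct ε x) :=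
  toP_injective (by rw [toP_pglAct, toP_pglAct, toP_pglAct]; group)

lemma pglAct_toP (n x : PSLtwo F) : pglAct (toP n) x = n * x * n⁻¹ := by
  rw [pglAct_eq_iff, map_mul, map_mul, map_inv]

lemma isUnip_pglAct {x : PSLtwo F} (hx : IsUnip x) (δ : PGLtwo F) : IsUnip (pglAct δ x) := by
  obtain ⟨D, rfl⟩ := Matrix.ProjGenLinGroup.mk_surjective δ
  obtain ⟨g, rfl, ht⟩ := hx
  exact ⟨slConj D g, (pglAct_mk D g).symm, by rw [tr_slConj, ht]⟩

lemma isSemi_pglAct {x : PSLtwo F} (hx : IsSemi x) (δ : PGLtwo F) : IsSemi (pglAct δ x) := by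
  obtain ⟨D, rfl⟩ := Matrix.ProjGenLinGroup.mk_surjective δ
  obtain ⟨g, rfl, hg⟩ := hx
  exact ⟨slConj D g, (pglAct_mk D g).symm, by
    simpa [IsElliptic, IsSplit, tr_slConj] using hg⟩

lemma pglAct_mem_torus {x y : PSLtwo F} (h : y ∈ torus x) (δ : PGLtwo F) :
    pglAct δ y ∈ torus (pglAct δ x) := by
  obtain ⟨D, rfl⟩ := Matrix.ProjGenLinGroup.mk_surjective δ
  obtain ⟨g, rfl⟩ := proj_surjective x
  obtain ⟨k, rfl⟩ := proj_surjective y
  rw [pglAct_mk, pglAct_mk, proj_mem_torus_iff, Subgroup.mem_centralizer_singleton_iff, ← slConj_mul,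
    ← slConj_mul, Subgroup.mem_centralizer_singleton_iff.1 (proj_mem_torus_iff.1 h)]

/-- A conjugation fixing two non-commuting elements of order three is trivial. -/
theorem eq_one_of_fix (h2 : (2 : F) ≠ 0) {δ : PGLtwo F} {a b : PSLtwo F} (ha : a ^ 3 = 1)
    (hb : b ^ 3 = 1) (hab : a * b ≠ b * a) (hfa : pglAct δ a = a) (hfb : pglAct δ b = b) :
    δ = 1 := by
  obtain ⟨D, rfl⟩ := Matrix.ProjGenLinGroup.mk_surjective δ
  have ha1 : a ≠ 1 := fun e => hab (by rw [e, one_mul, mul_one])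
  have hb1 : b ≠ 1 := fun e => hab (by rw [e, one_mul, mul_one])
  obtain ⟨u, rfl⟩ := proj_surjective a
  obtain ⟨v, rfl⟩ := proj_surjective b
  have fix' : ∀ w : SLtwo F, proj w ≠ 1 → proj w ^ 3 = 1 →
      pglAct (Matrix.ProjGenLinGroup.mk D) (proj w) = proj w →
      (D : Matrix (Fin 2) (Fin 2) F) * (w : Matrix (Fin 2) (Fin 2) F) =
        (w : Matrix (Fin 2) (Fin 2) F) * (D : Matrix (Fin 2) (Fin 2) F) := by
    intro w hw hw3 hf
    have ht : tr w ≠ 0 := fun e => one_ne_zero (α := F) (by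
      rw [← (tr_of_pow hw).2.1 hw3, e, mul_zero])
    rw [pglAct_mk] at hf
    rcases proj_eq_proj_iff.1 hf.symm with e | e
    · have h := congrArg (Matrix.SpecialLinearGroup.toGL) e
      rw [toGL_slConj] at h
      exact congrArg Units.val (mul_inv_eq_iff_eq_mul.1 h)
    · exfalso
      have h := congrArg tr e
      rw [tr_slConj, tr_neg] at h
      exact ht ((mul_eq_zero.1 (show (2 : F) * tr w = 0 by linear_combination h)).resolve_left h2)
  have hu : ¬ IsScalarMat (u : Matrix (Fin 2) (Fin 2) F) := fun hs => by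
    refine hab ?_
    rw [← map_mul, ← map_mul]
    congr 1
    obtain ⟨h01, h10, h11⟩ := hs
    apply ext_entries <;> simp [mul_00, mul_01, mul_10, mul_11, h01, h10, h11, mul_comm]
  obtain ⟨z, hz⟩ := exists_commElt hu (fix' u ha1 ha hfa)
  have hv := fix' v hb1 hb hfb
  rw [hz] at hv
  have hz2 : z.2 = 0 := by
    by_contra hne
    refine hab ?_
    rw [← map_mul, ← map_mul]
    congr 1
    refine Subtype.ext ?_
    have h' : z.2 • ((u : Matrix (Fin 2) (Fin 2) F) * v) = z.2 • ((v : Matrix (Fin 2) (Fin 2) F) * u) := by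
      simpa [commElt, add_mul, mul_add] using hv
    simpa using smul_right_injective (Matrix (Fin 2) (Fin 2) F) hne h'
  rw [Matrix.ProjGenLinGroup.mk_eq_one, Subgroup.mem_center_iff]
  intro y
  apply Units.ext
  rw [Units.val_mul, Units.val_mul, hz]
  simp [commElt, hz2]

/-- The entries of a lift of an element of `slMap K` lie in `K`. -/
lemma entries_mem {K : Subfield F} {g : SLtwo F} (h : toP (proj g) ∈ (slMap K).range) :
    ∀ i j, (g : Matrix (Fin 2) (Fin 2) F) i j ∈ K := by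
  obtain ⟨k, hk⟩ := h
  have hk' : toP (proj (Matrix.SpecialLinearGroup.map K.subtype k)) = toP (proj g) := by
    refine Eq.trans ?_ hk
    show Matrix.ProjGenLinGroup.mk _ = Matrix.ProjGenLinGroup.mk _
    exact congrArg Matrix.ProjGenLinGroup.mk (Units.ext rfl)
  intro i j
  rcases proj_eq_proj_iff.1 (toP_injective hk') with e | e <;> rw [e]
  · exact ((k : Matrix (Fin 2) (Fin 2) K) i j).2
  · exact neg_mem ((k : Matrix (Fin 2) (Fin 2) K) i j).2

/-- Only `PGL₂(K)` conjugates `PSL₂(K)` into `PGL₂(K)` (odd characteristic). -/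
theorem mem_glMap_of_slMap (h2 : (2 : F) ≠ 0) {K : Subfield F} {δ : PGLtwo F}
    (h : ∀ y ∈ (slMap K).range, δ * y * δ⁻¹ ∈ (glMap K).range) : δ ∈ (glMap K).range := by
  obtain ⟨D, rfl⟩ := Matrix.ProjGenLinGroup.mk_surjective δ
  -- the conjugate of a unipotent element has entries in `K`
  have key : ∀ k : SLtwo K, ((k : Matrix (Fin 2) (Fin 2) K) 0 0 + (k : Matrix (Fin 2) (Fin 2) K) 1 1 = 2) →
      ∀ i j, ((D : Matrix (Fin 2) (Fin 2) F) *
        (Matrix.SpecialLinearGroup.map K.subtype k : Matrix (Fin 2) (Fin 2) F) *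
          ((D⁻¹ : GL (Fin 2) F) : Matrix (Fin 2) (Fin 2) F)) i j ∈ K := by
    intro k hk
    obtain ⟨m, hm⟩ := h _ ⟨k, rfl⟩
    have hm' : Matrix.ProjGenLinGroup.mk (Matrix.GeneralLinearGroup.map K.subtype m) =
        Matrix.ProjGenLinGroup.mk (Matrix.SpecialLinearGroup.toGL
          (slConj D (Matrix.SpecialLinearGroup.map K.subtype k))) := by
      refine Eq.trans hm ?_
      rw [toGL_slConj, map_mul, map_mul, map_inv]
      congr 2
      exact congrArg Matrix.ProjGenLinGroup.mk (Units.ext rfl)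
    obtain ⟨c, hc⟩ := Matrix.ProjGenLinGroup.mk_eq_mk_iff.1 hm'
    set S := slConj D (Matrix.SpecialLinearGroup.map K.subtype k) with hS
    have hS' : ∀ i j, (S : Matrix (Fin 2) (Fin 2) F) i j =
        (c : F) * ((m : Matrix (Fin 2) (Fin 2) K) i j : F) := fun i j => by
      have := congrArg (fun x : GL (Fin 2) F => (x : Matrix (Fin 2) (Fin 2) F) i j) hc
      simp [Matrix.mul_apply, Fin.sum_univ_two, Matrix.scalar_apply] at this
      fin_cases i <;> fin_cases j <;> simp at this ⊢ <;> linear_combination -this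
    have htr : tr S = 2 := by
      rw [hS, tr_slConj]
      simpa [tr, map_ofNat] using congrArg K.subtype hk
    have hc' : (c : F) ∈ K := by
      have hsum : (c : F) * (((m : Matrix (Fin 2) (Fin 2) K) 0 0 + (m : Matrix (Fin 2) (Fin 2) K) 1 1 : K) : F) = 2 := by
        rw [← htr, tr, hS', hS']; push_cast; ring
      have hne : (((m : Matrix (Fin 2) (Fin 2) K) 0 0 + (m : Matrix (Fin 2) (Fin 2) K) 1 1 : K) : F) ≠ 0 :=
        fun e => h2 (by rw [← hsum, e, mul_zero])
      rw [eq_div_of_mul_eq hne hsum]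
      exact div_mem (by exact_mod_cast (ofNat_mem K 2)) (Subtype.mem _)
    intro i j
    show (S : Matrix (Fin 2) (Fin 2) F) i j ∈ K
    rw [hS']
    exact mul_mem hc' (Subtype.mem _)
  -- hence the conjugates of the matrix units have entries in `K`
  set d := ((D⁻¹ : GL (Fin 2) F) : Matrix (Fin 2) (Fin 2) F) with hd
  have hDd : (D : Matrix (Fin 2) (Fin 2) F) * d = 1 := by
    rw [hd, ← Units.val_mul, mul_inv_cancel, Units.val_one]
  have hu := key (upper 1) (by norm_num)
  have hl := key (lower 1) (by norm_num)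
  have hlu := key (ofEntries 0 1 (-1) 2 (by ring)) (by norm_num [ofEntries_coe])
  have prod : ∀ i j a b, (D : Matrix (Fin 2) (Fin 2) F) i a * d b j ∈ K := by
    intro i j
    have e1 := hu i j
    have e2 := hl i j
    have e3 := hlu i j
    have e0 := congrFun (congrFun hDd i) j
    have h1 : (1 : Matrix (Fin 2) (Fin 2) F) i j ∈ K := by
      rw [Matrix.one_apply]; split_ifs <;> first | exact one_mem _ | exact zero_mem _
    simp [Matrix.mul_apply, Fin.sum_univ_two, ofEntries_coe, map_ofNat, subfield_coe_ofNat] at e1 e2 e3 e0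
    set p00 := (D : Matrix (Fin 2) (Fin 2) F) i 0 * d 0 j
    set p01 := (D : Matrix (Fin 2) (Fin 2) F) i 0 * d 1 j
    set p10 := (D : Matrix (Fin 2) (Fin 2) F) i 1 * d 0 j
    set p11 := (D : Matrix (Fin 2) (Fin 2) F) i 1 * d 1 j
    rw [← e0] at h1
    have m01 : p01 ∈ K := by
      have := sub_mem e1 h1
      convert this using 1
      ring
    have m10 : p10 ∈ K := by
      have := sub_mem e2 h1
      convert this using 1
      ring
    have m11 : p11 ∈ K := by
      have h2K : (2 : F) ∈ K := by exact_mod_cast (ofNat_mem K 2)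
      have := div_mem (add_mem (sub_mem e3 m01) m10) h2K
      convert this using 1
      field_simp
      simp only [p01, p10, p11]
      ring_nf
      exact congrArg _ (map_ofNat K.subtype 2).symm
    have m00 : p00 ∈ K := by
      have := sub_mem h1 m11
      convert this using 1
      ring
    intro a b
    fin_cases a <;> fin_cases b
    exacts [m00, m01, m10, m11]
  obtain ⟨b, j, hbj⟩ : ∃ b j, d b j ≠ 0 := by
    by_contra hc
    push Not at hc
    have : (D : Matrix (Fin 2) (Fin 2) F) * d = 0 := by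
      ext i j; simp [Matrix.mul_apply, hc]
    rw [hDd] at this
    exact one_ne_zero this
  let D0 : Matrix (Fin 2) (Fin 2) K := fun i a => ⟨_, prod i j a b⟩
  have hD0 : D0.det ≠ 0 := by
    intro e
    have e' := congrArg Subtype.val e
    rw [Matrix.det_fin_two] at e'
    simp [D0] at e'
    refine Matrix.GeneralLinearGroup.det_ne_zero D ?_
    rw [Matrix.det_fin_two]
    refine (mul_eq_zero.1 (show d b j * d b j * _ = 0 from ?_)).resolve_left (mul_ne_zero hbj hbj)
    linear_combination e'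
  set G0 := Matrix.GeneralLinearGroup.mkOfDetNeZero D0 hD0
  have hG0 : ∀ i a, (((G0 : GL (Fin 2) K) : Matrix (Fin 2) (Fin 2) K) i a : F) =
      (D : Matrix (Fin 2) (Fin 2) F) i a * d b j := fun i a => rfl
  refine ⟨G0, Matrix.ProjGenLinGroup.mk_eq_mk_iff.2 ⟨Units.mk0 _ (inv_ne_zero hbj), ?_⟩⟩
  apply Units.ext
  ext i a
  fin_cases i <;> fin_cases a <;>
    simp [hG0, Matrix.mul_apply, Fin.sum_univ_two] <;>
    field_simp

/-- Only `PGL₂(K)` normalises an `A₄` inside `PSL₂(K)`. -/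
theorem mem_glMap_of_A4 [Fintype F] (h2 : (2 : F) ≠ 0) {K : Subfield F} {H : Subgroup (PSLtwo F)}
    (e : H ≃* alternatingGroup (Fin 4)) (hle : H.map toP ≤ (slMap K).range) {δ : PGLtwo F}
    (hfix : ∀ x ∈ H, pglAct δ x ∈ H) : δ ∈ (glMap K).range := by
  classical
  obtain ⟨D, rfl⟩ := Matrix.ProjGenLinGroup.mk_surjective δ
  let : Fintype K := Fintype.ofFinite K
  obtain ⟨g, h, hH, hg, hh, hu, hus⟩ : ∃ g h : SLtwo F,
      H = Subgroup.closure ({proj g, proj h} : Set (PSLtwo F)) ∧ tr g = 0 ∧ tr h = 1 ∧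
        tr (g * h) = 1 ∧ True := by
    obtain ⟨g, h, hH, hg, hh, h1, hk, -⟩ := exists_pair_lift e A4_hasPair
    rcases mul_self_eq_one_iff.1 ((tr_of_pow h1).2.1 hk) with z | z
    · exact ⟨g, h, hH, hg, hh, z, trivial⟩
    · exact ⟨-g, h, by rw [hH, proj_neg], by rw [tr_neg, hg, neg_zero], hh,
        by rw [neg_mul, tr_neg, z, neg_neg], trivial⟩
  have hgH : proj g ∈ H := hH ▸ Subgroup.subset_closure (Or.inl rfl)
  have hhH : proj h ∈ H := hH ▸ Subgroup.subset_closure (Or.inr rfl)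
  have hK2 : Fintype.card K % 2 = 1 := subfield_odd_card K h2
  obtain ⟨x, z, hxz⟩ := exists_model hK2 h2 (da := (1 : K)) (u := 1) one_ne_zero
  have hirr : (1 : K) ^ 2 * 1 + 1 ^ 2 ≠ 4 * 1 * 1 := fun e' =>
    subfield_two_ne (L := K) h2 (by linear_combination -e')
  -- conjugation over `K` to the model
  have toK : ∀ a b : SLtwo F, (∀ i j, (a : Matrix (Fin 2) (Fin 2) F) i j ∈ K) →
      (∀ i j, (b : Matrix (Fin 2) (Fin 2) F) i j ∈ K) → tr a = 0 → tr b = 1 → tr (a * b) = 1 →
      ∃ P : GL (Fin 2) K,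
        (a : Matrix (Fin 2) (Fin 2) F) * ((Matrix.GeneralLinearGroup.map K.subtype P : GL (Fin 2) F) : Matrix (Fin 2) (Fin 2) F) =
          ((Matrix.GeneralLinearGroup.map K.subtype P : GL (Fin 2) F) : Matrix (Fin 2) (Fin 2) F) * !![0, -1; 1, 0] ∧
        (b : Matrix (Fin 2) (Fin 2) F) * ((Matrix.GeneralLinearGroup.map K.subtype P : GL (Fin 2) F) : Matrix (Fin 2) (Fin 2) F) =
          ((Matrix.GeneralLinearGroup.map K.subtype P : GL (Fin 2) F) : Matrix (Fin 2) (Fin 2) F) *
            !![(x : F), 1 + (z : F); (z : F), 1 - (x : F)] := by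
    intro a b ha hb hta htb htab
    rw [tr_mul_eq] at htab
    obtain ⟨P, hP1, hP2⟩ := exists_pair_basis (F := K) (Matrix.of fun i j => (⟨_, ha i j⟩ : K)) (Matrix.of fun i j => (⟨_, hb i j⟩ : K))
      (da := 1) (db := 1) (s := 1) (u := 1) (x := x) (z := z)
      (Subtype.ext (by simpa [tr] using hta)) (Subtype.ext (by simpa using det_entries a))
      (Subtype.ext (by simpa [tr] using htb)) (Subtype.ext (by simpa using det_entries b))
      (Subtype.ext (by simpa using htab)) one_ne_zero one_ne_zero hirr hxz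
    refine ⟨P, ?_, ?_⟩
    · ext i j
      have := congrArg Subtype.val (congrFun (congrFun hP1 i) j)
      fin_cases i <;> fin_cases j <;> simp [Matrix.mul_apply, Fin.sum_univ_two] at this ⊢ <;>
        linear_combination this
    · ext i j
      have := congrArg Subtype.val (congrFun (congrFun hP2 i) j)
      fin_cases i <;> fin_cases j <;> simp [Matrix.mul_apply, Fin.sum_univ_two] at this ⊢ <;>
        linear_combination this
  have hmem : ∀ w : SLtwo F, proj w ∈ H → ∀ i j, (w : Matrix (Fin 2) (Fin 2) F) i j ∈ K :=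
    fun w hw => entries_mem (hle ⟨_, hw, rfl⟩)
  have hg' : proj (slConj D g) ∈ H := pglAct_mk D g ▸ hfix _ hgH
  have hh' : proj (slConj D h) ∈ H := pglAct_mk D h ▸ hfix _ hhH
  obtain ⟨P, hPg, hPh⟩ := toK g h (hmem g hgH) (hmem h hhH) hg hh hu
  obtain ⟨Q, hQg, hQh⟩ := toK (slConj D g) (slConj D h) (hmem _ hg') (hmem _ hh')
    (by rw [tr_slConj, hg]) (by rw [tr_slConj, hh]) (by rw [← slConj_mul, tr_slConj, hu])
  set P' : GL (Fin 2) F := Matrix.GeneralLinearGroup.map K.subtype P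
  set Q' : GL (Fin 2) F := Matrix.GeneralLinearGroup.map K.subtype Q
  set E : GL (Fin 2) F := Q'⁻¹ * D * P' with hE
  have hEc : ∀ (w : SLtwo F) (C : Matrix (Fin 2) (Fin 2) F),
      (w : Matrix (Fin 2) (Fin 2) F) * (P' : Matrix (Fin 2) (Fin 2) F) = (P' : Matrix (Fin 2) (Fin 2) F) * C →
      (slConj D w : Matrix (Fin 2) (Fin 2) F) * (Q' : Matrix (Fin 2) (Fin 2) F) =
        (Q' : Matrix (Fin 2) (Fin 2) F) * C →
      (E : Matrix (Fin 2) (Fin 2) F) * C = C * (E : Matrix (Fin 2) (Fin 2) F) := by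
    intro w C h1 h3
    have h4 : (slConj D w : Matrix (Fin 2) (Fin 2) F) * (D : Matrix (Fin 2) (Fin 2) F) =
        (D : Matrix (Fin 2) (Fin 2) F) * (w : Matrix (Fin 2) (Fin 2) F) := by
      show ((D * Matrix.SpecialLinearGroup.toGL w * D⁻¹ : GL (Fin 2) F) : Matrix (Fin 2) (Fin 2) F) * _ = _
      rw [← Units.val_mul, inv_mul_cancel_right]; rfl
    have h5 : ((Q'⁻¹ : GL (Fin 2) F) : Matrix (Fin 2) (Fin 2) F) * (slConj D w : Matrix (Fin 2) (Fin 2) F) =
        C * ((Q'⁻¹ : GL (Fin 2) F) : Matrix (Fin 2) (Fin 2) F) := by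
      calc ((Q'⁻¹ : GL (Fin 2) F) : Matrix (Fin 2) (Fin 2) F) * (slConj D w : Matrix (Fin 2) (Fin 2) F)
          = ((Q'⁻¹ : GL (Fin 2) F) : Matrix (Fin 2) (Fin 2) F) * ((slConj D w : Matrix (Fin 2) (Fin 2) F) *
              (Q' : Matrix (Fin 2) (Fin 2) F)) * ((Q'⁻¹ : GL (Fin 2) F) : Matrix (Fin 2) (Fin 2) F) := by
            rw [mul_assoc, mul_assoc, Units.mul_inv, mul_one]
        _ = _ := by rw [h3, ← mul_assoc, Units.inv_mul, one_mul]
    simp only [hE, Units.val_mul]
    rw [mul_assoc, ← h1, ← mul_assoc, mul_assoc _ (D : Matrix (Fin 2) (Fin 2) F) _, ← h4,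
      ← mul_assoc, h5]
    simp only [mul_assoc]
  have c1 := hEc g _ hPg hQg
  have c2 := hEc h _ hPh hQh
  have hC0 : ¬ IsScalarMat (!![0, -1; 1, 0] : Matrix (Fin 2) (Fin 2) F) := fun hs => by
    simpa using hs.2.1
  obtain ⟨ab, hab⟩ := exists_commElt hC0 c1
  have hb0 : ab.2 = 0 := by
    by_contra hne
    rw [hab] at c2
    have h' : ab.2 • ((!![0, -1; 1, 0] : Matrix (Fin 2) (Fin 2) F) * !![(x : F), 1 + (z : F); (z : F), 1 - (x : F)]) =
        ab.2 • (!![(x : F), 1 + (z : F); (z : F), 1 - (x : F)] * (!![0, -1; 1, 0] : Matrix (Fin 2) (Fin 2) F)) := by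
      simpa only [commElt, add_mul, mul_add, Matrix.smul_mul, Matrix.mul_smul, one_mul, mul_one,
        add_right_inj] using c2
    have h'' := smul_right_injective (Matrix (Fin 2) (Fin 2) F) hne h'
    have e00 := congrFun (congrFun h'' 0) 0
    have e01 := congrFun (congrFun h'' 0) 1
    simp [Matrix.mul_apply, Fin.sum_univ_two] at e00 e01
    have hxz' : (x : F) * (1 - x) - (1 + z) * z = 1 := by
      simpa using congrArg Subtype.val hxz
    exact h2 (by linear_combination (-4 : F) * hxz' + (2 * (z : F) + 1) * e00 - (2 * (x : F) - 1) * e01)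
  refine ⟨Q * P⁻¹, ?_⟩
  show Matrix.ProjGenLinGroup.mk (Matrix.GeneralLinearGroup.map K.subtype (Q * P⁻¹)) = _
  rw [map_mul, map_inv]
  have hEs : Matrix.ProjGenLinGroup.mk E = 1 := by
    rw [Matrix.ProjGenLinGroup.mk_eq_one, Subgroup.mem_center_iff]
    intro w
    have hv : (w : Matrix (Fin 2) (Fin 2) F) * (E : Matrix (Fin 2) (Fin 2) F) =
        (E : Matrix (Fin 2) (Fin 2) F) * (w : Matrix (Fin 2) (Fin 2) F) := by
      rw [hab]; simp [commElt, hb0]
    exact Units.ext hv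
  rw [hE, map_mul, map_mul, map_inv] at hEs
  show Matrix.ProjGenLinGroup.mk (Q' * P'⁻¹) = Matrix.ProjGenLinGroup.mk D
  rw [map_mul, map_inv, mul_inv_eq_iff_eq_mul, ← inv_mul_eq_one, ← mul_assoc, hEs]

end Cfsg.Agent.Lib.SL2
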