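import Cfsg.Agent.Lib.SL2.SmallConj

/-!
# Bounds on the automorphisms of `A₄`, `S₄`, `A₅`
-/

set_option autoImplicit false

namespace Cfsg.Agent.Lib.SL2

/-- The pairs of the prescribed orders. -/
abbrev IsPairOf {G : Type*} [Group G] (k : ℕ) (p : G × G) : Prop :=
  p.1 * p.1 = 1 ∧ p.1 ≠ 1 ∧ p.2 ^ 3 = 1 ∧ p.2 ≠ 1 ∧ (p.1 * p.2) ^ k = 1 ∧ p.1 * p.2 ≠ 1 ∧
    (p.1 * p.2) * (p.1 * p.2) ≠ 1

lemma IsPairOf.map {G : Type*} [Group G] {k : ℕ} {p : G × G} (h : IsPairOf k p) (φ : G ≃* G) :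
    IsPairOf k (φ p.1, φ p.2) := by
  obtain ⟨h1, h2, h3, h4, h5, h6, h7⟩ := h
  have hne : ∀ z : G, z ≠ 1 → φ z ≠ 1 := fun z hz e => hz (φ.injective (e.trans (map_one φ).symm))
  refine ⟨?_, hne _ h2, ?_, hne _ h4, ?_, ?_, ?_⟩
  · show φ p.1 * φ p.1 = 1
    rw [← map_mul, h1, map_one]
  · show φ p.2 ^ 3 = 1
    rw [← map_pow, h3, map_one]
  · show (φ p.1 * φ p.2) ^ k = 1
    rw [← map_mul, ← map_pow, h5, map_one]
  · show φ p.1 * φ p.2 ≠ 1
    rw [← map_mul]; exact hne _ h6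
  · show φ p.1 * φ p.2 * (φ p.1 * φ p.2) ≠ 1
    rw [← map_mul, ← map_mul]; exact hne _ h7

/-- An automorphism is determined by a generating pair. -/
lemma card_mulAut_le {G : Type*} [Group G] [Finite G] {k : ℕ} (hG : HasPair G k) :
    Nat.card (MulAut G) ≤ Nat.card {p : G × G // IsPairOf k p} := by
  obtain ⟨a, b, hcl, h⟩ := hG
  refine Nat.card_le_card_of_injective
    (fun φ => ⟨(φ a, φ b), (show IsPairOf k (a, b) from h).map φ⟩) fun φ ψ e => ?_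
  have e' := congrArg Subtype.val e
  have h1 : φ a = ψ a := congrArg Prod.fst e'
  have h2 : φ b = ψ b := congrArg Prod.snd e'
  ext z
  have hz : z ∈ Subgroup.closure ({a, b} : Set G) := hcl ▸ Subgroup.mem_top z
  exact MonoidHom.eqOn_closure (f := φ.toMonoidHom) (g := ψ.toMonoidHom)
    (fun w hw => by rcases hw with rfl | rfl; exacts [h1, h2]) hz

lemma card_mulAut_A4 : Nat.card (MulAut (alternatingGroup (Fin 4))) ≤ 24 := by
  refine (card_mulAut_le A4_hasPair).trans (le_of_eq ?_)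
  rw [Nat.card_eq_fintype_card]
  decide +kernel

lemma card_mulAut_S4 : Nat.card (MulAut (Equiv.Perm (Fin 4))) ≤ 24 := by
  refine (card_mulAut_le S4_hasPair).trans (le_of_eq ?_)
  rw [Nat.card_eq_fintype_card]
  decide +kernel

/-- In `A₄`, `S₄`, `A₅` two elements of order three do not commute. -/
lemma order_three_pairs :
    (∃ a b : alternatingGroup (Fin 4), a ^ 3 = 1 ∧ b ^ 3 = 1 ∧ a * b ≠ b * a) ∧
    (∃ a b : Equiv.Perm (Fin 4), a ^ 3 = 1 ∧ b ^ 3 = 1 ∧ a * b ≠ b * a) ∧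
    (∃ a b : alternatingGroup (Fin 5), a ^ 3 = 1 ∧ b ^ 3 = 1 ∧ a * b ≠ b * a) := by
  refine ⟨by decide +kernel, by decide +kernel, by decide +kernel⟩

/-- The standard pair of `A₅`. -/
def a5fst : alternatingGroup (Fin 5) :=
  ⟨Equiv.swap 0 1 * Equiv.swap 2 3, Equiv.Perm.mem_alternatingGroup.2 (by decide +kernel)⟩

/-- The standard pair of `A₅`. -/
def a5snd : alternatingGroup (Fin 5) :=
  ⟨Equiv.swap 0 2 * Equiv.swap 2 4, Equiv.Perm.mem_alternatingGroup.2 (by decide +kernel)⟩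

lemma a5_pair : (∀ g, g ∈ grow a5fst a5snd 12) ∧ IsPairOf 5 (a5fst, a5snd) := by
  decide +kernel

lemma a5_five_classes : ∀ z : alternatingGroup (Fin 5), z ^ 5 = 1 → z ≠ 1 →
    ∃ w, z = w * (a5fst * a5snd) * w⁻¹ ∨
      z = w * ((a5fst * a5snd) * (a5fst * a5snd)) * w⁻¹ := by
  decide +kernel

lemma a5_inner_pairs : ∀ p : alternatingGroup (Fin 5) × alternatingGroup (Fin 5), IsPairOf 5 p →
    (∃ w, p.1 * p.2 = w * (a5fst * a5snd) * w⁻¹) →
      ∃ w, w * a5fst * w⁻¹ = p.1 ∧ w * a5snd * w⁻¹ = p.2 := by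
  decide +kernel

/-- An automorphism of `A₅` keeping the class of a five-element is inner. -/
theorem a5_inner (φ : MulAut (alternatingGroup (Fin 5)))
    (h : ∃ w, φ (a5fst * a5snd) = w * (a5fst * a5snd) * w⁻¹) : ∃ w, φ = MulAut.conj w := by
  obtain ⟨w, hw⟩ := h
  obtain ⟨v, hv1, hv2⟩ := a5_inner_pairs (φ a5fst, φ a5snd) (a5_pair.2.map φ)
    ⟨w, by rw [← map_mul]; exact hw⟩
  refine ⟨v, ?_⟩
  have hcl := closure_eq_top_of_grow a5fst a5snd 12 a5_pair.1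
  ext z : 1
  have hz : z ∈ Subgroup.closure ({a5fst, a5snd} : Set (alternatingGroup (Fin 5))) :=
    hcl ▸ Subgroup.mem_top z
  exact MonoidHom.eqOn_closure (f := φ.toMonoidHom) (g := (MulAut.conj v).toMonoidHom)
    (fun u hu => by rcases hu with rfl | rfl; exacts [hv1.symm, hv2.symm]) hz

end Cfsg.Agent.Lib.SL2
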