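import Cfsg.Agent.Lib.SL2.PGLBasic
import Cfsg.Agent.Lib.SL2.SmallAut

/-!
# Maximal subgroups of `PGL₂(q)`, `q` odd, not containing `PSL₂(q)`
-/

set_option autoImplicit false

namespace Cfsg.Agent.Lib.SL2

open Matrix

variable {F : Type*} [Field F] [Fintype F]

lemma card_PGLtwo : Nat.card (PGLtwo F) = Fintype.card F * (Fintype.card F ^ 2 - 1) := by
  classical
  have h := card_glMap_range' (⊤ : Subfield F)
  rw [Nat.card_congr (rangeGlMapEquiv (⊤ : Subfield F)).toEquiv,
    Nat.card_congr (pglCongr (Subfield.topEquiv (K := F))).toEquiv,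
    Nat.card_congr (Subfield.topEquiv (K := F)).toEquiv,
    Nat.card_eq_fintype_card (α := F)] at h
  exact h

lemma card_PSLtwo_odd (hodd : Odd (Fintype.card F)) :
    2 * Nat.card (PSLtwo F) = Fintype.card F * (Fintype.card F ^ 2 - 1) := by
  have hG : Nat.card (PSLtwo F) * Nat.gcd 2 (Fintype.card F - 1) = _ := card_PSL_mul (F := F)
  rw [Nat.gcd_eq_left (by obtain ⟨t, ht⟩ := hodd; omega)] at hG
  rw [mul_comm, hG]

lemma index_range_toP (hodd : Odd (Fintype.card F)) : (toP (F := F)).range.index = 2 := by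
  have h := Subgroup.index_mul_card (toP (F := F)).range
  rw [card_PGLtwo, ← card_PSLtwo_odd hodd,
    show Nat.card (toP (F := F)).range = Nat.card (PSLtwo F) from
      (Nat.card_congr (MonoidHom.ofInjective toP_injective).toEquiv).symm] at h
  exact Nat.eq_of_mul_eq_mul_right Nat.card_pos h

instance : Finite (PGLtwo F) := Finite.of_surjective _ Matrix.ProjGenLinGroup.mk_surjective

section Structure

variable {M : Subgroup (PGLtwo F)} (hodd : Odd (Fintype.card F)) (h3 : 3 < Fintype.card F)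
  (hM : IsCoatom M) (hML : ¬ (toP (F := F)).range ≤ M)

include hodd hM hML in
lemma exists_mem_outside : ∃ δ ∈ M, δ ∉ (toP (F := F)).range := by
  by_contra h
  push Not at h
  rcases (show M ≤ (toP (F := F)).range from h).lt_or_eq with h' | h'
  · have h2 := index_range_toP hodd
    rw [hM.2 _ h', Subgroup.index_top] at h2
    omega
  · exact hML h'.ge

include hodd hM hML in
lemma card_coatom_PGL : Nat.card M = 2 * Nat.card (M.comap toP) := by
  have : (toP (F := F)).range.Normal := toPGL_range_normal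
  obtain ⟨δ, hδ, hδR⟩ := exists_mem_outside hodd hM hML
  have h1 : ((toP (F := F)).range.subgroupOf M).index = 2 := by
    have hd : (toP (F := F)).range.relIndex M ∣ 2 :=
      (Subgroup.relIndex_dvd_index_of_normal (toP (F := F)).range M).trans
        (dvd_of_eq (index_range_toP hodd))
    refine ((Nat.dvd_prime Nat.prime_two).1 hd).resolve_left fun e => hδR ?_
    exact Subgroup.relIndex_eq_one.1 e hδ
  have h2 : Nat.card ((toP (F := F)).range.subgroupOf M) = Nat.card (M.comap toP) := by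
    rw [← Subgroup.card_map_of_injective (K := (toP (F := F)).range.subgroupOf M) M.subtype_injective,
      Subgroup.subgroupOf_map_subtype, ← Subgroup.map_comap_eq,
      Subgroup.card_map_of_injective toP_injective]
  have h := Subgroup.index_mul_card ((toP (F := F)).range.subgroupOf M)
  rw [h1, h2] at h
  exact h.symm

lemma pglAct_mem_comap {δ : PGLtwo F} (hδ : δ ∈ M) {x : PSLtwo F} (hx : x ∈ M.comap toP) :
    pglAct δ x ∈ M.comap toP := by
  rw [Subgroup.mem_comap, toP_pglAct]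
  exact M.mul_mem (M.mul_mem hδ hx) (M.inv_mem hδ)

lemma comap_normalizer_map (S : Subgroup (PSLtwo F)) :
    (Subgroup.normalizer ((S.map toP : Subgroup (PGLtwo F)) : Set (PGLtwo F))).comap toP =
      Subgroup.normalizer (S : Set (PSLtwo F)) := by
  ext n
  rw [Subgroup.mem_comap, Subgroup.mem_normalizer_iff, Subgroup.mem_normalizer_iff]
  have hiff : ∀ z, toP z ∈ S.map toP ↔ z ∈ S := fun z =>
    Subgroup.mem_map_iff_mem toP_injective
  constructor
  · intro h z
    rw [← hiff z, h (toP z), ← map_inv, ← map_mul, ← map_mul, hiff]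
  · intro h y
    constructor
    · rintro ⟨z, hz, rfl⟩
      rw [← map_inv, ← map_mul, ← map_mul, hiff]
      exact (h z).1 hz
    · rintro ⟨z, hz, e⟩
      refine ⟨n⁻¹ * z * n, (h _).2 ?_, ?_⟩
      · simpa [mul_assoc] using hz
      · rw [map_mul, map_mul, map_inv, e]; group

lemma mem_normalizer_map {S : Subgroup (PSLtwo F)} {δ : PGLtwo F}
    (h : ∀ x ∈ S, pglAct δ x ∈ S) :
    δ ∈ Subgroup.normalizer ((S.map toP : Subgroup (PGLtwo F)) : Set (PGLtwo F)) := by
  rw [Subgroup.mem_normalizer_iff_map_conj_eq]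
  refine Subgroup.eq_of_le_of_card_ge ?_
    (le_of_eq (Subgroup.card_map_of_injective (MulEquiv.injective _)).symm)
  rintro _ ⟨_, ⟨x, hx, rfl⟩, rfl⟩
  exact ⟨pglAct δ x, h x hx, toP_pglAct δ x⟩

include hM in
/-- An invariant subgroup with proper normaliser determines `M`. -/
lemma eq_normalizer_of_invariant {S : Subgroup (PSLtwo F)}
    (hS : ∀ δ ∈ M, ∀ x ∈ S, pglAct δ x ∈ S)
    (hN : Subgroup.normalizer (S : Set (PSLtwo F)) ≠ ⊤) :
    M.comap toP = Subgroup.normalizer (S : Set (PSLtwo F)) := by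
  rw [← comap_normalizer_map]
  congr 1
  rcases (show M ≤ Subgroup.normalizer ((S.map toP : Subgroup (PGLtwo F)) : Set (PGLtwo F)) from
    fun δ hδ => mem_normalizer_map (hS δ hδ)).lt_or_eq with h | h
  · refine absurd ?_ hN
    rw [← comap_normalizer_map, hM.2 _ h, Subgroup.comap_top]
  · exact h

/-- A torus has a proper normaliser. -/
lemma normalizer_torus_ne_top (h3 : 3 < Fintype.card F) {x : PSLtwo F} (hx : IsSemi x) :
    Subgroup.normalizer ((torus x : Subgroup (PSLtwo F)) : Set (PSLtwo F)) ≠ ⊤ := by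
  intro e
  have hc := normalizer_torus_card hx
  rw [e, Subgroup.card_top] at hc
  have hG : Nat.card (PSLtwo F) * Nat.gcd 2 (Fintype.card F - 1) = _ := card_PSL_mul (F := F)
  have hT : Nat.card (torus x) * Nat.gcd 2 (Fintype.card F - 1) ≤ Fintype.card F + 1 := by
    rcases card_torus_semi hx with z | z <;> rw [z]
    · exact le_trans (Nat.div_mul_le_self _ _) (by omega)
    · exact Nat.div_mul_le_self _ _
  rw [hc, mul_assoc] at hG
  obtain ⟨i, hi⟩ := Nat.exists_eq_add_of_le (show 2 ≤ Fintype.card F by omega)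
  rw [hi, show (2 + i) ^ 2 = 3 + 4 * i + i * i + 1 by ring, Nat.add_sub_cancel] at hG
  rw [hi] at hT h3
  nlinarith

/-- A four-group has a proper normaliser of order at least twelve. -/
lemma normalizer_klein (hodd : Odd (Fintype.card F)) (h3 : 3 < Fintype.card F)
    {V : Subgroup (PSLtwo F)} (hV : IsKleinFour V) :
    Subgroup.normalizer (V : Set (PSLtwo F)) ≠ ⊤ ∧
      12 ≤ Nat.card (Subgroup.normalizer (V : Set (PSLtwo F))) := by
  classical
  refine ⟨fun e => ?_, ?_⟩
  · have : IsSimpleGroup (PSLtwo F) := Cfsg.Agent.Lib.LinGroup.isSimpleGroup_PSL_fin (F := F)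
      (n := 2) le_rfl (fun _ => by rw [Nat.card_eq_fintype_card]; omega)
    have hn : V.Normal := Subgroup.normalizer_eq_top_iff.1 e
    rcases hn.eq_bot_or_eq_top with h | h
    · have := hV.card_four
      rw [h, Subgroup.card_bot] at this
      omega
    · have h4 := hV.card_four
      rw [h, Subgroup.card_top] at h4
      have h60 := card_PSLtwo_odd hodd
      rw [h4] at h60
      obtain ⟨t, ht⟩ := hodd
      have h5 : 5 ≤ Fintype.card F := by omega
      have h24 : 24 ≤ Fintype.card F ^ 2 - 1 := by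
        have : 5 ^ 2 ≤ Fintype.card F ^ 2 := Nat.pow_le_pow_left h5 2
        omega
      have := Nat.mul_le_mul h5 h24
      omega
  · have h1 := card_conj_subgroups V
    have h2 := card_kleinFour_mul hodd
    have hle : Nat.card {W : Subgroup (PSLtwo F) // ∃ g, W = V.map (MulAut.conj g).toMonoidHom} ≤
        Nat.card {W : Subgroup (PSLtwo F) // IsKleinFour W} := by
      refine Nat.card_le_card_of_injective (fun W => ⟨W.1, ?_⟩) fun a b e =>
        Subtype.ext (congrArg Subtype.val e :)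
      obtain ⟨g, hg⟩ := W.2
      let e := Subgroup.equivMapOfInjective V (MulAut.conj g).toMonoidHom (MulEquiv.injective _)
      rw [hg]
      exact ⟨(Nat.card_congr e.toEquiv).symm.trans hV.card_four,
        (Monoid.exponent_eq_of_mulEquiv e).symm.trans hV.exponent_two⟩
    have hpos : 0 < Nat.card (PSLtwo F) := Nat.card_pos
    have h4 : Nat.card {W : Subgroup (PSLtwo F) // ∃ g, W = V.map (MulAut.conj g).toMonoidHom} * 12 ≤
        Nat.card {W : Subgroup (PSLtwo F) // ∃ g, W = V.map (MulAut.conj g).toMonoidHom} *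
          Nat.card (Subgroup.normalizer (V : Set (PSLtwo F))) := by
      rw [h1, ← h2, mul_comm 12]
      exact Nat.mul_le_mul_right _ hle
    refine Nat.le_of_mul_le_mul_left h4 ?_
    rcases Nat.eq_zero_or_pos (Nat.card {W : Subgroup (PSLtwo F) // ∃ g, W = V.map (MulAut.conj g).toMonoidHom}) with z | z
    · rw [z, zero_mul] at h1; omega
    · exact z

/-! ### The dihedral case -/

/-- `D` commutes with the matrix of `g`. -/
def CommMat (D : GL (Fin 2) F) (g : SLtwo F) : Prop :=
  (D : Matrix (Fin 2) (Fin 2) F) * (g : Matrix (Fin 2) (Fin 2) F) =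
    (g : Matrix (Fin 2) (Fin 2) F) * (D : Matrix (Fin 2) (Fin 2) F)

lemma commMat_iff_slConj {D : GL (Fin 2) F} {g : SLtwo F} : CommMat D g ↔ slConj D g = g := by
  constructor
  · intro h
    refine toGL_inj ?_
    rw [toGL_slConj, mul_inv_eq_iff_eq_mul]
    exact Units.ext h
  · intro h
    have h' := congrArg Matrix.SpecialLinearGroup.toGL h
    rw [toGL_slConj, mul_inv_eq_iff_eq_mul] at h'
    exact congrArg Units.val h'

lemma not_scalar_of_semi {g : SLtwo F} (hg : IsSemi (proj g)) :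
    ¬ IsScalarMat (g : Matrix (Fin 2) (Fin 2) F) := by
  rintro ⟨h01, h10, h11⟩
  refine hg.ne_one (proj_eq_one_iff.2 ?_)
  rw [mem_center_iff_entries]
  exact ⟨h01, h10, h11⟩

/-- An inverter of `g` inverts every class of a matrix commuting with `g`. -/
lemma conj_commMat {g nn : SLtwo F} (hns : ¬ IsScalarMat (g : Matrix (Fin 2) (Fin 2) F))
    (hn : nn * g * nn⁻¹ = g⁻¹) {D : GL (Fin 2) F} (hD : CommMat D g) :
    toP (proj nn) * Matrix.ProjGenLinGroup.mk D * (toP (proj nn))⁻¹ =
      (Matrix.ProjGenLinGroup.mk D)⁻¹ := by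
  obtain ⟨z, hz⟩ := exists_commElt hns hD
  rw [eq_inv_iff_mul_eq_one]
  show Matrix.ProjGenLinGroup.mk (Matrix.SpecialLinearGroup.toGL nn) * _ *
    (Matrix.ProjGenLinGroup.mk (Matrix.SpecialLinearGroup.toGL nn))⁻¹ * _ = 1
  rw [← map_inv, ← map_mul, ← map_mul, ← map_mul, Matrix.ProjGenLinGroup.mk_eq_one,
    Subgroup.mem_center_iff]
  set X := Matrix.SpecialLinearGroup.toGL nn * D * (Matrix.SpecialLinearGroup.toGL nn)⁻¹ * D
  have hX : (X : Matrix (Fin 2) (Fin 2) F) =
      (z.1 * z.1 + z.1 * z.2 * tr g + z.2 * z.2) • (1 : Matrix (Fin 2) (Fin 2) F) := by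
    have e1 : (nn : Matrix (Fin 2) (Fin 2) F) * (g : Matrix (Fin 2) (Fin 2) F) *
        ((nn⁻¹ : SLtwo F) : Matrix (Fin 2) (Fin 2) F) = ((g⁻¹ : SLtwo F) : Matrix (Fin 2) (Fin 2) F) := by
      rw [← Matrix.SpecialLinearGroup.coe_mul, ← Matrix.SpecialLinearGroup.coe_mul, hn]
    have e2 : (nn : Matrix (Fin 2) (Fin 2) F) * ((nn⁻¹ : SLtwo F) : Matrix (Fin 2) (Fin 2) F) = 1 := by
      rw [← Matrix.SpecialLinearGroup.coe_mul, mul_inv_cancel, Matrix.SpecialLinearGroup.coe_one]
    have hX' : (X : Matrix (Fin 2) (Fin 2) F) = (nn : Matrix (Fin 2) (Fin 2) F) *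
        (D : Matrix (Fin 2) (Fin 2) F) * ((nn⁻¹ : SLtwo F) : Matrix (Fin 2) (Fin 2) F) *
          (D : Matrix (Fin 2) (Fin 2) F) := by
      show ((Matrix.SpecialLinearGroup.toGL nn * D * (Matrix.SpecialLinearGroup.toGL nn)⁻¹ * D :
        GL (Fin 2) F) : Matrix (Fin 2) (Fin 2) F) = _
      rw [← map_inv]; rfl
    have e3 : (nn : Matrix (Fin 2) (Fin 2) F) * (D : Matrix (Fin 2) (Fin 2) F) *
        ((nn⁻¹ : SLtwo F) : Matrix (Fin 2) (Fin 2) F) =
        commElt ((g⁻¹ : SLtwo F) : Matrix (Fin 2) (Fin 2) F) z := by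
      rw [hz, commElt, commElt, mul_add, add_mul, Matrix.mul_smul, Matrix.mul_smul, Matrix.smul_mul,
        Matrix.smul_mul, mul_one, e2, e1]
    rw [hX', e3, hz]
    have hd := det_entries g
    ext i j
    fin_cases i <;> fin_cases j <;>
      simp [Matrix.mul_apply, Fin.sum_univ_two, Matrix.adjugate_fin_two, tr] <;>
      first | linear_combination (z.2 * z.2) * hd | linear_combination -(z.2 * z.2) * hd | ring
  intro w
  refine Units.ext ?_
  show (w : Matrix (Fin 2) (Fin 2) F) * (X : Matrix (Fin 2) (Fin 2) F) =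
    (X : Matrix (Fin 2) (Fin 2) F) * (w : Matrix (Fin 2) (Fin 2) F)
  rw [hX]
  simp

/-- The involutory classes commuting with `g` coincide. -/
lemma mk_eq_of_sq (h2 : (2 : F) ≠ 0) {g : SLtwo F} (hns : ¬ IsScalarMat (g : Matrix (Fin 2) (Fin 2) F))
    {E E' : GL (Fin 2) F} (hE : CommMat E g) (hE' : CommMat E' g)
    (h1 : Matrix.ProjGenLinGroup.mk E ≠ 1) (h1' : Matrix.ProjGenLinGroup.mk E' ≠ 1)
    (hs : Matrix.ProjGenLinGroup.mk E * Matrix.ProjGenLinGroup.mk E = 1)
    (hs' : Matrix.ProjGenLinGroup.mk E' * Matrix.ProjGenLinGroup.mk E' = 1) :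
    Matrix.ProjGenLinGroup.mk E = Matrix.ProjGenLinGroup.mk E' := by
  have key : ∀ E : GL (Fin 2) F, CommMat E g → Matrix.ProjGenLinGroup.mk E ≠ 1 →
      Matrix.ProjGenLinGroup.mk E * Matrix.ProjGenLinGroup.mk E = 1 →
      ∃ b : F, b ≠ 0 ∧ (E : Matrix (Fin 2) (Fin 2) F) =
        commElt (g : Matrix (Fin 2) (Fin 2) F) (-(b * tr g) / 2, b) := by
    intro E hE h1 hs
    obtain ⟨z, hz⟩ := exists_commElt hns hE
    have hb : z.2 ≠ 0 := fun e => h1 (by
      rw [Matrix.ProjGenLinGroup.mk_eq_one, Subgroup.mem_center_iff]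
      intro w
      apply Units.ext
      rw [Units.val_mul, Units.val_mul, hz]
      simp [commElt, e])
    rw [← map_mul, Matrix.ProjGenLinGroup.mk_eq_one,
      Matrix.GeneralLinearGroup.center_eq_range_scalar] at hs
    obtain ⟨c, hc⟩ := hs
    have hcE := congrArg Units.val hc
    rw [Units.val_mul, hz, commElt_mul] at hcE
    set w := pairMul ((g : Matrix (Fin 2) (Fin 2) F) 0 0 + (g : Matrix (Fin 2) (Fin 2) F) 1 1)
      (g : Matrix (Fin 2) (Fin 2) F).det z z
    have h01 := congrFun (congrFun hcE 0) 1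
    have h10 := congrFun (congrFun hcE 1) 0
    have h00 := congrFun (congrFun hcE 0) 0
    have h11 := congrFun (congrFun hcE 1) 1
    simp [Matrix.scalar_apply] at h01 h10 h00 h11
    have hw : w.2 = 0 := by
      by_contra hw
      refine hns ⟨h01.resolve_left hw, h10.resolve_left hw, ?_⟩
      exact mul_left_cancel₀ hw (by linear_combination h11 - h00 : w.2 * (g : Matrix (Fin 2) (Fin 2) F) 0 0 = w.2 * (g : Matrix (Fin 2) (Fin 2) F) 1 1)
    have hw' : z.2 * (z.2 * tr g + 2 * z.1) = 0 := by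
      rw [← hw]
      simp only [w, pairMul, tr]
      ring
    have hz1 := (mul_eq_zero.1 hw').resolve_left hb
    refine ⟨z.2, hb, ?_⟩
    rw [hz]
    congr 1
    refine Prod.ext ?_ rfl
    field_simp
    linear_combination hz1
  obtain ⟨b, hb, he⟩ := key E hE h1 hs
  obtain ⟨b', hb', he'⟩ := key E' hE' h1' hs'
  refine Matrix.ProjGenLinGroup.mk_eq_mk_iff.2 ⟨Units.mk0 (b' / b) (div_ne_zero hb' hb), ?_⟩
  apply Units.ext
  rw [Units.val_mul, he, he']
  ext i j
  fin_cases i <;> fin_cases j <;>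
    simp [Matrix.mul_apply, Fin.sum_univ_two, Matrix.scalar_apply] <;> field_simp <;> ring

include hodd h3 hM hML in
/-- An invariant torus: `M` is dihedral. -/
theorem dihedral_route {x : PSLtwo F} (hx : IsSemi x)
    (hinv : ∀ δ ∈ M, pglAct δ x ∈ torus x) :
    M.comap toP = Subgroup.normalizer ((torus x : Subgroup (PSLtwo F)) : Set (PSLtwo F)) ∧
      (3 ≤ Nat.card (torus x) → Nonempty (M ≃* DihedralGroup (2 * Nat.card (torus x)))) := by
  classical
  have h2 : (2 : F) ≠ 0 := two_ne_zero_iff_odd.2 hodd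
  have hH : M.comap toP = Subgroup.normalizer ((torus x : Subgroup (PSLtwo F)) : Set (PSLtwo F)) := by
    refine eq_normalizer_of_invariant hM (fun δ hδ y hy => ?_) (normalizer_torus_ne_top h3 hx)
    have hne : pglAct δ x ≠ 1 := fun e => hx.ne_one ((pglAct δ).injective (by rw [e, map_one]))
    rw [← torus_eq_of_mem hx.ne_one (hinv δ hδ) hne]
    exact pglAct_mem_torus hy δ
  refine ⟨hH, fun hτ => ?_⟩
  obtain ⟨g, rfl⟩ := proj_surjective x
  set τ := Nat.card (torus (proj g)) with hτdef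
  have htr := hx.tr_ne
  have hns := not_scalar_of_semi hx
  obtain ⟨n, hn, hnT⟩ := exists_inverter hx
  obtain ⟨hn2, hninv⟩ := normalizer_torus_inverts hx hn hnT
  have hnM : toP n ∈ M := by
    have := hH.ge hn
    exact this
  obtain ⟨nn, rfl⟩ := proj_surjective n
  have hnng : nn * g * nn⁻¹ = g⁻¹ := by
    have h := hninv _ (mem_torus_self (proj g))
    have hmem : proj (nn * g * nn⁻¹) ∈ torus (proj g) := by
      rw [map_mul, map_mul, map_inv, h]; exact (torus _).inv_mem (mem_torus_self _)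
    refine (eq_or_eq_inv_of_tr htr (proj_mem_torus_iff.1 hmem) (tr_conj g nn)).resolve_left fun e => ?_
    exact hnT (proj_mem_torus_iff.2
      (Subgroup.mem_centralizer_singleton_iff.2 (mul_inv_eq_iff_eq_mul.1 e)))
  -- an element outside `PSL₂` commuting with `g`
  obtain ⟨D, hDM, hDR, hDc⟩ : ∃ D : GL (Fin 2) F, Matrix.ProjGenLinGroup.mk D ∈ M ∧
      Matrix.ProjGenLinGroup.mk D ∉ (toP (F := F)).range ∧ CommMat D g := by
    obtain ⟨δ, hδ, hδR⟩ := exists_mem_outside hodd hM hML
    obtain ⟨D, rfl⟩ := Matrix.ProjGenLinGroup.mk_surjective δ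
    have h := hinv _ hδ
    rw [pglAct_mk, proj_mem_torus_iff] at h
    rcases eq_or_eq_inv_of_tr htr h (tr_slConj D g) with e | e
    · exact ⟨D, hδ, hδR, commMat_iff_slConj.2 e⟩
    · refine ⟨Matrix.SpecialLinearGroup.toGL nn * D, ?_, ?_, commMat_iff_slConj.2 ?_⟩
      · rw [map_mul]; exact M.mul_mem hnM hδ
      · rw [map_mul]
        intro hmem
        exact hδR (((toP (F := F)).range.mul_mem_cancel_left (x := toP (proj nn)) ⟨proj nn, rfl⟩).1 hmem)
      · refine toGL_inj ?_
        rw [toGL_slConj, _root_.mul_inv_rev,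
          show Matrix.SpecialLinearGroup.toGL nn * D * Matrix.SpecialLinearGroup.toGL g *
            (D⁻¹ * (Matrix.SpecialLinearGroup.toGL nn)⁻¹) = Matrix.SpecialLinearGroup.toGL nn *
              (D * Matrix.SpecialLinearGroup.toGL g * D⁻¹) * (Matrix.SpecialLinearGroup.toGL nn)⁻¹ by group,
          ← toGL_slConj, e, ← map_inv, ← map_mul, ← map_mul]
        congr 1
        rw [← _root_.inv_inj]
        simpa [mul_assoc] using hnng
  have := isCyclic_torus_semi hx
  obtain ⟨t, ht⟩ := IsCyclic.exists_generator (α := torus (proj g))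
  have hto : orderOf (t : PSLtwo F) = τ := by
    rw [Subgroup.orderOf_coe, orderOf_eq_card_of_forall_mem_zpowers ht]
  have hTC : ∀ y ∈ torus (proj g), ∃ h : SLtwo F, proj h = y ∧
      CommMat (Matrix.SpecialLinearGroup.toGL h) g := fun y hy => by
    obtain ⟨h, rfl⟩ := proj_surjective y
    exact ⟨h, rfl, congrArg (fun s : SLtwo F => (s : Matrix (Fin 2) (Fin 2) F))
      (Subgroup.mem_centralizer_singleton_iff.1 (proj_mem_torus_iff.1 hy))⟩
  have hRt : ∀ j : ℕ, toP (t : PSLtwo F) ^ j ∈ (toP (F := F)).range := fun j =>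
    Subgroup.pow_mem _ (⟨(t : PSLtwo F), rfl⟩ : toP (t : PSLtwo F) ∈ (toP (F := F)).range) j
  -- the square of `D`
  obtain ⟨i, hi⟩ : ∃ i : ℕ, Matrix.ProjGenLinGroup.mk D * Matrix.ProjGenLinGroup.mk D =
      toP ((t : PSLtwo F) ^ i) := by
    have hR : Matrix.ProjGenLinGroup.mk D * Matrix.ProjGenLinGroup.mk D ∈ (toP (F := F)).range :=
      Subgroup.mul_self_mem_of_index_two (index_range_toP hodd) _
    obtain ⟨u, hu⟩ := hR
    have huT : u ∈ torus (proj g) := by
      obtain ⟨h, rfl⟩ := proj_surjective u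
      rw [proj_mem_torus_iff, Subgroup.mem_centralizer_singleton_iff]
      rw [← map_mul] at hu
      obtain ⟨c, hc⟩ := Matrix.ProjGenLinGroup.mk_eq_mk_iff.1
        (show Matrix.ProjGenLinGroup.mk (Matrix.SpecialLinearGroup.toGL h) =
          Matrix.ProjGenLinGroup.mk (D * D) from hu)
      refine toGL_inj ?_
      rw [map_mul, map_mul]
      have hcomm : D * Matrix.SpecialLinearGroup.toGL g = Matrix.SpecialLinearGroup.toGL g * D :=
        Units.ext hDc
      have hcc : Commute (Matrix.GeneralLinearGroup.scalar (Fin 2) c) (Matrix.SpecialLinearGroup.toGL g) := by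
        refine (Subgroup.mem_center_iff.1 ?_ _).symm
        rw [Matrix.GeneralLinearGroup.center_eq_range_scalar]; exact ⟨c, rfl⟩
      have hDD : Commute (D * D) (Matrix.SpecialLinearGroup.toGL g) :=
        Commute.mul_left hcomm hcomm
      rw [← hc] at hDD
      have h3 := (Commute.inv_left hcc).mul_left hDD
      first
        | (rwa [inv_mul_cancel_left] at h3)
        | (have h4 := hDD.mul_left (Commute.inv_left hcc); rwa [mul_inv_cancel_right] at h4)
    obtain ⟨i, hi⟩ := (mem_powers_iff_mem_zpowers.2 (ht ⟨u, huT⟩))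
    exact ⟨i, by rw [← hu]; congr 1; exact (congrArg Subtype.val hi).symm⟩
  have hpar : τ % 2 = 1 ∨ i % 2 = 1 := by
    by_contra hcon
    push Not at hcon
    obtain ⟨l, hl⟩ : ∃ l, i = 2 * l := ⟨i / 2, by omega⟩
    obtain ⟨h, hh, hhc⟩ := hTC _ ((torus (proj g)).inv_mem ((torus (proj g)).pow_mem t.2 l))
    obtain ⟨σ, hσ, hσc⟩ := hTC _ ((torus (proj g)).pow_mem t.2 (τ / 2))
    set E := D * Matrix.SpecialLinearGroup.toGL h with hE
    have hEc : CommMat E g := by
      show (E : Matrix (Fin 2) (Fin 2) F) * _ = _ * (E : Matrix (Fin 2) (Fin 2) F)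
      rw [hE, Units.val_mul, mul_assoc, show (Matrix.SpecialLinearGroup.toGL h : Matrix (Fin 2) (Fin 2) F) *
        (g : Matrix (Fin 2) (Fin 2) F) = _ from hhc, ← mul_assoc, show (D : Matrix (Fin 2) (Fin 2) F) *
        (g : Matrix (Fin 2) (Fin 2) F) = _ from hDc, mul_assoc]
    have hDt : Commute (Matrix.ProjGenLinGroup.mk D) (toP (t : PSLtwo F)) := by
      obtain ⟨t', ht', htc⟩ := hTC _ t.2
      rw [← ht']
      show Matrix.ProjGenLinGroup.mk D * Matrix.ProjGenLinGroup.mk _ = Matrix.ProjGenLinGroup.mk _ * _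
      rw [← map_mul, ← map_mul]
      congr 1
      apply Units.ext
      exact commute_of_commute hns hDc htc
    have hEmk : Matrix.ProjGenLinGroup.mk E = Matrix.ProjGenLinGroup.mk D * (toP (t : PSLtwo F) ^ l)⁻¹ := by
      rw [hE, map_mul, show Matrix.ProjGenLinGroup.mk (Matrix.SpecialLinearGroup.toGL h) = toP (proj h) from rfl,
        hh, map_inv, map_pow]
    have hEs : Matrix.ProjGenLinGroup.mk E * Matrix.ProjGenLinGroup.mk E = 1 := by
      rw [hEmk]
      have hc' := (hDt.pow_right l).inv_right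
      calc Matrix.ProjGenLinGroup.mk D * (toP (t : PSLtwo F) ^ l)⁻¹ *
            (Matrix.ProjGenLinGroup.mk D * (toP (t : PSLtwo F) ^ l)⁻¹)
          = Matrix.ProjGenLinGroup.mk D * ((toP (t : PSLtwo F) ^ l)⁻¹ * Matrix.ProjGenLinGroup.mk D) *
              (toP (t : PSLtwo F) ^ l)⁻¹ := by group
        _ = Matrix.ProjGenLinGroup.mk D * (Matrix.ProjGenLinGroup.mk D * (toP (t : PSLtwo F) ^ l)⁻¹) *
              (toP (t : PSLtwo F) ^ l)⁻¹ := by rw [hc'.eq]
        _ = (Matrix.ProjGenLinGroup.mk D * Matrix.ProjGenLinGroup.mk D) *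
              ((toP (t : PSLtwo F) ^ l)⁻¹ * (toP (t : PSLtwo F) ^ l)⁻¹) := by group
        _ = 1 := by
          rw [hi, hl, map_pow, two_mul, pow_add]; group
    have hER : Matrix.ProjGenLinGroup.mk E ∉ (toP (F := F)).range := by
      rw [hEmk]
      intro hmem
      refine hDR (((toP (F := F)).range.mul_mem_cancel_right ?_).1 hmem)
      exact Subgroup.inv_mem _ (hRt _)
    have hσo : orderOf ((t : PSLtwo F) ^ (τ / 2)) = 2 := by
      rw [orderOf_pow_of_dvd (by omega) (hto.symm ▸ ⟨2, by omega⟩), hto]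
      exact Nat.div_eq_of_eq_mul_left (by omega) (by omega)
    have hσ1 : toP (proj σ) ≠ 1 := fun e => by
      rw [toP_injective (e.trans (map_one toP).symm)] at hσ
      rw [← hσ, orderOf_one] at hσo
      omega
    have hσs : toP (proj σ) * toP (proj σ) = 1 := by
      rw [hσ, ← map_mul, sq_of_orderOf_two hσo, map_one]
    have := mk_eq_of_sq h2 hns hEc hσc (fun e => hER (e ▸ Subgroup.one_mem _)) hσ1 hEs hσs
    exact hER (this ▸ ⟨proj σ, rfl⟩)
  obtain ⟨k, hk⟩ : ∃ k, i + 2 * k ≡ 1 [MOD τ] := by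
    rcases Nat.eq_zero_or_pos (τ % 2) with he | he
    · obtain ⟨l, hl⟩ : ∃ l, i = 2 * l + 1 := ⟨i / 2, by omega⟩
      refine ⟨(τ - 1) * l, ?_⟩
      obtain ⟨s, hs⟩ : ∃ s, τ = s + 1 := ⟨τ - 1, by omega⟩
      rw [hl, hs, Nat.add_sub_cancel]
      unfold Nat.ModEq
      rw [show 2 * l + 1 + 2 * (s * l) = 1 + (s + 1) * (2 * l) by ring, Nat.add_mul_mod_self_left]
    · obtain ⟨s, hs⟩ : ∃ s, τ = 2 * s + 1 := ⟨τ / 2, by omega⟩
      refine ⟨(s + 1) * (2 * s * i + 1), ?_⟩
      rw [hs]
      unfold Nat.ModEq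
      rw [show i + 2 * ((s + 1) * (2 * s * i + 1)) = 1 + (2 * s + 1) * ((2 * s + 1) * i + 1) by ring,
        Nat.add_mul_mod_self_left]
  obtain ⟨h, hh, hhc⟩ := hTC _ ((torus (proj g)).pow_mem t.2 k)
  set C := D * Matrix.SpecialLinearGroup.toGL h with hC
  have hCc : CommMat C g := by
    show (C : Matrix (Fin 2) (Fin 2) F) * _ = _ * (C : Matrix (Fin 2) (Fin 2) F)
    rw [hC, Units.val_mul, mul_assoc, show (Matrix.SpecialLinearGroup.toGL h : Matrix (Fin 2) (Fin 2) F) *
      (g : Matrix (Fin 2) (Fin 2) F) = _ from hhc, ← mul_assoc, show (D : Matrix (Fin 2) (Fin 2) F) *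
      (g : Matrix (Fin 2) (Fin 2) F) = _ from hDc, mul_assoc]
  set c := Matrix.ProjGenLinGroup.mk C with hc
  have hcmk : c = Matrix.ProjGenLinGroup.mk D * toP (t : PSLtwo F) ^ k := by
    rw [hc, hC, map_mul, ← map_pow, ← hh]; rfl
  have hTM : ∀ y ∈ torus (proj g), toP y ∈ M := fun y hy => hH.ge (Subgroup.le_normalizer hy)
  have hcM : c ∈ M := by
    rw [hcmk, ← map_pow]; exact M.mul_mem hDM (hTM _ ((torus (proj g)).pow_mem t.2 k))
  have hcR : c ∉ (toP (F := F)).range := by
    rw [hcmk]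
    intro hmem
    exact hDR (((toP (F := F)).range.mul_mem_cancel_right (hRt _)).1 hmem)
  have hDh : Commute (Matrix.ProjGenLinGroup.mk D) (toP (t : PSLtwo F) ^ k) := by
    rw [← map_pow, ← hh]
    show Matrix.ProjGenLinGroup.mk D * Matrix.ProjGenLinGroup.mk _ = Matrix.ProjGenLinGroup.mk _ * _
    rw [← map_mul, ← map_mul]
    congr 1
    apply Units.ext
    exact commute_of_commute hns hDc hhc
  have hc2 : c ^ 2 = toP (t : PSLtwo F) := by
    rw [hcmk, hDh.mul_pow, sq, hi, ← pow_mul, ← map_pow, ← map_mul, ← pow_add]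
    congr 1
    conv_rhs => rw [← pow_one (t : PSLtwo F)]
    rw [pow_eq_pow_iff_modEq, hto, mul_comm k 2]
    exact hk
  have hco : orderOf c = 2 * τ := by
    have hd : orderOf c ∣ 2 * τ := orderOf_dvd_of_pow_eq_one (by
      rw [pow_mul, hc2, ← map_pow, ← hto, pow_orderOf_eq_one, map_one])
    have hd2 : τ ∣ orderOf c := by
      rw [← hto, ← orderOf_injective toP toP_injective (t : PSLtwo F)]
      refine orderOf_dvd_of_pow_eq_one ?_
      rw [← hc2, ← pow_mul, mul_comm, pow_mul, pow_orderOf_eq_one, one_pow]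
    obtain ⟨j, hj⟩ := hd2
    rw [hj, mul_comm 2 τ] at hd
    have hjd := Nat.dvd_of_mul_dvd_mul_left (by omega) hd
    rcases (Nat.dvd_prime Nat.prime_two).1 hjd with z | z
    · exfalso
      rw [z, mul_one] at hj
      rcases Nat.even_or_odd τ with ⟨s, hs⟩ | ⟨s, hs⟩
      · have h1 : (t : PSLtwo F) ^ s = 1 := toP_injective (by
          rw [map_pow, ← hc2, ← pow_mul, two_mul, ← hs, ← hj, pow_orderOf_eq_one, map_one])
        have := Nat.le_of_dvd (by omega) (orderOf_dvd_of_pow_eq_one h1)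
        omega
      · refine hcR ?_
        have h1 : c = (c ^ 2) ^ (s + 1) := by
          rw [← pow_mul, show 2 * (s + 1) = orderOf c + 1 by omega, pow_succ, pow_orderOf_eq_one,
            one_mul]
        rw [h1, hc2]
        exact hRt _
    · rw [hj, z, mul_comm]
  have hsc : toP (proj nn) * c * (toP (proj nn))⁻¹ = c⁻¹ := conj_commMat hns hnng hCc
  have hcard : Nat.card M = 2 * (2 * τ) := by
    rw [card_coatom_PGL hodd hM hML, hH, normalizer_torus_card hx]
  have : NeZero (2 * τ) := ⟨by omega⟩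
  refine iso_dihedral (⟨c, hcM⟩ : M) ⟨toP (proj nn), hnM⟩ (by rw [Subgroup.orderOf_mk, hco])
    (Subtype.ext (show toP (proj nn) * toP (proj nn) = 1 by rw [← map_mul, hn2, map_one]))
    (Subtype.ext hsc) (fun hmem => ?_) hcard
  obtain ⟨z, hz⟩ := hmem
  have hz' : c ^ z = toP (proj nn) := by simpa using congrArg Subtype.val hz
  rw [← hz', (Commute.zpow_self c z).eq, mul_inv_cancel_right] at hsc
  have hle : orderOf c ≤ 2 := orderOf_le_of_pow_eq_one two_pos (by
    rw [sq]; exact mul_eq_one_iff_eq_inv.2 hsc)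
  omega

end Structure

end Cfsg.Agent.Lib.SL2
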