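import Mathlib
import Cfsg.Prelude.Def_Blocks
import Cfsg.Agent.Lib.SL2.Centralizer
import Cfsg.Agent.Lib.SL2.Orders
import Cfsg.Agent.Lib.Chars.Completeness
import Cfsg.Agent.Lib.Chars.Integral
import Cfsg.Agent.Lib.Blocks.DefectProps
import Cfsg.Agent.Lib.Blocks.DefectCard
import Cfsg.Agent.Lib.Blocks.CentralKernel

/-!
# The p-blocks of SL(2,q) in the defining characteristic, from the degree facts
-/

set_option autoImplicit false

namespace Cfsg.Agent.Lib.SL2

open Cfsg Cfsg.Agent.Lib Cfsg.Agent.Lib.Blocks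

variable {F : Type*} [Field F] [Fintype F] {p : ℕ} [Fact p.Prime] [CharP F p]
variable {M : Ideal AlgInt}

lemma two_ne_zero_of_char (hp : p ≠ 2) : (2 : F) ≠ 0 := by
  intro h
  have h' : ((2 : ℕ) : F) = 0 := by exact_mod_cast h
  exact hp ((Nat.prime_dvd_prime_iff_eq Fact.out Nat.prime_two).1
    ((CharP.cast_eq_zero_iff F p 2).1 h'))

lemma dvd_card_of_char : p ∣ Fintype.card F := by
  obtain ⟨n, hn, h⟩ := FiniteField.card F p
  rw [h]; exact dvd_pow_self p n.ne_zero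

/-- The value of an irreducible character at `-1`. -/
lemma irr_neg_one (χ : IrrCharacter (SLtwo F)) :
    (χ : SLtwo F → ℂ) (-1) = (χ : SLtwo F → ℂ) 1 ∨
      (χ : SLtwo F → ℂ) (-1) = -(χ : SLtwo F → ℂ) 1 := by
  have h0 := Chars.irr_apply_one_ne_zero χ
  have h := CentralKernel.irr_mul_central χ (neg_one_mem_center (F := F)) (-1)
  rw [show (-1 : SLtwo F) * -1 = 1 by apply ext_entries <;> simp, eq_div_iff h0] at h
  rcases mul_self_eq_mul_self_iff.1 h.symm with h' | h'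
  · exact Or.inl h'
  · exact Or.inr h'

lemma irr_neg (χ : IrrCharacter (SLtwo F)) (g : SLtwo F) :
    (χ : SLtwo F → ℂ) (-g) =
      (χ : SLtwo F → ℂ) g * (χ : SLtwo F → ℂ) (-1) / (χ : SLtwo F → ℂ) 1 := by
  rw [← CentralKernel.irr_mul_central χ (neg_one_mem_center (F := F)) g,
    show g * -1 = -g by apply ext_entries <;> simp]

lemma memLocalIdeal_parabolic [M.IsPrime] (hM : IsPModular p M) (χ : IrrCharacter (SLtwo F))
    {g : SLtwo F} (hg : g ∉ Subgroup.center (SLtwo F)) (ht : tr g = 2) :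
    MemLocalIdeal M ((χ : SLtwo F → ℂ) g - (χ : SLtwo F → ℂ) 1) := by
  have hpow : g ^ p = 1 := pow_char_of_tr_two p ht
  have hord : orderOf g = p :=
    orderOf_eq_prime hpow fun h => hg (h ▸ Subgroup.one_mem _)
  have hz : IsPPart p g g := ⟨1, mul_one g, Commute.one_right g, ⟨1, by rw [hord, pow_one]⟩,
    by rw [orderOf_one]; exact (Fact.out : p.Prime).not_dvd_one⟩
  simpa using memLocalIdeal_char_sub hM (Chars.irr_isCharacter χ) hz

lemma dvd_index_semisimple {g : SLtwo F} (hg : IsElliptic g ∨ IsSplit g) :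
    p ∣ (Subgroup.centralizer ({g} : Set (SLtwo F))).index := by
  set q := Fintype.card F with hq
  have hq2 : 2 ≤ q := Fintype.one_lt_card
  have hpq : p ∣ q := dvd_card_of_char
  have h := (Subgroup.centralizer ({g} : Set (SLtwo F))).card_mul_index
  rw [card_SLtwo, ← hq] at h
  have hcop : ¬ p ∣ Nat.card (Subgroup.centralizer ({g} : Set (SLtwo F))) := by
    rcases hg with e | e
    · rw [card_centralizer_elliptic e, ← hq]
      exact fun hd => (Fact.out : p.Prime).not_dvd_one ((Nat.dvd_add_right hpq).1 hd)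
    · rw [card_centralizer_split e, ← hq]
      intro hd
      have := Nat.dvd_sub hpq hd
      rw [show q - (q - 1) = 1 by omega] at this
      exact (Fact.out : p.Prime).not_dvd_one this
  exact ((Fact.out : p.Prime).dvd_mul.1 (h ▸ dvd_mul_of_dvd_left hpq _)).resolve_left hcop

/-- Two characters of degree prime to `p` with the same central sign are in the same block. -/
lemma sameBlock_of_sign [M.IsPrime] (hM : IsPModular p M) (χ ψ : IrrCharacter (SLtwo F))
    (hχ : ¬ p ∣ charDegree (χ : SLtwo F → ℂ)) (hψ : ¬ p ∣ charDegree (ψ : SLtwo F → ℂ))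
    (hs : (χ : SLtwo F → ℂ) (-1) / (χ : SLtwo F → ℂ) 1 =
      (ψ : SLtwo F → ℂ) (-1) / (ψ : SLtwo F → ℂ) 1) :
    SameBlock M (χ : SLtwo F → ℂ) (ψ : SLtwo F → ℂ) := by
  intro g
  obtain ⟨n, hn, -⟩ := exists_degree_eq χ
  obtain ⟨m, hm, -⟩ := exists_degree_eq ψ
  have hnM : ((charDegree (χ : SLtwo F → ℂ) : ℂ))⁻¹ ∈ localRing M :=
    inv_natCast_mem_localRing hM hχ
  have hmM : ((charDegree (ψ : SLtwo F → ℂ) : ℂ))⁻¹ ∈ localRing M :=
    inv_natCast_mem_localRing hM hψ
  simp only [centralChar]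
  by_cases hc : g ∈ Subgroup.center (SLtwo F)
  · rcases (mem_center_iff_eq g).1 hc with rfl | rfl
    · simp only [mul_div_assoc, div_self (Chars.irr_apply_one_ne_zero χ),
        div_self (Chars.irr_apply_one_ne_zero ψ), sub_self]
      exact memLocalIdeal_zero
    · simp only [mul_div_assoc, hs, sub_self]
      exact memLocalIdeal_zero
  rcases elliptic_or_split_or_parabolic g with he | he | ht
  · refine memLocalIdeal_sub ?_ ?_
    · rw [n, div_eq_mul_inv, mul_assoc]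
      refine memLocalIdeal_mul_right ((memLocalIdeal_natCast_iff hM _).2
        (dvd_index_semisimple (Or.inl he))) (mul_mem ?_ hnM)
      exact isIntegral_mem_localRing (Chars.irr_isIntegral χ g)
    · rw [m, div_eq_mul_inv, mul_assoc]
      refine memLocalIdeal_mul_right ((memLocalIdeal_natCast_iff hM _).2
        (dvd_index_semisimple (Or.inl he))) (mul_mem ?_ hmM)
      exact isIntegral_mem_localRing (Chars.irr_isIntegral ψ g)
  · refine memLocalIdeal_sub ?_ ?_
    · rw [n, div_eq_mul_inv, mul_assoc]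
      refine memLocalIdeal_mul_right ((memLocalIdeal_natCast_iff hM _).2
        (dvd_index_semisimple (Or.inr he))) (mul_mem ?_ hnM)
      exact isIntegral_mem_localRing (Chars.irr_isIntegral χ g)
    · rw [m, div_eq_mul_inv, mul_assoc]
      refine memLocalIdeal_mul_right ((memLocalIdeal_natCast_iff hM _).2
        (dvd_index_semisimple (Or.inr he))) (mul_mem ?_ hmM)
      exact isIntegral_mem_localRing (Chars.irr_isIntegral ψ g)
  · -- parabolic: reduce to a unipotent `u` and a central `z`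
    set c : ℂ := ((Subgroup.centralizer ({g} : Set (SLtwo F))).index : ℂ)
    have hcM : c ∈ localRing M := natCast_mem_localRing _
    have h0 := Chars.irr_apply_one_ne_zero χ
    have h0' := Chars.irr_apply_one_ne_zero ψ
    rcases ht with ht | ht
    · have e : c * (χ : SLtwo F → ℂ) g / (χ : SLtwo F → ℂ) 1 -
          c * (ψ : SLtwo F → ℂ) g / (ψ : SLtwo F → ℂ) 1 =
          ((χ : SLtwo F → ℂ) g - (χ : SLtwo F → ℂ) 1) * (c * ((χ : SLtwo F → ℂ) 1)⁻¹) -
          ((ψ : SLtwo F → ℂ) g - (ψ : SLtwo F → ℂ) 1) * (c * ((ψ : SLtwo F → ℂ) 1)⁻¹) := by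
        field_simp; ring
      rw [e, n, m]
      exact memLocalIdeal_sub
        (memLocalIdeal_mul_right (n ▸ memLocalIdeal_parabolic hM χ hc ht) (mul_mem hcM hnM))
        (memLocalIdeal_mul_right (m ▸ memLocalIdeal_parabolic hM ψ hc ht) (mul_mem hcM hmM))
    · have hc' : -g ∉ Subgroup.center (SLtwo F) := by
        intro h
        rcases (mem_center_iff_eq _).1 h with h' | h'
        · exact hc ((mem_center_iff_eq g).2 (Or.inr (by rw [← h', neg_neg])))
        · exact hc ((mem_center_iff_eq g).2 (Or.inl (by rw [← neg_inj, h'])))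
      have ht' : tr (-g) = 2 := by
        simp only [tr] at ht ⊢
        simp only [Matrix.SpecialLinearGroup.coe_neg, Matrix.neg_apply]
        linear_combination -ht
      have eχ := irr_neg χ (-g)
      have eψ := irr_neg ψ (-g)
      rw [neg_neg] at eχ eψ
      set s := (χ : SLtwo F → ℂ) (-1) / (χ : SLtwo F → ℂ) 1 with hsdef
      have hsM : s ∈ localRing M := by
        rcases irr_neg_one χ with h | h
        · rw [hsdef, h, div_self h0]; exact one_mem _
        · rw [hsdef, h, neg_div, div_self h0]; exact neg_mem (one_mem _)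
      have eχ' : (χ : SLtwo F → ℂ) g = (χ : SLtwo F → ℂ) (-g) * s := by
        rw [eχ, hsdef, mul_div_assoc]
      have eψ' : (ψ : SLtwo F → ℂ) g = (ψ : SLtwo F → ℂ) (-g) * s := by
        rw [eψ, hs, mul_div_assoc]
      have e : c * (χ : SLtwo F → ℂ) g / (χ : SLtwo F → ℂ) 1 -
          c * (ψ : SLtwo F → ℂ) g / (ψ : SLtwo F → ℂ) 1 =
          ((χ : SLtwo F → ℂ) (-g) - (χ : SLtwo F → ℂ) 1) * (c * s * ((χ : SLtwo F → ℂ) 1)⁻¹) -
          ((ψ : SLtwo F → ℂ) (-g) - (ψ : SLtwo F → ℂ) 1) * (c * s * ((ψ : SLtwo F → ℂ) 1)⁻¹) := by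
        rw [eχ', eψ']
        field_simp; ring
      rw [e, n, m]
      exact memLocalIdeal_sub
        (memLocalIdeal_mul_right (n ▸ memLocalIdeal_parabolic hM χ hc' ht')
          (mul_mem (mul_mem hcM hsM) hnM))
        (memLocalIdeal_mul_right (m ▸ memLocalIdeal_parabolic hM ψ hc' ht')
          (mul_mem (mul_mem hcM hsM) hmM))

lemma not_sameBlock_of_sign [M.IsPrime] (hM : IsPModular p M) (hp : p ≠ 2)
    (χ ψ : IrrCharacter (SLtwo F))
    (hχ : (χ : SLtwo F → ℂ) (-1) = (χ : SLtwo F → ℂ) 1)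
    (hψ : (ψ : SLtwo F → ℂ) (-1) = -(ψ : SLtwo F → ℂ) 1) :
    ¬ SameBlock M (χ : SLtwo F → ℂ) (ψ : SLtwo F → ℂ) ∧
      ¬ SameBlock M (ψ : SLtwo F → ℂ) (χ : SLtwo F → ℂ) := by
  have htop : Subgroup.centralizer ({-1} : Set (SLtwo F)) = ⊤ :=
    Subgroup.centralizer_eq_top_iff_subset.2 (Set.singleton_subset_iff.2 neg_one_mem_center)
  have key : centralChar (χ : SLtwo F → ℂ) (-1) = 1 ∧ centralChar (ψ : SLtwo F → ℂ) (-1) = -1 := by
    simp only [centralChar, htop, Subgroup.index_top, Nat.cast_one, one_mul, hχ, hψ, neg_div,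
      div_self (Chars.irr_apply_one_ne_zero χ), div_self (Chars.irr_apply_one_ne_zero ψ), and_self]
  have hno : ¬ (p : ℤ) ∣ 2 := by
    intro h
    exact hp ((Nat.prime_dvd_prime_iff_eq Fact.out Nat.prime_two).1 (by exact_mod_cast h))
  refine ⟨fun h => ?_, fun h => ?_⟩
  · have := h (-1)
    rw [key.1, key.2, show (1 : ℂ) - -1 = ((2 : ℤ) : ℂ) by norm_num,
      memLocalIdeal_intCast_iff hM] at this
    exact hno this
  · have := h (-1)
    rw [key.1, key.2, show (-1 : ℂ) - 1 = ((-2 : ℤ) : ℂ) by norm_num,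
      memLocalIdeal_intCast_iff hM, Int.dvd_neg] at this
    exact hno this

section Main

variable (St : IrrCharacter (SLtwo F)) (hSt : (St : SLtwo F → ℂ) 1 = (Fintype.card F : ℂ))
  (hSt' : (St : SLtwo F → ℂ) (-1) = (Fintype.card F : ℂ))
  (huniq : ∀ χ : IrrCharacter (SLtwo F),
    (χ : SLtwo F → ℂ) 1 = (Fintype.card F : ℂ) → χ = St)
  (hdeg : ∀ χ : IrrCharacter (SLtwo F),
    (χ : SLtwo F → ℂ) 1 ≠ (Fintype.card F : ℂ) → ¬ p ∣ charDegree (χ : SLtwo F → ℂ))

include hSt hSt' huniq hdeg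

lemma neg_sign_ne_card (hp : p ≠ 2) {χ : IrrCharacter (SLtwo F)}
    (h : (χ : SLtwo F → ℂ) (-1) = -(χ : SLtwo F → ℂ) 1) :
    (χ : SLtwo F → ℂ) 1 ≠ (Fintype.card F : ℂ) := by
  intro h1
  rw [huniq χ h1, hSt', hSt] at h
  have h3 : ((Fintype.card F : ℕ) : ℂ) = 0 := by linear_combination h / 2
  exact Fintype.card_ne_zero (Nat.cast_eq_zero.1 h3)

omit hSt hSt' huniq hdeg in
lemma exists_neg_sign (hp : p ≠ 2) :
    ∃ χ : IrrCharacter (SLtwo F), (χ : SLtwo F → ℂ) (-1) = -(χ : SLtwo F → ℂ) 1 := by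
  classical
  haveI := Fintype.ofFinite (SLtwo F)
  by_contra h
  push Not at h
  have : IsConj (1 : SLtwo F) (-1) :=
    Chars.isConj_iff_irr.2 fun χ => ((irr_neg_one χ).resolve_right (h χ)).symm
  exact neg_one_ne_one (two_ne_zero_of_char hp) (isConj_one_right.1 this)

theorem pBlocks_of_degrees (hp : p ≠ 2) (hM : IsPModular p M) :
    (∀ B : Set (IrrCharacter (SLtwo F)), IsPBlock M B ↔
      (B = {χ : IrrCharacter (SLtwo F) | (χ : SLtwo F → ℂ) 1 = (Fintype.card F : ℂ)} ∨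
       B = {χ : IrrCharacter (SLtwo F) | (χ : SLtwo F → ℂ) (-1) = (χ : SLtwo F → ℂ) 1 ∧
              (χ : SLtwo F → ℂ) 1 ≠ (Fintype.card F : ℂ)} ∨
       B = {χ : IrrCharacter (SLtwo F) | (χ : SLtwo F → ℂ) (-1) = -(χ : SLtwo F → ℂ) 1})) ∧
    Nat.card {B : Set (IrrCharacter (SLtwo F)) // IsPBlock M B} = 3 ∧
    ∀ P : Sylow p (SLtwo F),
      IsDefectGroup p M {χ : IrrCharacter (SLtwo F) | (χ : SLtwo F → ℂ) (-1) = (χ : SLtwo F → ℂ) 1 ∧
              (χ : SLtwo F → ℂ) 1 ≠ (Fintype.card F : ℂ)} (P : Subgroup (SLtwo F)) ∧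
      IsDefectGroup p M {χ : IrrCharacter (SLtwo F) | (χ : SLtwo F → ℂ) (-1) = -(χ : SLtwo F → ℂ) 1}
        (P : Subgroup (SLtwo F)) := by
  classical
  haveI := isPModular_isPrime hM
  haveI := Fintype.ofFinite (SLtwo F)
  set q := Fintype.card F with hq
  have hq1 : 2 ≤ q := Fintype.one_lt_card
  have hpq : p ∣ q := dvd_card_of_char
  set B0 := {χ : IrrCharacter (SLtwo F) | (χ : SLtwo F → ℂ) 1 = (q : ℂ)} with hB0
  set Bp := {χ : IrrCharacter (SLtwo F) | (χ : SLtwo F → ℂ) (-1) = (χ : SLtwo F → ℂ) 1 ∧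
              (χ : SLtwo F → ℂ) 1 ≠ (q : ℂ)} with hBp
  set Bm := {χ : IrrCharacter (SLtwo F) | (χ : SLtwo F → ℂ) (-1) = -(χ : SLtwo F → ℂ) 1} with hBm
  have hmne : ∀ {χ : IrrCharacter (SLtwo F)}, χ ∈ Bm → (χ : SLtwo F → ℂ) 1 ≠ (q : ℂ) :=
    fun h => neg_sign_ne_card St hSt hSt' huniq hdeg hp h
  have hB0s : B0 = {St} := Set.ext fun χ =>
    ⟨fun h => huniq χ h, fun h => (Set.mem_singleton_iff.1 h).symm ▸ hSt⟩
  have hqp : ¬ p ∣ q ^ 2 - 1 := by
    intro hd
    have h1 : p ∣ q ^ 2 := dvd_pow hpq two_ne_zero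
    have h2 := Nat.dvd_sub h1 hd
    rw [show q ^ 2 - (q ^ 2 - 1) = 1 by
      have := Nat.one_le_pow 2 q (by omega); omega] at h2
    exact (Fact.out : p.Prime).not_dvd_one h2
  have hStd : charDegree (St : SLtwo F → ℂ) = q := by
    simp [charDegree, hSt]
  have hblockSt : blockOf M (St : SLtwo F → ℂ) = {St} := by
    refine blockOf_eq_singleton_of_defect_zero hM St ?_
    rw [hStd, card_SLtwo, ← hq, Nat.mul_div_cancel_left _ (by omega)]
    exact hqp
  have hnotSt : ∀ χ : IrrCharacter (SLtwo F), (χ : SLtwo F → ℂ) 1 ≠ (q : ℂ) →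
      ¬ SameBlock M (χ : SLtwo F → ℂ) (St : SLtwo F → ℂ) := by
    intro χ hχ h
    have : χ ∈ blockOf M (St : SLtwo F → ℂ) := fun g => by
      have := memLocalIdeal_neg (h g); rwa [neg_sub] at this
    rw [hblockSt, Set.mem_singleton_iff] at this
    exact hχ (this ▸ hSt)
  -- the block of a character
  have hblock : ∀ χ : IrrCharacter (SLtwo F),
      (χ ∈ B0 → blockOf M (χ : SLtwo F → ℂ) = B0) ∧
      (χ ∈ Bp → blockOf M (χ : SLtwo F → ℂ) = Bp) ∧
      (χ ∈ Bm → blockOf M (χ : SLtwo F → ℂ) = Bm) := by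
    intro χ
    refine ⟨fun h => ?_, fun h => ?_, fun h => ?_⟩
    · rw [huniq χ h, hblockSt, hB0s]
    · ext ψ
      constructor
      · intro hψ
        have hψq : (ψ : SLtwo F → ℂ) 1 ≠ (q : ℂ) := fun e => hnotSt χ h.2 (huniq ψ e ▸ hψ)
        refine ⟨(irr_neg_one ψ).resolve_right fun e => ?_, hψq⟩
        exact (not_sameBlock_of_sign hM hp χ ψ h.1 e).1 hψ
      · intro hψ
        refine sameBlock_of_sign hM χ ψ (hdeg χ h.2) (hdeg ψ hψ.2) ?_
        rw [h.1, hψ.1, div_self (Chars.irr_apply_one_ne_zero χ),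
          div_self (Chars.irr_apply_one_ne_zero ψ)]
    · ext ψ
      constructor
      · intro hψ
        refine (irr_neg_one ψ).resolve_left fun e => ?_
        exact (not_sameBlock_of_sign hM hp ψ χ e h).2 hψ
      · intro hψ
        refine sameBlock_of_sign hM χ ψ (hdeg χ (hmne h)) (hdeg ψ (hmne hψ)) ?_
        rw [h, hψ, neg_div, neg_div, div_self (Chars.irr_apply_one_ne_zero χ),
          div_self (Chars.irr_apply_one_ne_zero ψ)]
  obtain ⟨χm, hχm⟩ := exists_neg_sign (F := F) hp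
  let χp : IrrCharacter (SLtwo F) := ⟨fun _ => 1, Chars.isIrrCharacter_one⟩
  have hχp : χp ∈ Bp := ⟨rfl, fun h => by
    have h'' : (1 : ℂ) = (q : ℂ) := h
    have h' : ((1 : ℕ) : ℂ) = (q : ℂ) := by exact_mod_cast h''
    have := Nat.cast_inj.1 h'
    omega⟩
  have hblk : ∀ B, IsPBlock M B ↔ (B = B0 ∨ B = Bp ∨ B = Bm) := by
    intro B
    constructor
    · rintro ⟨χ, rfl⟩
      by_cases h : (χ : SLtwo F → ℂ) 1 = (q : ℂ)
      · exact Or.inl ((hblock χ).1 h)
      · rcases irr_neg_one χ with e | e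
        · exact Or.inr (Or.inl ((hblock χ).2.1 ⟨e, h⟩))
        · exact Or.inr (Or.inr ((hblock χ).2.2 e))
    · rintro (rfl | rfl | rfl)
      · exact ⟨St, ((hblock St).1 hSt).symm⟩
      · exact ⟨χp, ((hblock χp).2.1 hχp).symm⟩
      · exact ⟨χm, ((hblock χm).2.2 hχm).symm⟩
  have h0p : B0 ≠ Bp := fun h => (show χp ∈ Bp from hχp).2 ((h ▸ hχp : χp ∈ B0))
  have h0m : B0 ≠ Bm := fun h => hmne (show χm ∈ Bm from hχm) ((h ▸ hχm : χm ∈ B0))
  have hpm : Bp ≠ Bm := fun h => by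
    have h1 : χp ∈ Bm := h ▸ hχp
    have h2 : (1 : ℂ) = -1 := h1
    norm_num at h2
  refine ⟨hblk, ?_, ?_⟩
  · have he : {B : Set (IrrCharacter (SLtwo F)) | IsPBlock M B} = {B0, Bp, Bm} := by
      ext B
      simp [hblk]
    rw [show Nat.card {B : Set (IrrCharacter (SLtwo F)) // IsPBlock M B} =
      Nat.card ↥{B : Set (IrrCharacter (SLtwo F)) | IsPBlock M B} from rfl, Nat.card_coe_set_eq, he]
    exact Set.ncard_eq_three.2 ⟨B0, Bp, Bm, h0p, h0m, hpm, rfl⟩
  · intro P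
    have hcent : Subgroup.centralizer ({1} : Set (SLtwo F)) = ⊤ :=
      Subgroup.centralizer_eq_top_iff_subset.2 (Set.singleton_subset_iff.2 (Subgroup.one_mem _))
    have hP : IsClassDefect p (1 : SLtwo F) (P : Subgroup (SLtwo F)) := by
      refine ⟨P.isPGroup', ?_, ?_⟩
      · rw [hcent]; exact le_top
      · rw [hcent, Nat.card_congr Subgroup.topEquiv.toEquiv]; exact P.card_eq_multiplicity
    -- the two sums of squares of degrees
    set N : ℕ := q * (q ^ 2 - 1) with hN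
    have hGN : Nat.card (SLtwo F) = N := card_SLtwo
    have hsq := Chars.sum_degree_sq (G := SLtwo F)
    have horth := Chars.sum_degree_mul_irr (G := SLtwo F) (-1)
    rw [if_neg (neg_one_ne_one (two_ne_zero_of_char hp))] at horth
    rw [hGN] at hsq
    have hreal : ∀ χ : IrrCharacter (SLtwo F),
        (starRingEnd ℂ) ((χ : SLtwo F → ℂ) 1) = (χ : SLtwo F → ℂ) 1 := by
      intro χ
      obtain ⟨n, -, -⟩ := exists_degree_eq χ
      rw [n, Complex.conj_natCast]
    have hm2 : 2 * ∑ χ : IrrCharacter (SLtwo F), (if χ ∈ Bm then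
        (χ : SLtwo F → ℂ) 1 * (starRingEnd ℂ) ((χ : SLtwo F → ℂ) 1) else 0) = N := by
      have e : ∑ χ : IrrCharacter (SLtwo F), (χ : SLtwo F → ℂ) 1 ^ 2 -
          ∑ χ : IrrCharacter (SLtwo F), (χ : SLtwo F → ℂ) 1 * (χ : SLtwo F → ℂ) (-1) = N := by
        rw [hsq, horth, sub_zero]
      rw [← e, Finset.mul_sum, ← Finset.sum_sub_distrib]
      refine Finset.sum_congr rfl fun χ _ => ?_
      by_cases hχ : χ ∈ Bm
      · rw [if_pos hχ, hreal, show (χ : SLtwo F → ℂ) (-1) = -(χ : SLtwo F → ℂ) 1 from hχ]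
        ring
      · rw [if_neg hχ, (irr_neg_one χ).resolve_right hχ]
        ring
    have hp2 : 2 * ∑ χ : IrrCharacter (SLtwo F), (if χ ∈ Bp then
        (χ : SLtwo F → ℂ) 1 * (starRingEnd ℂ) ((χ : SLtwo F → ℂ) 1) else 0) =
        (N : ℂ) - 2 * (q : ℂ) ^ 2 := by
      have hsum : ∑ χ : IrrCharacter (SLtwo F), (if χ = St then 2 * (q : ℂ) ^ 2 else 0) =
          2 * (q : ℂ) ^ 2 := by rw [Finset.sum_ite_eq' Finset.univ St]; simp
      have e : ∑ χ : IrrCharacter (SLtwo F), (χ : SLtwo F → ℂ) 1 ^ 2 +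
          ∑ χ : IrrCharacter (SLtwo F), (χ : SLtwo F → ℂ) 1 * (χ : SLtwo F → ℂ) (-1) = N := by
        rw [hsq, horth, add_zero]
      rw [← hsum, ← e, ← Finset.sum_add_distrib, ← Finset.sum_sub_distrib, Finset.mul_sum]
      refine Finset.sum_congr rfl fun χ _ => ?_
      by_cases hχ : χ = St
      · subst hχ
        rw [if_pos rfl, if_neg (fun h => h.2 hSt), hSt, hSt']
        ring
      · have hne : (χ : SLtwo F → ℂ) 1 ≠ (q : ℂ) := fun e => hχ (huniq χ e)
        rcases irr_neg_one χ with e | e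
        · rw [if_neg hχ, if_pos (show χ ∈ Bp from ⟨e, hne⟩), hreal, e]
          ring
        · rw [if_neg hχ, if_neg, e]
          · ring
          · intro h
            have h2 := h.1.symm.trans e
            exact Chars.irr_apply_one_ne_zero χ (by linear_combination h2 / 2)
    have hN0 : (N : ℂ) ≠ 0 := Nat.cast_ne_zero.2 (hGN ▸ Nat.card_pos.ne')
    have hq0 : (q : ℂ) ≠ 0 := Nat.cast_ne_zero.2 (by omega)
    have hNc : (N : ℂ) = (q : ℂ) * ((q ^ 2 - 1 : ℕ) : ℂ) := by rw [hN, Nat.cast_mul]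
    have h2p : ¬ p ∣ 2 := fun h => hp ((Nat.prime_dvd_prime_iff_eq Fact.out Nat.prime_two).1 h)
    have hden : ¬ p ∣ 2 * (q ^ 2 - 1) := fun h =>
      ((Fact.out : p.Prime).dvd_mul.1 h).elim h2p hqp
    have hcm : blockCoeff Bm (1 : SLtwo F) = ((2 : ℕ) : ℂ)⁻¹ := by
      rw [blockCoeff_eq_sum, hGN]
      set S := ∑ χ : IrrCharacter (SLtwo F), (if χ ∈ Bm then
        (χ : SLtwo F → ℂ) 1 * (starRingEnd ℂ) ((χ : SLtwo F → ℂ) 1) else 0)
      field_simp
      push_cast
      linear_combination hm2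
    have hcp : blockCoeff Bp (1 : SLtwo F) =
        (((q ^ 2 - 1 : ℕ) : ℂ) - 2 * (q : ℂ)) * ((2 * (q ^ 2 - 1) : ℕ) : ℂ)⁻¹ := by
      rw [blockCoeff_eq_sum, hGN]
      set S := ∑ χ : IrrCharacter (SLtwo F), (if χ ∈ Bp then
        (χ : SLtwo F → ℂ) 1 * (starRingEnd ℂ) ((χ : SLtwo F → ℂ) 1) else 0) with hS
      trans (N : ℂ)⁻¹ * S
      · rw [hS]; congr 1
        refine Finset.sum_congr rfl fun χ _ => ?_
        split_ifs <;> rfl
      have hA : ((q ^ 2 - 1 : ℕ) : ℂ) ≠ 0 := fun h => hN0 (by rw [hNc, h, mul_zero])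
      rw [hNc] at hp2 ⊢
      rw [Nat.cast_mul, Nat.cast_ofNat]
      field_simp
      linear_combination hp2
    have hone : ∀ χ : IrrCharacter (SLtwo F),
        ¬ MemLocalIdeal M (centralChar (χ : SLtwo F → ℂ) 1) := by
      intro χ
      simp only [centralChar, hcent, Subgroup.index_top, Nat.cast_one, one_mul,
        div_self (Chars.irr_apply_one_ne_zero χ)]
      exact not_memLocalIdeal_one
    refine ⟨isDefectGroup_iff.2 ⟨1, ⟨?_, ?_, fun χ _ => hone χ⟩, hP⟩,
      isDefectGroup_iff.2 ⟨1, ⟨?_, ?_, fun χ _ => hone χ⟩, hP⟩⟩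
    · rw [hcp]
      exact mem_localRing.1 (mul_mem (sub_mem (natCast_mem_localRing _)
        (mul_mem (by exact_mod_cast natCast_mem_localRing 2) (natCast_mem_localRing _)))
        (inv_natCast_mem_localRing hM hden))
    · rw [hcp]
      intro h
      have h' := memLocalIdeal_mul_right h (natCast_mem_localRing (2 * (q ^ 2 - 1)))
      have hA : ((2 * (q ^ 2 - 1) : ℕ) : ℂ) ≠ 0 :=
        Nat.cast_ne_zero.2 fun h0 => hden (h0 ▸ dvd_zero p)
      rw [mul_assoc, inv_mul_cancel₀ hA, mul_one,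
        show ((q ^ 2 - 1 : ℕ) : ℂ) - 2 * (q : ℂ) = (((q ^ 2 - 1 : ℕ) : ℤ) - 2 * (q : ℤ) : ℤ) by
          push_cast; ring, memLocalIdeal_intCast_iff hM] at h'
      have hq' : (p : ℤ) ∣ 2 * (q : ℤ) := dvd_mul_of_dvd_right (Int.natCast_dvd_natCast.2 hpq) _
      have h'' := Int.dvd_add h' hq'
      rw [sub_add_cancel] at h''
      exact hqp (Int.natCast_dvd_natCast.1 h'')
    · rw [hcm]
      exact mem_localRing.1 (inv_natCast_mem_localRing hM h2p)
    · rw [hcm]
      intro h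
      have h' := memLocalIdeal_mul_right h (natCast_mem_localRing 2)
      rw [inv_mul_cancel₀ (by norm_num)] at h'
      exact not_memLocalIdeal_one h'

end Main

end Cfsg.Agent.Lib.SL2
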