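import Mathlib
import Cfsg.Agent.Lib.RankSeries.SLBasic
import Cfsg.Agent.Lib.LinGroup.SLTwoSylow

/-!
# The Borel subgroup of SL(2,q): conjugacy classes, and the normaliser of a Sylow p-subgroup
-/

set_option autoImplicit false

namespace Cfsg.Agent.Lib.SL2

open Cfsg.Agent.Lib.RankSeries

variable {F : Type*} [Field F] [Fintype F]

omit [Fintype F] in
lemma mem_borel_of_commute {g : SLtwo F} {a : Fˣ} {x : F}
    (hnc : (el a x : SLtwo F) ∉ Subgroup.center (SLtwo F)) (h : g * el a x = el a x * g) :
    g ∈ borelSL F := by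
  rw [mem_borelSL]
  by_contra hg
  have e00 := congrArg (fun y : SLtwo F => y 0 0) h
  have e10 := congrArg (fun y : SLtwo F => y 1 0) h
  simp only [el, mul_00, mul_10, borelEquiv_00, borelEquiv_01, borelEquiv_10, borelEquiv_11] at e00 e10
  have hx : x = 0 := (mul_eq_zero.1 (show x * g 1 0 = 0 by linear_combination -e00)).resolve_right hg
  have ha : (a : F) = ((a⁻¹ : Fˣ) : F) :=
    sub_eq_zero.1 ((mul_eq_zero.1 (show ((a : F) - ((a⁻¹ : Fˣ) : F)) * g 1 0 = 0 by
      linear_combination e10)).resolve_right hg)
  exact hnc ((mem_center_iff_entries _).2 ⟨by simpa [el, borelEquiv_01] using hx,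
    borelEquiv_10 a x, by rw [borelEquiv_00, borelEquiv_11]; exact ha⟩)

/-- The Borel subgroup of SL(2,q), q odd, has q + 3 classes. -/
theorem card_conjClasses_borel (hodd : Odd (Fintype.card F)) :
    Nat.card (ConjClasses (borelSL F)) = Fintype.card F + 3 := by
  classical
  have h2 : (2 : F) ≠ 0 := two_ne_zero_iff_odd.2 hodd
  have hq1 : 2 ≤ Fintype.card F := Fintype.one_lt_card
  set q := Fintype.card F with hq
  have hcardB : Nat.card (borelSL F) = (q - 1) * q := by
    rw [← Nat.card_congr (borelEquiv F), Nat.card_prod, Nat.card_units, Nat.card_eq_fintype_card]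
  have := Fintype.ofFinite (borelSL F)
  have hpairs : Nat.card (ConjClasses (borelSL F)) * Nat.card (borelSL F) =
      ∑ b : borelSL F, Nat.card {c : borelSL F // Commute b c} := by
    rw [← card_comm_eq_card_conjClasses_mul_card, ← Nat.card_sigma]
    exact Nat.card_congr (Equiv.subtypeProdEquivSigmaSubtype fun b c : borelSL F => Commute b c)
  have hcent : ∀ y : Fˣ × F, (Nat.card {c : borelSL F // Commute (borelEquiv F y) c}) =
      if (y.1 = 1 ∨ y.1 = -1) then (if y.2 = 0 then (q - 1) * q else 2 * q) else q - 1 := by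
    rintro ⟨a, x⟩
    have hsign : ∀ c : Fˣ, (c = 1 ∨ c = -1) → (c : F) = ((c⁻¹ : Fˣ) : F) := by
      rintro c (rfl | rfl) <;> simp
    by_cases hz : (el a x : SLtwo F) ∈ Subgroup.center (SLtwo F)
    · obtain ⟨e01, -, e11⟩ := (mem_center_iff_entries _).1 hz
      simp only [el, borelEquiv_00, borelEquiv_01, borelEquiv_11] at e01 e11
      have ha : a = 1 ∨ a = -1 := by
        have : (a : F) * a = 1 := by
          nth_rewrite 2 [e11]
          exact a.mul_inv
        rcases mul_self_eq_one_iff.1 this with e | e
        · exact Or.inl (Units.ext e)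
        · exact Or.inr (Units.ext (by rw [e]; simp))
      rw [if_pos ha, if_pos e01, ← hcardB]
      refine Nat.card_congr (Equiv.subtypeUnivEquiv fun c => ?_)
      exact Subtype.ext (Subgroup.mem_center_iff.1 hz c.1).symm
    · have hC : Nat.card {c : borelSL F // Commute (borelEquiv F (a, x)) c} =
          Nat.card (Subgroup.centralizer ({(el a x : SLtwo F)} : Set (SLtwo F))) := by
        refine Nat.card_congr
          { toFun := fun c => ⟨c.1.1, Subgroup.mem_centralizer_singleton_iff.2
              (congrArg Subtype.val c.2.eq).symm⟩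
            invFun := fun c => ⟨⟨c.1, mem_borel_of_commute hz
              (Subgroup.mem_centralizer_singleton_iff.1 c.2)⟩,
              Subtype.ext (Subgroup.mem_centralizer_singleton_iff.1 c.2).symm⟩
            left_inv := fun c => rfl
            right_inv := fun c => rfl }
      rw [hC]
      by_cases ha : a = 1 ∨ a = -1
      · have hx : x ≠ 0 := fun hx => hz ((mem_center_iff_entries _).2
          ⟨by simpa [el, borelEquiv_01] using hx, borelEquiv_10 a x,
            by rw [borelEquiv_00, borelEquiv_11]; exact hsign a ha⟩)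
        have ht : tr (el a x : SLtwo F) = 2 ∨ tr (el a x : SLtwo F) = -2 := by
          simp only [tr, el, borelEquiv_00, borelEquiv_11]
          rcases ha with rfl | rfl
          · left; simp; norm_num
          · right; simp; norm_num
        rw [card_centralizer_parabolic hz ht, if_pos ha, if_neg hx]
        have := Nat.odd_iff.1 hodd
        rw [Nat.gcd_eq_left (show 2 ∣ q - 1 by omega)]
      · have hs : IsSplit (el a x : SLtwo F) := by
          refine el_split_isSplit x fun e => ha ?_
          have : (a : F) * a = 1 := by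
            rw [show (a : F) * a = ((a * a : Fˣ) : F) from rfl]
            conv_lhs => rw [show a * a = a⁻¹ * a by rw [e]]
            simp
          rcases mul_self_eq_one_iff.1 this with e | e
          · exact Or.inl (Units.ext e)
          · exact Or.inr (Units.ext (by rw [e]; simp))
        rw [card_centralizer_split hs, if_neg ha]
  rw [hcardB, ← Equiv.sum_comp (borelEquiv F), Fintype.sum_congr _ _ hcent,
    Fintype.sum_prod_type] at hpairs
  dsimp only at hpairs
  have hinner : ∀ a : Fˣ, ∑ x : F,
      (if (a = 1 ∨ a = -1) then (if x = 0 then (q - 1) * q else 2 * q) else q - 1) =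
      if (a = 1 ∨ a = -1) then 3 * ((q - 1) * q) else (q - 1) * q := by
    intro a
    split_ifs with h
    · rw [← Finset.add_sum_erase _ _ (Finset.mem_univ (0 : F)), if_pos rfl,
        Finset.sum_congr rfl (fun x hx => if_neg (Finset.ne_of_mem_erase hx)), Finset.sum_const,
        Finset.card_erase_of_mem (Finset.mem_univ _), Finset.card_univ, smul_eq_mul, ← hq]
      ring
    · rw [Finset.sum_const, Finset.card_univ, smul_eq_mul, ← hq, mul_comm]
  rw [Finset.sum_congr rfl (fun a _ => hinner a), Finset.sum_ite, Finset.sum_const, Finset.sum_const,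
    smul_eq_mul, smul_eq_mul] at hpairs
  have hs : (Finset.univ.filter fun a : Fˣ => a = 1 ∨ a = -1).card = 2 := by
    rw [show (Finset.univ.filter fun a : Fˣ => a = 1 ∨ a = -1) = {1, -1} by ext; simp]
    refine Finset.card_pair fun h => h2 ?_
    have h' : (1 : F) = -1 := by simpa using congrArg Units.val h
    linear_combination h'
  have hns : (Finset.univ.filter fun a : Fˣ => ¬ (a = 1 ∨ a = -1)).card = q - 1 - 2 := by
    have := Finset.card_filter_add_card_filter_not (s := (Finset.univ : Finset Fˣ))
      (fun a => a = 1 ∨ a = -1)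
    rw [hs, Finset.card_univ, ← Nat.card_eq_fintype_card, Nat.card_units,
      Nat.card_eq_fintype_card, ← hq] at this
    omega
  rw [hs, hns] at hpairs
  have hpos : 0 < (q - 1) * q := Nat.mul_pos (by omega) (by omega)
  refine Nat.eq_of_mul_eq_mul_right hpos ?_
  rw [hpairs]
  have := Nat.odd_iff.1 hodd
  rw [show q + 3 = 2 * 3 + (q - 1 - 2) by omega, add_mul]
  ring

variable (p : ℕ) [Fact p.Prime] [CharP F p]

omit [Fintype F] [Fact p.Prime] [CharP F p] in
lemma upperSub_le_borel : (LinGroup.upperSub : Subgroup (SLtwo F)) ≤ borelSL F := by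
  intro g hg
  obtain ⟨t, rfl⟩ := LinGroup.mem_upperSub_iff.1 hg
  exact mem_borelSL.2 (upper_10 t)

omit [Fintype F] [Fact p.Prime] [CharP F p] in
theorem normalizer_upperSub :
    Subgroup.normalizer ((LinGroup.upperSub : Subgroup (SLtwo F)) : Set (SLtwo F)) = borelSL F := by
  ext g
  rw [mem_borelSL, Subgroup.mem_normalizer_iff]
  constructor
  · intro h
    obtain ⟨t, ht⟩ := LinGroup.mem_upperSub_iff.1
      ((h (upper 1)).1 (LinGroup.mem_upperSub_iff.2 ⟨1, rfl⟩))
    have h10 : (g * upper 1 * g⁻¹ : SLtwo F) 1 0 = 0 := by rw [ht, upper_10]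
    simp only [mul_10, mul_11, inv_00, inv_10, upper_00, upper_01, upper_10, upper_11] at h10
    exact (mul_eq_zero.1 (show g 1 0 * g 1 0 = 0 by linear_combination -h10)).elim id id
  · intro h x
    constructor
    · intro hx
      obtain ⟨t, rfl⟩ := LinGroup.mem_upperSub_iff.1 hx
      exact LinGroup.mem_upperSub_iff.2 ⟨_, LinGroup.borel_normalizes_upperSub h t⟩
    · intro hx
      obtain ⟨t, ht⟩ := LinGroup.mem_upperSub_iff.1 hx
      have h' : g⁻¹ 1 0 = 0 := by rw [inv_10, h, neg_zero]
      refine LinGroup.mem_upperSub_iff.2 ⟨g⁻¹ 0 0 ^ 2 * t, ?_⟩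
      rw [← LinGroup.borel_normalizes_upperSub h' t, ← ht]
      group

end Cfsg.Agent.Lib.SL2
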