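import Mathlib
import Cfsg.Prelude.Def_Characters
import Cfsg.Prelude.Def_Blocks
import Cfsg.Agent.Lib.Chars.Completeness
import Cfsg.Agent.Lib.Chars.Ops
import Cfsg.Agent.Lib.Chars.Integral
import Cfsg.Agent.Lib.KGV.Basic

/-!
# Counting characters of degree prime to ℓ in small normalisers
-/

set_option autoImplicit false

namespace Cfsg.Agent.Lib.SL2.McKay

open Cfsg Cfsg.Agent.Lib
open scoped commutatorElement

/-- The number of irreducible characters of degree prime to `ℓ`. -/
noncomputable def countPrime (ℓ : ℕ) (N : Type*) [Group N] : ℕ :=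
  Nat.card {ψ : IrrCharacter N // ¬ ℓ ∣ charDegree (ψ : N → ℂ)}

variable {N : Type*} [Group N] [Finite N] {ℓ : ℕ}

theorem countPrime_congr {N' : Type*} [Group N'] (e : N' ≃* N) :
    countPrime ℓ N = countPrime ℓ N' :=
  Nat.card_congr ((Chars.irrCongr e).subtypeEquiv fun χ => by
    simp [Chars.irrCongr, charDegree])

theorem countPrime_abelian_normal (A : Subgroup N) [A.Normal]
    (hab : ∀ a ∈ A, ∀ b ∈ A, a * b = b * a) (hℓ : ¬ ℓ ∣ A.index) :
    countPrime ℓ N = Nat.card (ConjClasses N) := by
  rw [← Chars.card_irrCharacter, countPrime]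
  refine Nat.card_congr (Equiv.subtypeUnivEquiv fun χ => ?_)
  obtain ⟨d, -, hd, hdvd⟩ := KGV.exists_degree_dvd_index A hab χ
  rw [show charDegree (χ : N → ℂ) = d by simp [charDegree, hd]]
  exact fun h => hℓ (h.trans hdvd)

theorem countPrime_two_group (h : IsPGroup 2 N) : countPrime 2 N = (commutator N).index := by
  rw [← Chars.card_linear_irr, countPrime]
  refine Nat.card_congr (Equiv.subtypeEquivRight fun χ => ?_)
  obtain ⟨n, hn0, hn, hdvd⟩ := Chars.irr_degree_dvd_card χ
  obtain ⟨m, hm⟩ := h.exists_card_eq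
  rw [hm] at hdvd
  obtain ⟨j, -, rfl⟩ := (Nat.dvd_prime_pow Nat.prime_two).1 hdvd
  rw [show charDegree (χ : N → ℂ) = 2 ^ j by rw [charDegree, hn, Complex.natCast_re, Nat.floor_natCast], hn]
  rcases Nat.eq_zero_or_pos j with rfl | hj
  · simp
  · refine iff_of_false (not_not_intro (dvd_pow_self 2 hj.ne')) fun h1 => ?_
    have h2 : 2 ≤ 2 ^ j := Nat.le_self_pow hj.ne' 2
    have : 2 ^ j = 1 := by exact_mod_cast h1
    omega

/-- A group of order 24 with exactly three linear characters has four of odd degree. -/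
theorem countPrime_two_of_card (hN : Nat.card N = 24) (hab : (commutator N).index = 3) :
    countPrime 2 N = 4 := by
  classical
  have := Fintype.ofFinite N
  have hdeg : ∀ χ : IrrCharacter N, ∃ n : ℕ, 0 < n ∧ (χ : N → ℂ) 1 = n ∧
      charDegree (χ : N → ℂ) = n := by
    intro χ
    obtain ⟨n, h0, hn, -⟩ := Chars.irr_degree_dvd_card χ
    exact ⟨n, h0, hn, by simp [charDegree, hn]⟩
  choose d hd0 hd hcd using hdeg
  have hsq : ∑ χ : IrrCharacter N, d χ ^ 2 = 24 := by
    have h := Chars.sum_degree_sq (G := N)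
    simp only [hd, hN] at h
    exact_mod_cast h
  have hle : ∀ χ, d χ ≤ 4 := by
    intro χ
    have h := Finset.single_le_sum (f := fun ψ => d ψ ^ 2) (fun _ _ => Nat.zero_le _)
      (Finset.mem_univ χ)
    simp only [hsq] at h
    by_contra hc
    have : 5 ^ 2 ≤ d χ ^ 2 := Nat.pow_le_pow_left (by omega) 2
    omega
  have hone : (Finset.univ.filter fun χ => d χ = 1).card = 3 := by
    rw [← hab, ← Chars.card_linear_irr, Nat.card_eq_fintype_card, Fintype.card_subtype]
    congr 1
    ext χ
    simp [hd]
  have hsplit : (24 : ℕ) = (Finset.univ.filter fun χ => d χ = 1).card +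
      4 * (Finset.univ.filter fun χ => d χ = 2).card +
      9 * (Finset.univ.filter fun χ => d χ = 3).card +
      16 * (Finset.univ.filter fun χ => d χ = 4).card := by
    rw [← hsq, Finset.card_filter, Finset.card_filter, Finset.card_filter, Finset.card_filter,
      Finset.mul_sum, Finset.mul_sum, Finset.mul_sum, ← Finset.sum_add_distrib,
      ← Finset.sum_add_distrib, ← Finset.sum_add_distrib]
    refine Finset.sum_congr rfl fun χ _ => ?_
    have := hle χ
    have := hd0 χ
    generalize d χ = e at *
    interval_cases e <;> simp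
  have hcount : countPrime 2 N = (Finset.univ.filter fun χ => d χ = 1).card +
      (Finset.univ.filter fun χ => d χ = 3).card := by
    rw [countPrime, Nat.card_eq_fintype_card, Fintype.card_subtype, ← Finset.card_union_of_disjoint]
    · congr 1
      ext χ
      simp only [Finset.mem_filter, Finset.mem_univ, true_and, Finset.mem_union, hcd χ]
      have := hle χ
      have := hd0 χ
      omega
    · rw [Finset.disjoint_filter]
      intro χ _ h1 h3
      omega
  omega

omit [Finite N] in
theorem comm_of_cube {y a b : N} (hy : y ^ 3 = 1) (hb : y * b = b * y) (hb8 : b ^ 8 = 1)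
    (e : y * a * y⁻¹ = b * a) : y * a = a * y := by
  have hb' : y * b * y⁻¹ = b := by rw [hb, mul_inv_cancel_right]
  have e2 : y ^ 2 * a * (y ^ 2)⁻¹ = b ^ 2 * a := by
    calc y ^ 2 * a * (y ^ 2)⁻¹ = y * (y * a * y⁻¹) * y⁻¹ := by
          simp only [sq, mul_inv_rev, mul_assoc]
      _ = y * (b * a) * y⁻¹ := by rw [e]
      _ = (y * b * y⁻¹) * (y * a * y⁻¹) := by group
      _ = b ^ 2 * a := by rw [hb', e, sq, mul_assoc]
  have e3 : y ^ 3 * a * (y ^ 3)⁻¹ = b ^ 3 * a := by
    calc y ^ 3 * a * (y ^ 3)⁻¹ = y * (y ^ 2 * a * (y ^ 2)⁻¹) * y⁻¹ := by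
          rw [pow_succ' y 2]; simp only [mul_inv_rev, mul_assoc]
      _ = y * (b ^ 2 * a) * y⁻¹ := by rw [e2]
      _ = (y * b ^ 2 * y⁻¹) * (y * a * y⁻¹) := by group
      _ = b ^ 2 * (b * a) := by rw [← conj_pow, hb', e]
      _ = b ^ 3 * a := by rw [← mul_assoc, ← pow_succ]
  rw [hy, one_mul, inv_one, mul_one] at e3
  have hb3 : b ^ 3 = 1 := mul_eq_right.1 e3.symm
  have hb1 : b = 1 := by
    calc b = b ^ 8 * b := by rw [hb8, one_mul]
      _ = (b ^ 3) ^ 3 := by group
      _ = 1 := by rw [hb3, one_pow]
  rw [hb1, one_mul] at e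
  exact mul_inv_eq_iff_eq_mul.1 e

/-- The abelianisation of `Q₈ ⋊ 3` has order three. -/
theorem commutator_index_three (S : Subgroup N) [S.Normal] (hN : Nat.card N = 24)
    (hS : Nat.card S = 8) {z : N} (hz1 : z ≠ 1) (hzc : z ∈ Subgroup.center N) (hzS : z ∈ S) (hzz : z * z = 1)
    (hz' : z ∈ commutator N) {y : N} (hy : y ^ 3 = 1) (hyS : ∃ s ∈ S, y * s ≠ s * y) :
    (commutator N).index = 3 := by
  classical
  have hidx : S.index = 3 := by
    have := S.index_mul_card
    rw [hN, hS] at this
    omega
  have hle : commutator N ≤ S := by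
    refine (Subgroup.Normal.quotient_commutative_iff_commutator_le (N := S)).1 ?_
    have h3 : Nat.card (N ⧸ S) = 3 := by rw [← Subgroup.index_eq_card, hidx]
    haveI := Fact.mk Nat.prime_three
    haveI : IsCyclic (N ⧸ S) := isCyclic_of_prime_card h3
    exact IsCyclic.commutative
  have hge : S ≤ commutator N := by
    by_contra hcon
    set K := commutator N with hK
    haveI : K.Normal := inferInstance
    haveI := Fintype.ofFinite K
    have h8 : ∀ b ∈ S, b ^ 8 = 1 := fun b hb => by
      have := pow_card_eq_one' (G := S) (x := ⟨b, hb⟩)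
      rw [hS] at this
      exact congrArg Subtype.val this
    have hKc : Nat.card K ≤ 4 := by
      have hd : Nat.card K ∣ 8 := hS ▸ Subgroup.card_dvd_of_le hle
      have hne : Nat.card K ≠ 8 := fun h => hcon
        (Subgroup.eq_of_le_of_card_ge hle (by rw [h, hS])).ge
      have := Nat.le_of_dvd (by norm_num) hd
      interval_cases h : Nat.card K <;> simp_all
    have hconj : ∀ a : N, ∀ x ∈ S, a * x * a⁻¹ * x⁻¹ ∈ K := by
      intro a x _
      rw [hK, commutator_def]
      exact Subgroup.commutator_mem_commutator (Subgroup.mem_top a) (Subgroup.mem_top x)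
    have hyz : y * z = z * y := Subgroup.mem_center_iff.1 hzc y
    have step1 : ∀ x ∈ K, y * x = x * y := by
      intro x hx
      by_cases hx1 : x = 1
      · simp [hx1]
      by_cases hxz : x = z
      · rw [hxz, hyz]
      have hyxK : y * x * y⁻¹ ∈ K := (inferInstance : K.Normal).conj_mem x hx y
      have hsub : ({1, z, x, x * z} : Finset N) ⊆ (Finset.univ : Finset K).image Subtype.val := by
        intro u hu
        simp only [Finset.mem_image, Finset.mem_univ, true_and]
        refine ⟨⟨u, ?_⟩, rfl⟩
        simp only [Finset.mem_insert, Finset.mem_singleton] at hu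
        rcases hu with rfl | rfl | rfl | rfl
        exacts [K.one_mem, hz', hx, K.mul_mem hx hz']
      have hcard : ((Finset.univ : Finset K).image Subtype.val).card ≤ 4 := by
        refine Finset.card_image_le.trans ?_
        rwa [Finset.card_univ, ← Nat.card_eq_fintype_card]
      have hxz1 : x * z ≠ 1 := fun h => hxz (by
        rw [eq_inv_of_mul_eq_one_left h, inv_eq_of_mul_eq_one_right hzz])
      have h4 : ({1, z, x, x * z} : Finset N).card = 4 := by
        rw [Finset.card_insert_of_notMem (by simp [hz1.symm, Ne.symm hx1, hxz1.symm]),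
          Finset.card_insert_of_notMem (by simp [Ne.symm hxz, hx1]),
          Finset.card_insert_of_notMem (by simp [hz1]),
          Finset.card_singleton]
      have heq := Finset.eq_of_subset_of_card_le hsub (by rw [h4]; exact hcard)
      have hmem : y * x * y⁻¹ ∈ ({1, z, x, x * z} : Finset N) := by
        rw [heq]
        simp only [Finset.mem_image, Finset.mem_univ, true_and]
        exact ⟨⟨_, hyxK⟩, rfl⟩
      simp only [Finset.mem_insert, Finset.mem_singleton] at hmem
      rcases hmem with h | h | h | h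
      · exact absurd (conj_eq_one_iff.1 h) hx1
      · refine absurd ?_ hxz
        calc x = y⁻¹ * (y * x * y⁻¹) * y := by group
          _ = y⁻¹ * (y * z) := by rw [h, hyz, mul_assoc]
          _ = z := inv_mul_cancel_left _ _
      · exact mul_inv_eq_iff_eq_mul.1 h
      · refine comm_of_cube hy hyz (h8 z hzS) ?_
        rw [h, Subgroup.mem_center_iff.1 hzc x]
    obtain ⟨s, hs, hne⟩ := hyS
    refine hne (comm_of_cube hy (step1 _ (hconj y s hs)) (h8 _ (hle (hconj y s hs))) ?_)
    group
  rw [le_antisymm hle hge, hidx]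

end Cfsg.Agent.Lib.SL2.McKay
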