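import Cfsg.Agent.Lib.SL2.ToriExist

/-!
# Tori of `SL₂(q)`, `q` odd, and their normalisers
-/

set_option autoImplicit false

namespace Cfsg.Agent.Lib.SL2

open Matrix

/-- Class number of a "dicyclic" extension of an abelian group. -/
lemma card_conjClasses_of_inverted {N : Type*} [Group N] [Finite N] (C : Subgroup N) (z : N)
    (hz : z ≠ 1) (hC : ∀ a ∈ C, ∀ b ∈ C, a * b = b * a)
    (hinvol : ∀ y ∈ C, y * y = 1 ↔ (y = 1 ∨ y = z)) (hzC : z ∈ C) (hidx : C.index = 2)
    (hout : ∀ n, n ∉ C → n * n = z ∧ ∀ a ∈ C, n * a * n⁻¹ = a⁻¹) :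
    2 * Nat.card (ConjClasses N) = Nat.card C + 6 := by
  classical
  have := Fintype.ofFinite N
  set c := Nat.card C with hc
  have hN : Nat.card N = 2 * c := by rw [← Subgroup.index_mul_card C, hidx]
  let Z : N → Finset N := fun a => Finset.univ.filter fun b => a * b = b * a
  have htotal : ∑ a : N, (Z a).card = Nat.card (ConjClasses N) * Nat.card N := by
    rw [← card_comm_eq_card_conjClasses_mul_card, Nat.card_eq_fintype_card,
      Fintype.card_subtype, ← Finset.card_sigma]
    refine Finset.card_nbij' (fun x => (x.1, x.2)) (fun x => ⟨x.1, x.2⟩) ?_ ?_ ?_ ?_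
    · intro x hx; simp [Z] at hx ⊢; exact hx
    · intro x hx; simp [Z] at hx ⊢; exact hx
    · intro x _; rfl
    · intro x _; rfl
  let Cs : Finset N := Finset.univ.filter (· ∈ C)
  have hCs : Cs.card = c := by
    rw [hc, Nat.card_eq_fintype_card, ← Fintype.card_subtype]
  have hsq : ∀ n, n ∉ C → ∀ a ∈ C, (n * a = a * n ↔ a * a = 1) := fun n hn a ha => by
    rw [← mul_inv_eq_iff_eq_mul, (hout n hn).2 a ha, inv_eq_iff_mul_eq_one]
  have hin : ∀ a ∈ C, (Z a).card = if a = 1 ∨ a = z then 2 * c else c := by
    intro a ha
    split_ifs with h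
    · rw [show Z a = Finset.univ by
        refine Finset.eq_univ_of_forall fun b => ?_
        simp only [Z, Finset.mem_filter, Finset.mem_univ, true_and]
        by_cases hb : b ∈ C
        · exact hC a ha b hb
        · exact ((hsq b hb a ha).2 ((hinvol a ha).2 h)).symm, Finset.card_univ,
        ← Nat.card_eq_fintype_card, hN]
    · rw [← hCs]
      congr 1
      ext b
      simp only [Z, Cs, Finset.mem_filter, Finset.mem_univ, true_and]
      refine ⟨fun hb => ?_, fun hb => hC a ha b hb⟩
      by_contra hbC
      exact h ((hinvol a ha).1 ((hsq b hbC a ha).1 hb.symm))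
  have hnin : ∀ a, a ∉ C → (Z a).card = 4 := by
    intro a ha
    have hz1 : z * z = 1 := (hinvol z hzC).2 (Or.inr rfl)
    have hcm : a * z = z * a := (hsq a ha z hzC).2 hz1
    rw [show Z a = {1, z, a, z * a} by
      ext b
      simp only [Z, Finset.mem_filter, Finset.mem_univ, true_and, Finset.mem_insert,
        Finset.mem_singleton]
      constructor
      · intro hb
        by_cases hbC : b ∈ C
        · rcases (hinvol b hbC).1 ((hsq a ha b hbC).1 hb) with e | e
          · exact Or.inl e
          · exact Or.inr (Or.inl e)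
        · have hba : b * a⁻¹ ∈ C := by
            rw [Subgroup.mul_mem_iff_of_index_two hidx, inv_mem_iff]
            exact iff_of_false hbC ha
          have hb' : a * (b * a⁻¹) = b * a⁻¹ * a := by rw [← mul_assoc, hb]; group
          rcases (hinvol _ hba).1 ((hsq a ha _ hba).1 hb') with e | e
          · exact Or.inr (Or.inr (Or.inl (mul_inv_eq_one.1 e)))
          · exact Or.inr (Or.inr (Or.inr (mul_inv_eq_iff_eq_mul.1 e)))
      · rintro (rfl | rfl | rfl | rfl)
        · simp
        · exact hcm
        · rfl
        · rw [← mul_assoc, hcm]]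
    have h1 : a ≠ 1 := fun e => ha (e ▸ C.one_mem)
    have h2 : a ≠ z := fun e => ha (e ▸ hzC)
    have h3 : z * a ≠ 1 := fun e => h2 (by
      rw [eq_inv_of_mul_eq_one_right e, inv_eq_of_mul_eq_one_right hz1])
    have h4 : z * a ≠ z := fun e => h1 (mul_eq_left.1 e)
    have h5 : z * a ≠ a := fun e => hz (mul_eq_right.1 e)
    rw [Finset.card_insert_of_notMem (by simp [hz.symm, h1.symm, h3.symm]),
      Finset.card_insert_of_notMem (by simp [h2.symm, h4.symm]),
      Finset.card_insert_of_notMem (by simp [h5.symm]), Finset.card_singleton]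
  have hsplit := Finset.sum_filter_add_sum_filter_not (Finset.univ : Finset N) (· ∈ C)
    (fun a => (Z a).card)
  have hA : ∑ a ∈ Cs, (Z a).card = c * c + 2 * c := by
    rw [Finset.sum_congr rfl (fun a ha => hin a (Finset.mem_filter.1 ha).2)]
    have : ∀ a : N, (if a = 1 ∨ a = z then 2 * c else c) = c + if a = 1 ∨ a = z then c else 0 := by
      intro a; split_ifs <;> omega
    simp only [this, Finset.sum_add_distrib, ← Finset.sum_filter]
    rw [Finset.sum_const, Finset.sum_const, smul_eq_mul, smul_eq_mul, hCs]
    congr 1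
    rw [show Cs.filter (fun a => a = 1 ∨ a = z) = {1, z} by
      ext a
      simp only [Cs, Finset.mem_filter, Finset.mem_univ, true_and, Finset.mem_insert,
        Finset.mem_singleton]
      exact ⟨fun h => h.2, fun h => ⟨by rcases h with rfl | rfl; exacts [C.one_mem, hzC], h⟩⟩,
      Finset.card_pair hz.symm]
  have hB : ∑ a ∈ (Finset.univ : Finset N).filter (fun a => a ∉ C), (Z a).card = c * 4 := by
    rw [Finset.sum_congr rfl (fun a ha => hnin a (Finset.mem_filter.1 ha).2), Finset.sum_const,
      smul_eq_mul]
    congr 1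
    have := Finset.card_filter_add_card_filter_not (s := (Finset.univ : Finset N)) (· ∈ C)
    rw [show ((Finset.univ : Finset N).filter (· ∈ C)).card = c from hCs, Finset.card_univ,
      ← Nat.card_eq_fintype_card, hN] at this
    omega
  rw [show ∑ a ∈ (Finset.univ : Finset N).filter (· ∈ C), (Z a).card = _ from hA, hB, htotal,
    hN] at hsplit
  have hc0 : 0 < c := Nat.card_pos
  exact Nat.eq_of_mul_eq_mul_right hc0 (by linarith)

variable {F : Type*} [Field F] [Fintype F]

/-- The normaliser of a torus of `SL₂` is the preimage of the normaliser in `PSL₂`. -/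
lemma normalizer_centralizer_eq (g : SLtwo F) :
    Subgroup.normalizer ((Subgroup.centralizer ({g} : Set (SLtwo F))) : Set (SLtwo F)) =
      (Subgroup.normalizer ((torus (proj g) : Subgroup (PSLtwo F)) : Set (PSLtwo F))).comap proj := by
  rw [Subgroup.comap_normalizer_eq_of_surjective _ proj_surjective]
  congr 1
  ext h
  exact proj_mem_torus_iff.symm

/-- Facts on the normaliser of a torus of `SL₂`, `q` odd. -/
theorem normalizer_centralizer_facts (h2 : (2 : F) ≠ 0) {g : SLtwo F}
    (hg : IsElliptic g ∨ IsSplit g) :
    Nat.card (Subgroup.normalizer ((Subgroup.centralizer ({g} : Set (SLtwo F))) : Set (SLtwo F))) =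
        2 * Nat.card (Subgroup.centralizer ({g} : Set (SLtwo F))) ∧
    (∀ n ∈ Subgroup.normalizer ((Subgroup.centralizer ({g} : Set (SLtwo F))) : Set (SLtwo F)),
      n ∉ Subgroup.centralizer ({g} : Set (SLtwo F)) → n * n = -1) ∧
    2 * Nat.card (ConjClasses (Subgroup.normalizer
        ((Subgroup.centralizer ({g} : Set (SLtwo F))) : Set (SLtwo F)))) =
      Nat.card (Subgroup.centralizer ({g} : Set (SLtwo F))) + 6 := by
  classical
  have hx : IsSemi (proj g) := ⟨g, rfl, hg⟩
  set C := Subgroup.centralizer ({g} : Set (SLtwo F)) with hC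
  set N := Subgroup.normalizer (C : Set (SLtwo F)) with hN
  have hgc : g ∉ Subgroup.center (SLtwo F) :=
    hg.elim IsElliptic.notMem_center IsSplit.notMem_center
  have hN' := normalizer_centralizer_eq g
  have hker : Nat.card (proj (F := F)).ker = 2 := by
    rw [show (proj (F := F)).ker = Subgroup.center (SLtwo F) from QuotientGroup.ker_mk' _]
    exact card_center_odd h2
  have hcardC : Nat.card C = 2 * Nat.card (torus (proj g)) := by
    rw [hC, ← card_torus_mul, ← card_center, card_center_odd h2, mul_comm]
  have hcard : Nat.card N = 2 * Nat.card C := by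
    have h1 := Subgroup.index_mul_card N
    have h2' := Subgroup.index_mul_card
      (Subgroup.normalizer ((torus (proj g) : Subgroup (PSLtwo F)) : Set (PSLtwo F)))
    rw [show N.index = (Subgroup.normalizer
        ((torus (proj g) : Subgroup (PSLtwo F)) : Set (PSLtwo F))).index by
      rw [hN, hC, hN']; exact Subgroup.index_comap_of_surjective _ proj_surjective] at h1
    have hSL : Nat.card (SLtwo F) = Nat.card (PSLtwo F) * 2 := by
      rw [← hker]
      exact (Subgroup.card_eq_card_quotient_mul_card_subgroup _).trans (by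
        rw [show (proj (F := F)).ker = Subgroup.center (SLtwo F) from QuotientGroup.ker_mk' _])
    rw [hSL, ← h2', mul_assoc] at h1
    have := Nat.eq_of_mul_eq_mul_left (Nat.pos_of_ne_zero Subgroup.index_ne_zero_of_finite) h1
    rw [this, normalizer_torus_card hx, hcardC]
    ring
  have hsq : ∀ n ∈ N, n ∉ C → n * n = -1 ∧ ∀ a ∈ C, n * a * n⁻¹ = a⁻¹ := by
    intro n hn hnC
    rw [hN, hC, hN', Subgroup.mem_comap] at hn
    have hnT : proj n ∉ torus (proj g) := fun h => hnC (proj_mem_torus_iff.1 h)
    obtain ⟨hn2, hninv⟩ := normalizer_torus_inverts hx hn hnT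
    have hnn : n * n = -1 := by
      rw [← map_mul, proj_eq_one_iff, mem_center_iff_eq] at hn2
      rcases hn2 with e | e
      · exfalso
        refine hnC ?_
        have hn1 : n * n = 1 := e
        have ht : (n : Matrix (Fin 2) (Fin 2) F) * n = 1 := by
          rw [← Matrix.SpecialLinearGroup.coe_mul, hn1, Matrix.SpecialLinearGroup.coe_one]
        have ch := cayley_hamilton n
        rw [ht] at ch
        by_cases htn : tr n = 0
        · rw [htn, zero_smul, zero_sub] at ch
          have := congrFun (congrFun ch 0) 0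
          simp at this
          exact absurd (show (2 : F) = 0 by linear_combination this) h2
        · have hcen : n ∈ Subgroup.center (SLtwo F) := by
            rw [mem_center_iff_entries]
            have e00 := congrFun (congrFun ch 0) 0
            have e01 := congrFun (congrFun ch 0) 1
            have e10 := congrFun (congrFun ch 1) 0
            have e11 := congrFun (congrFun ch 1) 1
            simp [htn] at e00 e01 e10 e11
            refine ⟨e01, e10, ?_⟩
            refine mul_left_cancel₀ htn ?_
            linear_combination e11 - e00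
          exact center_le_centralizer g hcen
      · exact e
    refine ⟨hnn, fun a ha => ?_⟩
    have hnx : n * g * n⁻¹ ∈ C := by
      rw [← proj_mem_torus_iff, map_mul, map_mul, map_inv]
      exact (mem_normalizer_torus_iff hx.ne_one).1 hn
    refine conj_eq_inv_of_inv hgc ?_ ha
    rcases eq_or_eq_inv_of_tr (hg.elim IsElliptic.tr_ne IsSplit.tr_ne) hnx (tr_conj g n) with e | e
    · exact absurd (Subgroup.mem_centralizer_singleton_iff.2 (mul_inv_eq_iff_eq_mul.1 e)) hnC
    · exact e
  refine ⟨hcard, fun n hn hnC => (hsq n hn hnC).1, ?_⟩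
  have hCN : C ≤ N := Subgroup.le_normalizer
  have hm1 : (-1 : SLtwo F) ∈ C := center_le_centralizer g neg_one_mem_center
  rw [← Nat.card_congr (Subgroup.subgroupOfEquivOfLe hCN).toEquiv]
  refine card_conjClasses_of_inverted _ ⟨-1, hCN hm1⟩ ?_ ?_ ?_ (Subgroup.mem_subgroupOf.2 hm1) ?_ ?_
  · exact fun h => neg_one_ne_one h2 (congrArg Subtype.val h)
  · intro a ha b hb
    exact Subtype.ext (centralizer_comm hgc ha hb)
  · intro y hy
    constructor
    · intro h
      have h' : ((y : SLtwo F) : Matrix (Fin 2) (Fin 2) F) * (y : SLtwo F) = 1 := by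
        rw [← Matrix.SpecialLinearGroup.coe_mul, ← Subgroup.coe_mul, h, Subgroup.coe_one,
          Matrix.SpecialLinearGroup.coe_one]
      have ch := cayley_hamilton (y : SLtwo F)
      rw [h'] at ch
      have hcen : (y : SLtwo F) ∈ Subgroup.center (SLtwo F) := by
        rw [mem_center_iff_entries]
        have e00 := congrFun (congrFun ch 0) 0
        have e01 := congrFun (congrFun ch 0) 1
        have e10 := congrFun (congrFun ch 1) 0
        have e11 := congrFun (congrFun ch 1) 1
        have htn : tr (y : SLtwo F) ≠ 0 := fun htn => by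
          rw [htn] at e00; simp at e00
          exact h2 (by linear_combination e00)
        simp [htn] at e00 e01 e10 e11
        refine ⟨e01, e10, mul_left_cancel₀ htn ?_⟩
        linear_combination e11 - e00
      rcases (mem_center_iff_eq _).1 hcen with e | e
      · exact Or.inl (Subtype.ext e)
      · exact Or.inr (Subtype.ext e)
    · rintro (rfl | rfl)
      · exact one_mul 1
      · exact Subtype.ext (show (-1 : SLtwo F) * -1 = 1 by simp)
  · have h1 := Subgroup.index_mul_card (C.subgroupOf N)
    rw [Nat.card_congr (Subgroup.subgroupOfEquivOfLe hCN).toEquiv, hcard] at h1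
    exact Nat.eq_of_mul_eq_mul_right Nat.card_pos h1
  · intro n hn
    obtain ⟨h1, h2'⟩ := hsq n.1 n.2 hn
    exact ⟨Subtype.ext h1, fun a ha => Subtype.ext (h2' a.1 ha)⟩

/-- Every elliptic trace occurs in every elliptic torus, `q` odd. -/
lemma exists_mem_centralizer_of_tr (h2 : (2 : F) ≠ 0) {g : SLtwo F} (hg : IsElliptic g) {h : SLtwo F}
    (hh : IsElliptic h) : ∃ y ∈ Subgroup.centralizer ({g} : Set (SLtwo F)), tr y = tr h := by
  set t := tr g with ht
  set s := tr h with hs
  have hns : ∀ (k : SLtwo F), IsElliptic k → ¬ IsSquare (tr k * tr k - 4) := by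
    intro k hk ⟨r, hr⟩
    refine hk ((tr k + r) / 2) ?_
    field_simp
    linear_combination -hr
  have hq : ringChar F ≠ 2 := fun hc => h2 (by
    have : CharP F 2 := ringChar.of_eq hc
    exact CharTwo.two_eq_zero)
  have ht0 : t * t - 4 ≠ 0 := fun e => hns g hg (e ▸ IsSquare.zero)
  have hs0 : s * s - 4 ≠ 0 := fun e => hns h hh (e ▸ IsSquare.zero)
  obtain ⟨b, hb⟩ : IsSquare ((4 - s * s) / (4 - t * t)) := by
    rw [show (4 - s * s) / (4 - t * t) = (s * s - 4) / (t * t - 4) by
      rw [← neg_div_neg_eq, neg_sub, neg_sub]]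
    rw [FiniteField.isSquare_iff hq (div_ne_zero hs0 ht0), div_pow]
    have e1 := (FiniteField.pow_dichotomy hq ht0).resolve_left
      (fun e => hns g hg ((FiniteField.isSquare_iff hq ht0).2 e))
    have e2 := (FiniteField.pow_dichotomy hq hs0).resolve_left
      (fun e => hns h hh ((FiniteField.isSquare_iff hq hs0).2 e))
    rw [e1, e2, neg_div_neg_eq, div_one]
  have hb' : b * b * (4 - t * t) = 4 - s * s := by
    rw [← hb]; exact div_mul_cancel₀ _ (fun e => ht0 (by linear_combination -e))
  let z : F × F := ((s - b * t) / 2, b)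
  have hz : normForm (tr g) 1 z = 1 := by
    simp only [normForm, z, ← ht]
    field_simp
    linear_combination hb'
  refine ⟨slCommElt g z hz, mem_centralizer_singleton_iff.2 (commElt_commute _ _), ?_⟩
  simp only [tr, slCommElt, commElt]
  simp [z, ht, tr]
  field_simp
  ring

end Cfsg.Agent.Lib.SL2
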