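import Mathlib
import Cfsg.Agent.Lib.RankSeries.SLOdd
import Cfsg.Agent.Lib.SL2.BorelClasses
import Cfsg.Agent.Lib.SL2.McKayGroups
import Cfsg.Agent.Lib.SL2.ToriExist
import Cfsg.Agent.Lib.SL2.SylowTwo
import Cfsg.Agent.Lib.LinGroup.SLTwoTwoSylow
import Cfsg.Agent.Lib.ClassicalSylowTwo.Group
import Cfsg.Agent.S2430

/-!
# The McKay count for SL(2,q), q odd
-/

set_option autoImplicit false

namespace Cfsg.Agent.Lib.SL2.McKay

open Cfsg Cfsg.Agent.Lib Cfsg.Agent.Lib.RankSeries Cfsg.Agent.Lib.SL2
open scoped commutatorElement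

attribute [-instance] MonoidHom.instPow MonoidHom.mul instOneMonoidHom MonoidHom.instCommMonoid
  MonoidHom.instInv MonoidHom.instDiv

/-! ### Quaternion groups -/

theorem commutator_index_quaternion {n : ℕ} [NeZero n] (hn : Even n) :
    (commutator (QuaternionGroup n)).index = 4 := by
  classical
  set A : QuaternionGroup n := QuaternionGroup.a 2 with hA
  have hA1 : (QuaternionGroup.a 1 : QuaternionGroup n) ^ 2 = A := by
    rw [QuaternionGroup.a_one_pow]; simp [hA]
  have hord : orderOf A = n := by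
    rw [← hA1, orderOf_pow, QuaternionGroup.orderOf_a_one, Nat.gcd_mul_right_left,
      Nat.mul_div_cancel_left _ two_pos]
  have hmemA : A ∈ commutator (QuaternionGroup n) := by
    rw [← hA1]; exact ClassicalSylowTwo.quaternion_sqComm hn _
  have hT : ∀ i : ZMod (2 * n), QuaternionGroup.a (i + i) ∈ Subgroup.zpowers A := fun i =>
    ⟨(i.val : ℤ), by
      simp only [zpow_natCast]
      rw [← hA1, ← pow_mul, QuaternionGroup.a_one_pow]
      congr 1
      push_cast
      rw [ZMod.natCast_zmod_val]; ring⟩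
  have hle : commutator (QuaternionGroup n) ≤ Subgroup.zpowers A := by
    rw [commutator_def, Subgroup.commutator_le]
    obtain ⟨l, hl⟩ := hn
    have hnn : (n : ZMod (2 * n)) = (l : ZMod (2 * n)) + (l : ZMod (2 * n)) := by
      rw [← Nat.cast_add, ← hl]
    have h0 : ((l : ZMod (2 * n)) + l) + (l + l) = 0 := by
      rw [← hnn, ← Nat.cast_add, ← two_mul, ZMod.natCast_self]
    rintro (i | i) _ (j | j) _ <;>
      simp only [commutatorElement_def, ClassicalSylowTwo.qa_inv, ClassicalSylowTwo.qxa_inv,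
        QuaternionGroup.a_mul_a, QuaternionGroup.a_mul_xa, QuaternionGroup.xa_mul_a,
        QuaternionGroup.xa_mul_xa]
    · convert hT 0 using 2; ring
    · convert hT (i + (l : ZMod (2 * n)) + (l : ZMod (2 * n))) using 2
      rw [hnn]; first | linear_combination h0 | linear_combination -h0 | ring
    · convert hT (-j) using 2
      rw [hnn]; first | linear_combination h0 | linear_combination -h0 | ring
    · convert hT ((j : ZMod (2 * n)) - i + (l : ZMod (2 * n)) + (l : ZMod (2 * n))) using 2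
      rw [hnn]; first | linear_combination h0 | linear_combination -h0 | ring
  have heq : commutator (QuaternionGroup n) = Subgroup.zpowers A :=
    le_antisymm hle (Subgroup.zpowers_le.2 hmemA)
  have := Subgroup.index_mul_card (commutator (QuaternionGroup n))
  rw [heq, Nat.card_zpowers, hord, Nat.card_eq_fintype_card, QuaternionGroup.card] at this
  rw [heq]
  exact Nat.eq_of_mul_eq_mul_right (NeZero.pos n) this

theorem commutator_sq_quaternion_two (a b : QuaternionGroup 2) : ⁅a, b⁆ * ⁅a, b⁆ = 1 := by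
  revert a b
  simp only [commutatorElement_def]
  decide

variable {F : Type*} [Field F] [Fintype F]

/-! ### The count for SL(2,q) -/

theorem countPrime_SL (hodd : Odd (Fintype.card F)) (ℓ : ℕ) (hℓ : ℓ.Prime) :
    let q := Fintype.card F
    countPrime ℓ (SLtwo F) = 1 + (if ¬ ℓ ∣ q then 1 else 0) +
      (q - 3) / 2 * (if ¬ ℓ ∣ q + 1 then 1 else 0) +
      (q - 1) / 2 * (if ¬ ℓ ∣ q - 1 then 1 else 0) +
      2 * (if ¬ ℓ ∣ (q + 1) / 2 then 1 else 0) + 2 * (if ¬ ℓ ∣ (q - 1) / 2 then 1 else 0) := by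
  classical
  intro q
  obtain ⟨g₀, hg₀⟩ := exists_elliptic (F := F)
  obtain ⟨μ₀, θ₀, a, a', b, b', T⟩ := exists_oddTable hg₀ hodd
  have hodd' := Nat.odd_iff.1 hodd
  have hq1 : 1 < q := Fintype.one_lt_card
  have hK : Nat.card F = q := Nat.card_eq_fintype_card
  let f : (SLtwo F → ℂ) → ℂ := fun χ => if ¬ ℓ ∣ charDegree χ then 1 else 0
  have key : ∀ (χ : SLtwo F → ℂ) (n : ℕ), χ 1 = n → f χ = if ¬ ℓ ∣ n then 1 else 0 := by
    intro χ n h
    simp only [f, show charDegree χ = n by rw [charDegree, h, Complex.natCast_re, Nat.floor_natCast]]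
  have hp : (slDatum hg₀).princSet.card = (q - 3) / 2 := by
    have := card_princ hg₀
    rw [Nat.gcd_eq_right (show 2 ∣ q - 1 by omega)] at this
    omega
  have hd : (slDatum hg₀).discSet.card = (q - 1) / 2 := by
    have := card_disc hg₀
    rw [Nat.gcd_eq_right (show 2 ∣ q + 1 by omega)] at this
    omega
  refine Nat.cast_injective (R := ℂ) ?_
  have hcount : (countPrime ℓ (SLtwo F) : ℂ) = ∑ χ : IrrCharacter (SLtwo F), f (χ : SLtwo F → ℂ) := by
    simp only [countPrime, f, Nat.card_eq_fintype_card, Fintype.card_subtype]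
    rw [Finset.card_filter, Nat.cast_sum]
    exact Finset.sum_congr rfl fun χ _ => by split_ifs <;> simp
  rw [hcount, T.sum_irr f, key (fun _ => 1) 1 (by simp), key _ q ((slDatum hg₀).St_one.trans (by rw [hK])),
    Finset.sum_congr rfl (fun χ hχ => key χ (q + 1) (by rw [(slDatum hg₀).princSet_one hχ, hK]; simp)),
    Finset.sum_congr rfl (fun χ hχ => key χ (q - 1)
      (by rw [(slDatum hg₀).discSet_one hχ, hK, Nat.cast_sub (by omega)]; simp)),
    key a _ T.a_one, key a' _ T.a'_one, key b _ T.b_one, key b' _ T.b'_one,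
    Finset.sum_const, Finset.sum_const, hp, hd, if_pos hℓ.not_dvd_one]
  simp only [Nat.cast_add, Nat.cast_mul, Nat.cast_ite, Nat.cast_one, Nat.cast_zero, nsmul_eq_mul,
    Nat.cast_ofNat]
  ring

/-- The normaliser count at the defining prime. -/
theorem countPrime_normalizer_p (hodd : Odd (Fintype.card F)) (p : ℕ) [Fact p.Prime] [CharP F p]
    (S : Sylow p (SLtwo F)) :
    countPrime p (Subgroup.normalizer ((S : Subgroup (SLtwo F)) : Set (SLtwo F))) =
      Fintype.card F + 3 := by
  classical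
  obtain ⟨g, hg⟩ := LinGroup.exists_conj_upperSub p S
  have hS : (S : Subgroup (SLtwo F)) =
      (LinGroup.upperSub).map (MulAut.conj g).toMonoidHom := hg.trans rfl
  have hN : Subgroup.normalizer ((S : Subgroup (SLtwo F)) : Set (SLtwo F)) =
      (RankSeries.borelSL F).map (MulAut.conj g).toMonoidHom := by
    rw [hS, ← Subgroup.map_equiv_normalizer_eq, normalizer_upperSub]
  rw [countPrime_congr (((RankSeries.borelSL F).equivMapOfInjective _ (MulEquiv.injective _)).trans
    (MulEquiv.subgroupCongr hN.symm))]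
  set A := (LinGroup.upperSub : Subgroup (SLtwo F)).subgroupOf (RankSeries.borelSL F) with hA
  haveI : A.Normal := by
    rw [hA, Subgroup.normal_subgroupOf_iff_le_normalizer upperSub_le_borel, normalizer_upperSub]
  have hab : ∀ x ∈ A, ∀ y ∈ A, x * y = y * x := by
    intro x hx y hy
    obtain ⟨s, hs⟩ := LinGroup.mem_upperSub_iff.1 (Subgroup.mem_subgroupOf.1 hx)
    obtain ⟨t, ht⟩ := LinGroup.mem_upperSub_iff.1 (Subgroup.mem_subgroupOf.1 hy)
    refine Subtype.ext ?_
    rw [Subgroup.coe_mul, Subgroup.coe_mul, hs, ht, upper_mul, upper_mul, add_comm]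
  have hidx : ¬ p ∣ A.index := by
    have h := A.index_mul_card
    rw [hA, Nat.card_congr (Subgroup.subgroupOfEquivOfLe upperSub_le_borel).toEquiv,
      LinGroup.card_upperSub, ← Nat.card_congr (borelEquiv F), Nat.card_prod, Nat.card_units,
      Nat.card_eq_fintype_card] at h
    rw [Nat.eq_of_mul_eq_mul_right Fintype.card_pos h]
    intro hd
    obtain ⟨n, -, hn⟩ := FiniteField.card F p
    have hpq : p ∣ Fintype.card F := hn ▸ dvd_pow_self p n.ne_zero
    have := Nat.dvd_sub hpq hd
    rw [show Fintype.card F - (Fintype.card F - 1) = 1 by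
      have := Fintype.card_pos (α := F); omega] at this
    exact (Fact.out : p.Prime).not_dvd_one this
  rw [countPrime_abelian_normal A hab hidx, card_conjClasses_borel hodd]

/-- The normaliser count at an odd prime dividing `q ± 1`. -/
theorem countPrime_normalizer_odd (hodd : Odd (Fintype.card F)) (ℓ : ℕ) [Fact ℓ.Prime] (hℓ : ℓ ≠ 2)
    (S : Sylow ℓ (SLtwo F)) {c : ℕ}
    (hc : (c = Fintype.card F - 1 ∨ c = Fintype.card F + 1) ∧ ℓ ∣ c) :
    2 * countPrime ℓ (Subgroup.normalizer ((S : Subgroup (SLtwo F)) : Set (SLtwo F))) = c + 6 := by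
  classical
  have hl3 : 3 ≤ ℓ := by have := (Fact.out : ℓ.Prime).two_le; omega
  have hq1 : 1 < Fintype.card F := Fintype.one_lt_card
  have hodd' := Nat.odd_iff.1 hodd
  have h2 : (2 : F) ≠ 0 := two_ne_zero_iff_odd.2 hodd
  have hc3 : 3 ≤ c := hl3.trans (Nat.le_of_dvd (by omega) hc.2)
  obtain ⟨hCc, hCcyc, hNc⟩ : Nat.card (Subgroup.centralizer
      ((S : Subgroup (SLtwo F)) : Set (SLtwo F))) = c ∧
      IsCyclic (Subgroup.centralizer ((S : Subgroup (SLtwo F)) : Set (SLtwo F))) ∧
      Nat.card (Subgroup.normalizer ((S : Subgroup (SLtwo F)) : Set (SLtwo F))) = 2 * c := by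
    have := Cfsg.Agent.S2430.result hodd ℓ hℓ S
    rcases hc.1 with rfl | rfl
    · exact this.1 hc.2
    · exact this.2 hc.2
  set C := Subgroup.centralizer ((S : Subgroup (SLtwo F)) : Set (SLtwo F)) with hC
  haveI : IsMulCommutative C := hCcyc.commutative
  obtain ⟨g, hg⟩ := hCcyc.exists_generator
  have hgo : orderOf (g : SLtwo F) = c := by
    rw [Subgroup.orderOf_coe, orderOf_eq_card_of_forall_mem_zpowers hg, hCc]
  have hgc : (g : SLtwo F) ∉ Subgroup.center (SLtwo F) := by
    intro h
    have h' := Subgroup.card_dvd_of_le (Subgroup.zpowers_le.2 h)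
    rw [Nat.card_zpowers, hgo, card_center_odd h2] at h'
    have := Nat.le_of_dvd two_pos h'
    omega
  have hle : C ≤ Subgroup.centralizer ({(g : SLtwo F)} : Set (SLtwo F)) := by
    intro x hx
    rw [Subgroup.mem_centralizer_singleton_iff]
    exact congrArg Subtype.val (mul_comm' (⟨x, hx⟩ : C) g)
  have hdvd := Subgroup.card_dvd_of_le hle
  rw [hCc] at hdvd
  have hcop : ¬ c ∣ 2 * Fintype.card F := by
    intro h
    have hcq : Nat.Coprime c (Fintype.card F) := by
      rcases hc.1 with rfl | rfl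
      · exact (Nat.coprime_self_sub_left (by omega)).2 (Nat.coprime_one_left _)
      · exact Nat.coprime_self_add_left.2 (Nat.coprime_one_left _)
    have := Nat.le_of_dvd two_pos (hcq.dvd_of_dvd_mul_right h)
    omega
  obtain ⟨hes, hcard⟩ : (IsElliptic (g : SLtwo F) ∨ IsSplit (g : SLtwo F)) ∧
      Nat.card (Subgroup.centralizer ({(g : SLtwo F)} : Set (SLtwo F))) = c := by
    rcases elliptic_or_split_or_parabolic (g : SLtwo F) with he | he | ht
    · refine ⟨Or.inl he, ?_⟩
      rw [card_centralizer_elliptic he] at hdvd ⊢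
      rcases hc.1 with rfl | rfl
      · have := Nat.le_of_dvd two_pos ((Nat.dvd_add_right (dvd_refl (Fintype.card F - 1))).1
          (show Fintype.card F - 1 ∣ Fintype.card F - 1 + 2 by
            rwa [show Fintype.card F - 1 + 2 = Fintype.card F + 1 by omega]))
        omega
      · rfl
    · refine ⟨Or.inr he, ?_⟩
      rw [card_centralizer_split he] at hdvd ⊢
      rcases hc.1 with rfl | rfl
      · rfl
      · have := Nat.le_of_dvd (by omega) hdvd
        omega
    · rw [card_centralizer_parabolic hgc ht,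
        Nat.gcd_eq_left (show 2 ∣ Fintype.card F - 1 by omega)] at hdvd
      exact absurd hdvd hcop
  have hCg : Subgroup.centralizer ({(g : SLtwo F)} : Set (SLtwo F)) = C :=
    (Subgroup.eq_of_le_of_card_ge hle (by rw [hcard, hCc])).symm
  obtain ⟨hN2, -, hcl⟩ := normalizer_centralizer_facts h2 hes
  rw [hCg, hCc] at hN2 hcl
  have hNN : Subgroup.normalizer ((S : Subgroup (SLtwo F)) : Set (SLtwo F)) =
      Subgroup.normalizer (C : Set (SLtwo F)) := by
    refine Subgroup.eq_of_le_of_card_ge (fun n hn => ?_) (by rw [hNc, hN2])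
    rw [Subgroup.mem_normalizer_iff]
    intro x
    rw [hC, Subgroup.mem_centralizer_iff, Subgroup.mem_centralizer_iff]
    constructor
    · intro h z hz
      have hz' : n⁻¹ * z * n ∈ (S : Subgroup (SLtwo F)) :=
        (Subgroup.mem_normalizer_iff.1 hn (n⁻¹ * z * n)).2 (by
          rw [show n * (n⁻¹ * z * n) * n⁻¹ = z by group]; exact hz)
      have := congrArg (fun w => n * w * n⁻¹) (h _ hz')
      simpa [mul_assoc] using this
    · intro h z hz
      have := congrArg (fun w => n⁻¹ * w * n)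
        (h _ ((Subgroup.mem_normalizer_iff.1 hn z).1 hz))
      simpa [mul_assoc] using this
  rw [countPrime_congr (MulEquiv.subgroupCongr hNN.symm)]
  set A := C.subgroupOf (Subgroup.normalizer (C : Set (SLtwo F))) with hA
  have hidx : A.index = 2 := by
    have h := A.index_mul_card
    rw [hA, Nat.card_congr (Subgroup.subgroupOfEquivOfLe Subgroup.le_normalizer).toEquiv, hCc,
      hN2] at h
    exact Nat.eq_of_mul_eq_mul_right (by omega) h
  haveI : A.Normal := Subgroup.normal_of_index_eq_two hidx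
  have hab : ∀ x ∈ A, ∀ y ∈ A, x * y = y * x := fun x hx y hy => Subtype.ext
    (congrArg Subtype.val (mul_comm' (⟨x.1, hx⟩ : C) ⟨y.1, hy⟩) :)
  rw [countPrime_abelian_normal A hab (by
    rw [hidx]; exact fun h => hℓ ((Nat.prime_dvd_prime_iff_eq Fact.out Nat.prime_two).1 h))]
  exact hcl

/-- The normaliser count at the prime two. -/
theorem countPrime_normalizer_two (hodd : Odd (Fintype.card F)) [Fact (Nat.Prime 2)]
    (S : Sylow 2 (SLtwo F)) :
    countPrime 2 (Subgroup.normalizer ((S : Subgroup (SLtwo F)) : Set (SLtwo F))) = 4 := by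
  classical
  have h2 : (2 : F) ≠ 0 := two_ne_zero_iff_odd.2 hodd
  have hodd' := Nat.odd_iff.1 hodd
  obtain ⟨S0, hcent, h1, h3⟩ := exists_sylowTwo_facts hodd
  obtain ⟨γ, hγ⟩ := MulAction.exists_smul_eq (SLtwo F) S0 S
  have hS : (S : Subgroup (SLtwo F)) = (S0 : Subgroup (SLtwo F)).map (MulAut.conj γ).toMonoidHom := by
    rw [← hγ, Sylow.coe_subgroup_smul]; rfl
  rw [countPrime_congr (((Subgroup.normalizer ((S0 : Subgroup (SLtwo F)) : Set (SLtwo F))).equivMapOfInjective
    _ (MulEquiv.injective (MulAut.conj γ))).trans (MulEquiv.subgroupCongr (by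
      rw [hS, ← Subgroup.map_equiv_normalizer_eq])))]
  obtain ⟨k, hk, hfac, ⟨e⟩⟩ := LinGroup.exists_sylow_two_equiv_quaternion hodd S0
  haveI : NeZero (2 ^ k) := ⟨(Nat.two_pow_pos k).ne'⟩
  set N := Subgroup.normalizer ((S0 : Subgroup (SLtwo F)) : Set (SLtwo F)) with hN
  by_cases h8 : Fintype.card F % 8 = 1 ∨ Fintype.card F % 8 = 7
  · rw [countPrime_congr (e.symm.trans (MulEquiv.subgroupCongr (h1 h8).symm)),
      countPrime_two_group (S0.isPGroup'.of_equiv e),
      commutator_index_quaternion (Nat.even_pow.2 ⟨even_two, by omega⟩)]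
  have h8' : Fintype.card F % 8 = 3 ∨ Fintype.card F % 8 = 5 := by omega
  have hfac3 : (Nat.card (SLtwo F)).factorization 2 = 3 := by
    have hne : Nat.card (SLtwo F) ≠ 0 := Nat.card_pos.ne'
    have h16 : Nat.card (SLtwo F) % 16 = 8 := by
      rw [card_SLtwo]
      set q := Fintype.card F
      have hlow : 1 ≤ q ^ 2 := Nat.one_le_pow _ _ (by omega)
      have hs : q ^ 2 % 16 = 9 := by
        rw [Nat.pow_mod]
        rcases (show q % 16 = 3 ∨ q % 16 = 5 ∨ q % 16 = 11 ∨ q % 16 = 13 by omega) with h | h | h | h <;>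
          rw [h]
      rw [Nat.mul_mod, show (q ^ 2 - 1) % 16 = 8 by omega]
      omega
    have h3' := (Nat.prime_two.pow_dvd_iff_le_factorization (k := 3) hne).1 (by norm_num [-Nat.card_eq_fintype_card]; omega)
    by_contra hc
    have := (Nat.prime_two.pow_dvd_iff_le_factorization (k := 4) hne).2 (by omega)
    norm_num [-Nat.card_eq_fintype_card] at this
    omega
  have hk1 : k = 1 := by
    rw [hfac3] at hfac
    rcases Nat.lt_or_ge k 2 with h | h
    · omega
    · have := Nat.pow_le_pow_right two_pos h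
      omega
  subst hk1
  have hS8 : Nat.card (S0 : Subgroup (SLtwo F)) = 8 := by
    rw [S0.card_eq_multiplicity, hfac3]; norm_num
  have hSN : (S0 : Subgroup (SLtwo F)) ≤ N := Subgroup.le_normalizer
  set S' := (S0 : Subgroup (SLtwo F)).subgroupOf N with hS'
  haveI : S'.Normal := by rw [hS', hN]; exact Subgroup.normal_in_normalizer
  have hN24 : Nat.card N = 24 := by rw [h3 h8', hS8]
  refine countPrime_two_of_card hN24 ?_
  obtain ⟨s, hs, t, ht, hst⟩ : ∃ s ∈ (S0 : Subgroup (SLtwo F)), ∃ t ∈ (S0 : Subgroup (SLtwo F)),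
      s * t ≠ t * s := by
    by_contra! hcom
    have hle : (S0 : Subgroup (SLtwo F)) ≤ Subgroup.center (SLtwo F) := by
      rw [← hcent]
      intro x hx
      rw [Subgroup.mem_centralizer_iff]
      exact fun y hy => hcom y hy x hx
    have := Subgroup.card_le_of_le hle
    rw [hS8, card_center_odd h2] at this
    omega
  have hzneg : (⁅s, t⁆ : SLtwo F) = -1 := by
    refine eq_neg_one_of_mul_self_eq_one h2 ?_ (fun h => hst (commutatorElement_eq_one_iff_mul_comm.1 h))
    have h := commutator_sq_quaternion_two (e ⟨s, hs⟩) (e ⟨t, ht⟩)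
    rw [← map_commutatorElement, ← map_mul, MulEquiv.map_eq_one_iff] at h
    exact congrArg Subtype.val h
  have hz : (-1 : SLtwo F) ∈ N := hzneg ▸ hSN (by
    rw [commutatorElement_def]
    exact Subgroup.mul_mem _ (Subgroup.mul_mem _ (Subgroup.mul_mem _ hs ht)
      (Subgroup.inv_mem _ hs)) (Subgroup.inv_mem _ ht))
  haveI := Fact.mk Nat.prime_three
  obtain ⟨y, hy⟩ := exists_prime_orderOf_dvd_card' 3 (show 3 ∣ Nat.card N by rw [hN24]; norm_num)
  refine commutator_index_three S' hN24
    (by rw [hS', Nat.card_congr (Subgroup.subgroupOfEquivOfLe hSN).toEquiv, hS8])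
    (z := ⟨-1, hz⟩) (fun h => neg_one_ne_one h2 (congrArg Subtype.val h)) ?_ ?_ ?_ ?_
    (y := y) (hy ▸ pow_orderOf_eq_one y) ?_
  · exact Subgroup.mem_center_iff.2 fun x =>
      Subtype.ext (Subgroup.mem_center_iff.1 neg_one_mem_center x.1)
  · rw [hS', Subgroup.mem_subgroupOf]
    show (-1 : SLtwo F) ∈ (S0 : Subgroup (SLtwo F))
    rw [← hzneg, commutatorElement_def]
    exact Subgroup.mul_mem _ (Subgroup.mul_mem _ (Subgroup.mul_mem _ hs ht)
      (Subgroup.inv_mem _ hs)) (Subgroup.inv_mem _ ht)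
  · exact Subtype.ext (show (-1 : SLtwo F) * -1 = 1 by simp)
  · have h : (⟨-1, hz⟩ : N) = ⁅(⟨s, hSN hs⟩ : N), ⟨t, hSN ht⟩⁆ := Subtype.ext hzneg.symm
    rw [h, commutator_def]
    exact Subgroup.commutator_mem_commutator (Subgroup.mem_top _) (Subgroup.mem_top _)
  · by_contra! hcom
    have hyc : (y : SLtwo F) ∈ Subgroup.center (SLtwo F) := by
      rw [← hcent, Subgroup.mem_centralizer_iff]
      intro x hx
      exact congrArg Subtype.val (hcom ⟨x, hSN hx⟩ (Subgroup.mem_subgroupOf.2 hx)).symm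
    have h' := Subgroup.orderOf_dvd_natCard (Subgroup.center (SLtwo F)) hyc
    rw [Subgroup.orderOf_coe, hy, card_center_odd h2] at h'
    norm_num at h'

end Cfsg.Agent.Lib.SL2.McKay
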