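import Cfsg.Agent.Lib.SL2.Classes
import Cfsg.Agent.Lib.SL2.SmallConj

/-!
# Involutions of `PSL₂(q)` with product of odd order

For any two involutions `x`, `y` there is a third involution `z` such that both `x * z` and
`y * z` have odd order: a pigeonhole argument on the traces of the products.
-/

set_option autoImplicit false

namespace Cfsg.Agent.Lib.SL2

namespace OddProductGraph

open Finset

variable {F : Type*} [Field F] [Fintype F]

omit [Fintype F] in
lemma oe_00 {a b c d : F} (h : a * d - b * c = 1) : (ofEntries a b c d h) 0 0 = a := rfl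

omit [Fintype F] in
lemma oe_01 {a b c d : F} (h : a * d - b * c = 1) : (ofEntries a b c d h) 0 1 = b := rfl

omit [Fintype F] in
lemma oe_10 {a b c d : F} (h : a * d - b * c = 1) : (ofEntries a b c d h) 1 0 = c := rfl

omit [Fintype F] in
lemma oe_11 {a b c d : F} (h : a * d - b * c = 1) : (ofEntries a b c d h) 1 1 = d := rfl

/-- `PSL₂`-element with elliptic lift, `q ≡ 1 (mod 4)`: odd order. -/
lemma odd_of_elliptic {g : SLtwo F} (hg : IsElliptic g)
    (hq : Fintype.card F % 4 = 1) : Odd (orderOf (proj g)) := by
  have h := card_torus_mul (g := g)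
  rw [card_centralizer_elliptic hg] at h
  have hgcd : Nat.gcd 2 (Fintype.card F - 1) = 2 := Nat.gcd_eq_left (by omega)
  rw [hgcd] at h
  have ho : Odd (Nat.card (torus (proj g))) := Nat.odd_iff.2 (by omega)
  refine ho.of_dvd_nat ?_
  have hd := orderOf_dvd_natCard (⟨proj g, mem_torus_self _⟩ : torus (proj g))
  rwa [Subgroup.orderOf_mk] at hd

/-- `PSL₂`-element with split lift, `q ≡ 3 (mod 4)`: odd order. -/
lemma odd_of_split {g : SLtwo F} (hg : IsSplit g)
    (hq : Fintype.card F % 4 = 3) : Odd (orderOf (proj g)) := by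
  have h := card_torus_mul (g := g)
  rw [card_centralizer_split hg] at h
  have hgcd : Nat.gcd 2 (Fintype.card F - 1) = 2 := Nat.gcd_eq_left (by omega)
  rw [hgcd] at h
  have ho : Odd (Nat.card (torus (proj g))) := Nat.odd_iff.2 (by omega)
  refine ho.of_dvd_nat ?_
  have hd := orderOf_dvd_natCard (⟨proj g, mem_torus_self _⟩ : torus (proj g))
  rwa [Subgroup.orderOf_mk] at hd

/-- A parabolic element has odd order in odd characteristic. -/
lemma odd_of_parabolic (h2 : (2 : F) ≠ 0) {g : SLtwo F} (hg : tr g = 2 ∨ tr g = -2) :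
    Odd (orderOf (proj g)) := by
  obtain ⟨p, hp⟩ := CharP.exists F
  haveI := hp
  have hpp : p.Prime := CharP.char_is_prime F p
  haveI := Fact.mk hpp
  have hp2 : p ≠ 2 := fun e => h2 (by subst e; simpa using CharP.cast_eq_zero F 2)
  have hu : IsUnip (proj g) := by
    rcases hg with h | h
    · exact ⟨g, rfl, h⟩
    · exact ⟨-g, proj_neg g, by rw [tr_neg, h, neg_neg]⟩
  exact (hpp.odd_of_ne_two hp2).of_dvd_nat (orderOf_dvd_of_unip p hu)

/-- The traces `t` that force odd order in `PSL₂(q)`. -/
def GoodTr (t : F) : Prop :=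
  t ^ 2 = 4 ∨ (Fintype.card F % 4 = 1 ∧ ¬ IsSquare (t ^ 2 - 4)) ∨
    (Fintype.card F % 4 = 3 ∧ IsSquare (t ^ 2 - 4))

lemma odd_of_good (h2 : (2 : F) ≠ 0) {g : SLtwo F} (hg : GoodTr (tr g)) :
    Odd (orderOf (proj g)) := by
  rcases hg with h | ⟨hq, h⟩ | ⟨hq, k, hk⟩
  · refine odd_of_parabolic h2 (mul_self_eq_mul_self_iff.1 ?_)
    linear_combination h
  · refine odd_of_elliptic (fun l hl => h ⟨2 * l - tr g, ?_⟩) hq
    linear_combination (-4 : F) * hl
  · by_cases hk0 : k = 0
    · refine odd_of_parabolic h2 (mul_self_eq_mul_self_iff.1 ?_)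
      rw [hk0] at hk
      linear_combination hk
    · refine odd_of_split ⟨(tr g + k) / 2, ?_, fun e => hk0 ?_⟩ hq
      · field_simp
        linear_combination -hk
      · rcases sq_eq_one_iff.1 e with e | e
        · have hk' : k = 2 - tr g := by
            rw [div_eq_iff h2] at e; linear_combination e
          have ht : 4 * (tr g - 2) = 0 := by rw [hk'] at hk; linear_combination hk
          have h4 : (4 : F) ≠ 0 := by
            rw [show (4 : F) = 2 * 2 by norm_num]; exact mul_ne_zero h2 h2
          rw [hk']
          linear_combination (-1 : F) * ((mul_eq_zero.1 ht).resolve_left h4)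
        · have hk' : k = -2 - tr g := by
            rw [div_eq_iff h2] at e; linear_combination e
          have ht : 4 * (tr g + 2) = 0 := by rw [hk'] at hk; linear_combination -hk
          have h4 : (4 : F) ≠ 0 := by
            rw [show (4 : F) = 2 * 2 by norm_num]; exact mul_ne_zero h2 h2
          rw [hk']
          linear_combination (-1 : F) * ((mul_eq_zero.1 ht).resolve_left h4)

open scoped Classical in
/-- `2 |{t : t² - c square}| = q - 1 + |{t : t² = c}|` for `c ≠ 0`. -/
lemma two_mul_card_sq (h2 : (2 : F) ≠ 0) {c : F} (hc : c ≠ 0) :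
    2 * (univ.filter fun t : F => IsSquare (t ^ 2 - c)).card =
      Fintype.card F - 1 + (univ.filter fun t : F => t ^ 2 = c).card := by
  set P := univ.filter fun t : F => IsSquare (t ^ 2 - c) with hP
  set L := (univ : Finset F).erase 0 with hL
  have hmap : ∀ l ∈ L, (l + c / l) / 2 ∈ P := by
    intro l hl
    have hl0 : l ≠ 0 := (mem_erase.1 hl).1
    rw [hP, mem_filter]
    refine ⟨mem_univ _, (l - c / l) / 2, ?_⟩
    field_simp
    ring
  have hcount := card_eq_sum_card_fiberwise hmap
  have hfib : ∀ t ∈ P, (L.filter fun l => (l + c / l) / 2 = t).card + (if t ^ 2 = c then 1 else 0) = 2 := by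
    intro t ht
    obtain ⟨k, hk⟩ := (mem_filter.1 ht).2
    have e : (L.filter fun l => (l + c / l) / 2 = t) = {t + k, t - k} := by
      ext l
      simp only [mem_filter, hL, mem_erase, mem_univ, and_true, mem_insert, mem_singleton]
      constructor
      · rintro ⟨hl0, hl⟩
        field_simp at hl
        have : (l - (t + k)) * (l - (t - k)) = 0 := by linear_combination hl + hk
        rcases mul_eq_zero.1 this with h | h
        · exact Or.inl (sub_eq_zero.1 h)
        · exact Or.inr (sub_eq_zero.1 h)
      · intro h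
        have hprod : (t + k) * (t - k) = c := by linear_combination hk
        have hne : t + k ≠ 0 ∧ t - k ≠ 0 :=
          ⟨fun z => hc (by rw [← hprod, z, zero_mul]), fun z => hc (by rw [← hprod, z, mul_zero])⟩
        rcases h with rfl | rfl
        · refine ⟨hne.1, ?_⟩
          have := hne.1
          field_simp
          linear_combination -hprod
        · refine ⟨hne.2, ?_⟩
          have := hne.2
          field_simp
          linear_combination -hprod
    rw [e]
    by_cases hk0 : k = 0
    · rw [if_pos (by rw [hk0] at hk; linear_combination hk)]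
      simp [hk0]
    · rw [if_neg (fun z => hk0 (mul_self_eq_zero.1 (by linear_combination z - hk))),
        card_pair (fun z => hk0 ?_)]
      have : 2 * k = 0 := by linear_combination z
      exact (mul_eq_zero.1 this).resolve_left h2
  have hsum := Finset.sum_congr rfl hfib
  rw [sum_add_distrib, ← hcount, sum_boole, sum_const, smul_eq_mul] at hsum
  have hR : (P.filter fun t => t ^ 2 = c) = univ.filter fun t : F => t ^ 2 = c := by
    ext t
    simp only [hP, mem_filter, mem_univ, true_and, and_iff_right_iff_imp]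
    intro h
    exact ⟨0, by linear_combination h⟩
  rw [hR, hL, card_erase_of_mem (mem_univ _), card_univ] at hsum
  simp only [Nat.cast_id] at hsum
  omega

open scoped Classical in
lemma card_roots_le (c : F) : (univ.filter fun t : F => t ^ 2 = c).card ≤ 2 := by
  by_cases h : ∃ s : F, s ^ 2 = c
  · obtain ⟨s, rfl⟩ := h
    refine le_trans (card_le_card (t := {s, -s}) ?_) card_le_two
    intro t ht
    simpa using sq_eq_sq_iff_eq_or_eq_neg.1 (mem_filter.1 ht).2
  · simp only [not_exists] at h
    simp [h]

open scoped Classical in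
lemma card_roots_four (h2 : (2 : F) ≠ 0) :
    (univ.filter fun t : F => t ^ 2 = 4).card = 2 := by
  have : (univ.filter fun t : F => t ^ 2 = 4) = {2, -2} := by
    ext t
    simp only [mem_filter, mem_univ, true_and, mem_insert, mem_singleton]
    rw [show (4 : F) = 2 ^ 2 by norm_num, sq_eq_sq_iff_eq_or_eq_neg]
  rw [this, card_pair]
  intro h
  have h4 : (2 : F) * 2 = 0 := by linear_combination h
  exact mul_ne_zero h2 h2 h4

open scoped Classical in
/-- Lower bound for the number of good traces. -/
lemma card_good (h2 : (2 : F) ≠ 0) :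
    (Fintype.card F % 4 = 1 →
      Fintype.card F + 3 ≤ 2 * (univ.filter fun t : F => GoodTr t).card) ∧
    (Fintype.card F % 4 = 3 →
      Fintype.card F + 1 ≤ 2 * (univ.filter fun t : F => GoodTr t).card) := by
  have h4 : (4 : F) ≠ 0 := by rw [show (4 : F) = 2 * 2 by norm_num]; exact mul_ne_zero h2 h2
  have hP := two_mul_card_sq h2 h4
  rw [card_roots_four h2] at hP
  have hq1 : 1 < Fintype.card F := Fintype.one_lt_card
  constructor <;> intro hq
  · have hsub : (univ.filter fun t : F => IsSquare (t ^ 2 - 4))ᶜ ∪ {2, -2} ⊆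
        univ.filter fun t : F => GoodTr t := by
      intro t ht
      rw [mem_filter]
      refine ⟨mem_univ _, ?_⟩
      rcases mem_union.1 ht with h | h
      · exact Or.inr (Or.inl ⟨hq, by simpa using h⟩)
      · left
        rcases mem_insert.1 h with rfl | h
        · norm_num
        · rw [mem_singleton.1 h]; norm_num
    have hdisj : Disjoint (univ.filter fun t : F => IsSquare (t ^ 2 - 4))ᶜ ({2, -2} : Finset F) := by
      rw [disjoint_left]
      intro t ht h
      simp only [mem_compl, mem_filter, mem_univ, true_and] at ht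
      rcases mem_insert.1 h with rfl | h
      · exact ht ⟨0, by norm_num⟩
      · rw [mem_singleton.1 h] at ht; exact ht ⟨0, by norm_num⟩
    have := card_le_card hsub
    rw [card_union_of_disjoint hdisj, card_compl, card_pair] at this
    · omega
    · intro h
      have h4' : (2 : F) * 2 = 0 := by linear_combination h
      exact mul_ne_zero h2 h2 h4'
  · have hsub : (univ.filter fun t : F => IsSquare (t ^ 2 - 4)) ⊆
        univ.filter fun t : F => GoodTr t := fun t ht =>
      mem_filter.2 ⟨mem_univ _, Or.inr (Or.inr ⟨hq, (mem_filter.1 ht).2⟩)⟩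
    have := card_le_card hsub
    omega

open scoped Classical in
/-- Lower bound for `|{v : c - v² square}|`. -/
lemma card_norm_values (h2 : (2 : F) ≠ 0) {c : F} (hc : c ≠ 0) :
    (Fintype.card F % 4 = 1 →
      Fintype.card F - 1 ≤ 2 * (univ.filter fun v : F => IsSquare (c - v ^ 2)).card) ∧
    (Fintype.card F % 4 = 3 →
      Fintype.card F + 1 ≤ 2 * (univ.filter fun v : F => IsSquare (c - v ^ 2)).card) := by
  have hP := two_mul_card_sq h2 hc
  have hR := card_roots_le c
  constructor <;> intro hq
  · obtain ⟨i, hi⟩ : IsSquare (-1 : F) := FiniteField.isSquare_neg_one_iff.2 (by omega)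
    have e : (univ.filter fun v : F => IsSquare (c - v ^ 2)) =
        univ.filter fun v : F => IsSquare (v ^ 2 - c) := by
      ext v
      simp only [mem_filter, mem_univ, true_and]
      constructor <;> rintro ⟨k, hk⟩ <;> refine ⟨i * k, ?_⟩
      · linear_combination (k * k) * hi - hk
      · linear_combination (k * k) * hi - hk
    rw [e]; omega
  · have hn : ¬ IsSquare (-1 : F) := fun h => FiniteField.isSquare_neg_one_iff.1 h hq
    have hsub : (univ.filter fun v : F => IsSquare (v ^ 2 - c))ᶜ ∪
        (univ.filter fun v : F => v ^ 2 = c) ⊆ univ.filter fun v : F => IsSquare (c - v ^ 2) := by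
      intro v hv
      simp only [mem_filter, mem_univ, true_and]
      rcases mem_union.1 hv with h | h
      · simp only [mem_compl, mem_filter, mem_univ, true_and] at h
        have hrc : ringChar F ≠ 2 := fun e => h2 (by
          haveI := ringChar.charP F; have := CharP.cast_eq_zero F (ringChar F)
          rw [e] at this; simpa using this)
        by_contra h'
        have hne : v ^ 2 - c ≠ 0 := fun z => h ⟨0, by rw [z]; simp⟩
        have hne' : c - v ^ 2 ≠ 0 := fun z => hne (by linear_combination -z)
        have hmul : IsSquare ((v ^ 2 - c) * (c - v ^ 2)) := (isSquare_mul_iff' hne hne').2 (iff_of_false h h')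
        apply hn
        obtain ⟨k, hk⟩ := hmul
        refine ⟨k / (v ^ 2 - c), ?_⟩
        field_simp
        linear_combination hk
      · simp only [mem_filter, mem_univ, true_and] at h
        exact ⟨0, by linear_combination -h⟩
    have hdisj : Disjoint (univ.filter fun v : F => IsSquare (v ^ 2 - c))ᶜ
        (univ.filter fun v : F => v ^ 2 = c) := by
      rw [disjoint_left]
      intro v hv h
      simp only [mem_compl, mem_filter, mem_univ, true_and] at hv h
      exact hv ⟨0, by linear_combination h⟩
    have := card_le_card hsub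
    rw [card_union_of_disjoint hdisj, card_compl] at this
    have hle : (univ.filter fun v : F => IsSquare (v ^ 2 - c)).card ≤ Fintype.card F :=
      card_le_univ _
    omega

open scoped Classical in
/-- There is a good `t` with `t² ≠ 4`. -/
lemma exists_good (h2 : (2 : F) ≠ 0) (h4 : 4 ≤ Fintype.card F) :
    ∃ t : F, GoodTr t ∧ t ^ 2 ≠ 4 := by
  by_contra h
  simp only [not_exists, not_and, not_not] at h
  have hsub : (univ.filter fun t : F => GoodTr t) ⊆ univ.filter fun t : F => t ^ 2 = 4 :=
    fun t ht => mem_filter.2 ⟨mem_univ _, h t (mem_filter.1 ht).2⟩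
  have h1 := card_le_card hsub
  rw [card_roots_four h2] at h1
  have hodd : Odd (Fintype.card F) := two_ne_zero_iff_odd.1 h2
  rw [Nat.odd_iff] at hodd
  obtain ⟨g1, g3⟩ := card_good (F := F) h2
  rcases (show Fintype.card F % 4 = 1 ∨ Fintype.card F % 4 = 3 by omega) with hq | hq
  · have := g1 hq; omega
  · have := g3 hq; omega

open scoped Classical in
/-- The trace equations: a third trace-zero element for `weyl` and `!![a, b; c, -a]`. -/
lemma exists_conic (h2 : (2 : F) ≠ 0) (h4 : 4 ≤ Fintype.card F) {a b c : F}
    (hne : a ≠ 0 ∨ b + c ≠ 0) :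
    ∃ s u v : F, -s ^ 2 - u * v = 1 ∧ GoodTr (v - u) ∧ GoodTr (2 * a * s + b * v + c * u) := by
  obtain ⟨t, ht, ht4⟩ := exists_good h2 h4
  set r : F := t ^ 2 / 4 - 1 with hr
  have h4' : (4 : F) ≠ 0 := by rw [show (4 : F) = 2 * 2 by norm_num]; exact mul_ne_zero h2 h2
  have hr0 : r ≠ 0 := fun e => ht4 (by rw [hr] at e; field_simp at e; linear_combination e)
  set α : F := 2 * a with hα
  set β : F := b + c with hβ
  set γ : F := (b - c) * t / 2 with hγ
  -- it suffices to find `(s, w)` on the circle with a good value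
  suffices ∃ s w : F, s ^ 2 + w ^ 2 = r ∧ GoodTr (α * s + β * w + γ) by
    obtain ⟨s, w, hsw, hg⟩ := this
    refine ⟨s, w - t / 2, w + t / 2, ?_, ?_, ?_⟩
    · rw [hr] at hsw
      field_simp at hsw ⊢
      linear_combination -hsw
    · rwa [show w + t / 2 - (w - t / 2) = t by field_simp; ring]
    · convert hg using 1
      rw [hα, hβ, hγ]
      field_simp
      ring
  have hodd : Odd (Fintype.card F) := two_ne_zero_iff_odd.1 h2
  rw [Nat.odd_iff] at hodd
  obtain ⟨g1, g3⟩ := card_good (F := F) h2
  by_cases hD : α ^ 2 + β ^ 2 = 0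
  · -- isotropic case
    have hα0 : α ≠ 0 := by
      intro e
      rw [e] at hD
      have hb : β = 0 := (pow_eq_zero_iff two_ne_zero).1 (by linear_combination hD)
      rcases hne with h | h
      · exact h ((mul_eq_zero.1 e).resolve_left h2)
      · exact h hb
    have hG : 2 ≤ (univ.filter fun t : F => GoodTr t).card := by
      rcases (show Fintype.card F % 4 = 1 ∨ Fintype.card F % 4 = 3 by omega) with hq | hq
      · have := g1 hq; omega
      · have := g3 hq; omega
    obtain ⟨w', hw', hwne⟩ := exists_mem_ne (by omega : 1 < (univ.filter fun t : F => GoodTr t).card) γ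
    set v := w' - γ with hv
    have hv0 : v ≠ 0 := sub_ne_zero.2 hwne
    -- `α s + β w = v` and `α s - β w = α² r / v`
    set m := α ^ 2 * r / v with hm
    have hb0 : β ≠ 0 := fun e => hα0 (by
      rw [e] at hD; exact (pow_eq_zero_iff two_ne_zero).1 (by linear_combination hD))
    refine ⟨(v + m) / (2 * α), (v - m) / (2 * β), ?_, ?_⟩
    · have hβ2 : β ^ 2 = -α ^ 2 := by linear_combination hD
      have e1 : ((v - m) / (2 * β)) ^ 2 = -((v - m) / (2 * α)) ^ 2 := by
        rw [div_pow, div_pow, mul_pow, mul_pow, hβ2, mul_neg, div_neg]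
      rw [e1, hm]
      field_simp
      ring
    · convert (mem_filter.1 hw').2 using 1
      rw [hv]
      field_simp
      ring
  · -- the values of `α s + β w` are the `v` with `D r - v²` square
    set D := α ^ 2 + β ^ 2 with hD'
    have hc0 : D * r ≠ 0 := mul_ne_zero hD hr0
    obtain ⟨n1, n3⟩ := card_norm_values h2 hc0
    set A := univ.filter fun v : F => IsSquare (D * r - v ^ 2) with hA
    set B := (univ.filter fun t : F => GoodTr t).image fun t => t - γ with hB
    have hBc : B.card = (univ.filter fun t : F => GoodTr t).card :=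
      card_image_of_injective _ (fun x y h => by simpa using h)
    have hAB : ¬ Disjoint A B := by
      intro hd
      have := card_le_univ (A ∪ B)
      rw [card_union_of_disjoint hd, hBc] at this
      rcases (show Fintype.card F % 4 = 1 ∨ Fintype.card F % 4 = 3 by omega) with hq | hq
      · have := g1 hq; have := n1 hq; omega
      · have := g3 hq; have := n3 hq; omega
    obtain ⟨v, hvA, hvB⟩ := not_disjoint_iff.1 hAB
    obtain ⟨k, hk⟩ := (mem_filter.1 hvA).2
    obtain ⟨w', hw', rfl⟩ := mem_image.1 hvB
    refine ⟨(α * (w' - γ) + β * k) / D, (β * (w' - γ) - α * k) / D, ?_, ?_⟩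
    · field_simp
      rw [hD'] at hk ⊢
      linear_combination (-(α ^ 2 + β ^ 2)) * hk
    · convert (mem_filter.1 hw').2 using 1
      field_simp
      rw [hD']
      ring

lemma tr_zero_of_involution {g : SLtwo F} (hg : orderOf (proj g) = 2) : tr g = 0 := by
  have hne : proj g ≠ 1 := fun e => by rw [e, orderOf_one] at hg; omega
  refine (tr_of_pow hne).1 ?_
  have h := pow_orderOf_eq_one (proj g)
  rwa [hg, sq] at h

lemma orderOf_proj_two (h2 : (2 : F) ≠ 0) {g : SLtwo F} (hg : tr g = 0) :
    orderOf (proj g) = 2 := by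
  have hg' : tr g ≠ 2 ∧ tr g ≠ -2 :=
    ⟨by rw [hg]; exact h2.symm, by rw [hg]; exact fun e => h2 (by linear_combination e)⟩
  have hn : g ∉ Subgroup.center (SLtwo F) := not_mem_center_of_tr hg'.1 hg'.2
  have hgg : g * g = -1 := by
    refine Subtype.ext ?_
    have ch := cayley_hamilton g
    rw [hg, zero_smul, zero_sub] at ch
    simpa using ch
  refine orderOf_eq_prime ?_ (fun e => hn (proj_eq_one_iff.1 e))
  rw [sq, ← map_mul, hgg, proj_neg, map_one]

lemma isConj_trace_zero (h2 : (2 : F) ≠ 0) {g h : SLtwo F} (hg : tr g = 0) (hh : tr h = 0) :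
    IsConj (proj g) (proj h) :=
  (proj).map_isConj (isConj_of_tr_eq (elliptic_or_split_of_tr
    ⟨by rw [hg]; exact h2.symm, by rw [hg]; exact fun e => h2 (by linear_combination e)⟩)
    (hg.trans hh.symm))

lemma tr_weyl : tr (weyl : SLtwo F) = 0 := by simp [tr]

/-- Odd characteristic: the third involution. -/
theorem exists_third_odd (h2 : (2 : F) ≠ 0) (h4 : 4 ≤ Fintype.card F) {x y : PSLtwo F}
    (hx : orderOf x = 2) (hy : orderOf y = 2) (hxy : x ≠ y) :
    ∃ z : PSLtwo F, orderOf z = 2 ∧ Odd (orderOf (x * z)) ∧ Odd (orderOf (z * y)) := by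
  obtain ⟨gx, rfl⟩ := proj_surjective x
  obtain ⟨k, hk⟩ := isConj_iff.1 (isConj_trace_zero h2 (tr_zero_of_involution hx) tr_weyl)
  set y' := k * y * k⁻¹ with hy'
  have hy'2 : orderOf y' = 2 := (orderOf_injective (MulAut.conj k).toMonoidHom
    (MulAut.conj k).injective y).trans hy
  obtain ⟨g, hg⟩ := proj_surjective y'
  have hgt : tr g = 0 := tr_zero_of_involution (hg ▸ hy'2)
  have hd := det_entries g
  simp only [tr] at hgt
  have h11 : g 1 1 = -g 0 0 := by linear_combination hgt
  have hne : g 0 0 ≠ 0 ∨ g 0 1 + g 1 0 ≠ 0 := by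
    by_contra h
    simp only [not_or, not_not] at h
    obtain ⟨ha, hbc⟩ := h
    have h10 : g 1 0 = -g 0 1 := by linear_combination hbc
    rw [h11, ha, h10] at hd
    have hb : g 0 1 = 1 ∨ g 0 1 = -1 :=
      mul_self_eq_one_iff.1 (by linear_combination hd)
    apply hxy
    have hgw : proj g = proj weyl := by
      rw [proj_eq_proj_iff]
      rcases hb with hb | hb
      · left; apply ext_entries <;> simp [ha, h10, h11, hb]
      · right
        apply ext_entries <;>
          simp [ha, h10, h11, hb, Matrix.SpecialLinearGroup.coe_neg]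
    rw [hg, hy'] at hgw
    exact (MulAut.conj k).injective (by simpa using hk.trans hgw.symm)
  obtain ⟨s, u, v, hdet, ht1, ht2⟩ := exists_conic h2 h4 hne
  set z : SLtwo F := ofEntries s u v (-s) (by linear_combination hdet) with hz
  have htz : tr z = 0 := by simp [tr, hz]
  refine ⟨k⁻¹ * proj z * k, ?_, ?_, ?_⟩
  · have := orderOf_injective (MulAut.conj k⁻¹).toMonoidHom (MulAut.conj k⁻¹).injective (proj z)
    simp only [MulEquiv.coe_toMonoidHom, MulAut.conj_apply, inv_inv] at this
    exact this.trans (orderOf_proj_two h2 htz)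
  · have e : proj gx * (k⁻¹ * proj z * k) = k⁻¹ * proj (weyl * z) * k := by
      rw [map_mul, ← hk]; group
    have := orderOf_injective (MulAut.conj k⁻¹).toMonoidHom (MulAut.conj k⁻¹).injective
      (proj (weyl * z))
    simp only [MulEquiv.coe_toMonoidHom, MulAut.conj_apply, inv_inv] at this
    rw [e, this]
    refine odd_of_good h2 ?_
    convert ht1 using 1
    simp only [tr, hz, mul_00, mul_11, oe_00, oe_01, oe_10, oe_11, weyl_00, weyl_01, weyl_10,
      weyl_11]
    ring
  · have e : k⁻¹ * proj z * k * y = k⁻¹ * proj (z * g) * k := by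
      rw [map_mul, hg, hy']; group
    have := orderOf_injective (MulAut.conj k⁻¹).toMonoidHom (MulAut.conj k⁻¹).injective
      (proj (z * g))
    simp only [MulEquiv.coe_toMonoidHom, MulAut.conj_apply, inv_inv] at this
    rw [e, this]
    refine odd_of_good h2 ?_
    convert ht2 using 1
    simp only [tr, hz, mul_00, mul_11, oe_00, oe_01, oe_10, oe_11, h11]
    ring

/-- Odd characteristic: two distinct involutions whose product is an involution. -/
theorem exists_commuting_odd (h2 : (2 : F) ≠ 0) :
    ∃ x y : PSLtwo F, orderOf x = 2 ∧ orderOf y = 2 ∧ x ≠ y ∧ ¬ Odd (orderOf (x * y)) := by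
  obtain ⟨a, b, hab⟩ := FiniteField.exists_root_sum_quadratic
    (f := (Polynomial.X ^ 2 : Polynomial F)) (g := Polynomial.X ^ 2 + Polynomial.C 1)
    (Polynomial.degree_X_pow 2) (Polynomial.degree_X_pow_add_C two_pos _)
    (Nat.odd_iff.1 (two_ne_zero_iff_odd.1 h2))
  simp only [Polynomial.eval_pow, Polynomial.eval_X, Polynomial.eval_add, Polynomial.eval_C] at hab
  set y : SLtwo F := ofEntries a b b (-a) (by linear_combination -hab) with hy
  have hty : tr y = 0 := by simp [tr, hy]
  have hm : tr (weyl * y) = 0 := by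
    simp only [tr, hy, mul_00, mul_11, oe_00, oe_01, oe_10, oe_11, weyl_00, weyl_01, weyl_10,
      weyl_11]
    ring
  refine ⟨proj weyl, proj y, orderOf_proj_two h2 tr_weyl, orderOf_proj_two h2 hty, ?_, ?_⟩
  · intro e
    have h1 := orderOf_proj_two h2 hm
    rw [map_mul, ← e, ← sq] at h1
    have hw := pow_orderOf_eq_one (proj (weyl : SLtwo F))
    rw [orderOf_proj_two h2 tr_weyl] at hw
    rw [hw, orderOf_one] at h1
    omega
  · rw [← map_mul, orderOf_proj_two h2 hm]
    decide

/-- Characteristic two: semisimple elements have odd order. -/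
lemma odd_of_tr_ne_zero [CharP F 2] {g : SLtwo F} (hg : tr g ≠ 0) :
    Odd (orderOf (proj g)) := by
  haveI := Fact.mk Nat.prime_two
  have h0 : (2 : F) = 0 := by simpa using CharP.cast_eq_zero F 2
  have hs : IsSemi (proj g) := ⟨g, rfl, elliptic_or_split_of_tr
    ⟨by rwa [h0], by rwa [h0, neg_zero]⟩⟩
  exact (Nat.coprime_two_right.1 (coprime_orderOf_of_semi 2 hs))

lemma involution_conj_upper [CharP F 2] {x : PSLtwo F} (hx : orderOf x = 2) :
    ∃ k : PSLtwo F, k * x * k⁻¹ = proj (upper 1) := by
  haveI := Fact.mk Nat.prime_two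
  have h0 : (2 : F) = 0 := by simpa using CharP.cast_eq_zero F 2
  obtain ⟨g, rfl⟩ := proj_surjective x
  have ht : tr g = 2 := by rw [h0]; exact tr_zero_of_involution hx
  obtain ⟨k, c, hk⟩ := exists_conj_upper ht
  have hc : c ≠ 0 := by
    intro e
    rw [e, upper_zero] at hk
    have : g = 1 := by
      have e' : g = k⁻¹ * (k * g * k⁻¹) * k := by group
      rw [hk] at e'
      simpa using e' 
    rw [this, map_one, orderOf_one] at hx
    omega
  obtain ⟨d, hd⟩ := FiniteField.isSquare_of_char_two (ringChar.eq F 2) c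
  have hd0 : d ≠ 0 := fun e => hc (by rw [hd, e, mul_zero])
  refine ⟨proj (diag (Units.mk0 d hd0)⁻¹ * k), ?_⟩
  rw [← map_inv, ← map_mul, ← map_mul]
  congr 1
  rw [mul_inv_rev, ← mul_assoc, mul_assoc (diag _) k g, mul_assoc (diag _) (k * g) k⁻¹, hk,
    diag_conj_upper]
  congr 1
  rw [hd]
  simp
  field_simp

lemma orderOf_proj_upper [CharP F 2] {c : F} (hc : c ≠ 0) : orderOf (proj (upper c)) = 2 := by
  have h0 : (2 : F) = 0 := by simpa using CharP.cast_eq_zero F 2
  refine orderOf_eq_prime ?_ ?_
  · rw [← map_pow, upper_pow]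
    rw [show ((2 : ℕ) : F) * c = 0 by push_cast; rw [h0, zero_mul], upper_zero, map_one]
  · intro e
    have := ((mem_center_iff_entries _).1 (proj_eq_one_iff.1 e)).1
    exact hc (by simpa using this)

/-- Characteristic two: the third involution. -/
theorem exists_third_even [CharP F 2] {x y : PSLtwo F}
    (hx : orderOf x = 2) (hy : orderOf y = 2) :
    ∃ z : PSLtwo F, orderOf z = 2 ∧ Odd (orderOf (x * z)) ∧ Odd (orderOf (z * y)) := by
  have h0 : (2 : F) = 0 := by simpa using CharP.cast_eq_zero F 2
  obtain ⟨k, hk⟩ := involution_conj_upper hx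
  set y' := k * y * k⁻¹ with hy'
  have hy'2 : orderOf y' = 2 := (orderOf_injective (MulAut.conj k).toMonoidHom
    (MulAut.conj k).injective y).trans hy
  obtain ⟨g, hg⟩ := proj_surjective y'
  have hgt : tr g = 0 := tr_zero_of_involution (hg ▸ hy'2)
  have hd := det_entries g
  simp only [tr] at hgt
  have hinv : ∀ z : SLtwo F, tr z = 0 → z ≠ 1 → orderOf (proj z) = 2 := by
    intro z hz hz1
    refine orderOf_eq_prime ?_ ?_
    · have hzz : z * z = -1 := by
        refine Subtype.ext ?_
        have ch := cayley_hamilton z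
        rw [hz, zero_smul, zero_sub] at ch
        simpa using ch
      rw [sq, ← map_mul, hzz, proj_neg, map_one]
    · intro e
      rcases (mem_center_iff_eq z).1 (proj_eq_one_iff.1 e) with e' | e'
      · exact hz1 e'
      · refine hz1 (e'.trans ?_)
        have hm : (-1 : F) = 1 := by linear_combination -h0
        apply ext_entries <;> simp [Matrix.SpecialLinearGroup.coe_neg, hm]
  suffices ∃ z : SLtwo F, tr z = 0 ∧ z ≠ 1 ∧ tr (upper 1 * z) ≠ 0 ∧ tr (z * g) ≠ 0 by
    obtain ⟨z, hz0, hz1, ha, hb⟩ := this
    have hconj : ∀ w : SLtwo F, orderOf (k⁻¹ * proj w * k) = orderOf (proj w) := by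
      intro w
      have := orderOf_injective (MulAut.conj k⁻¹).toMonoidHom (MulAut.conj k⁻¹).injective (proj w)
      simpa using this
    refine ⟨k⁻¹ * proj z * k, (hconj z).trans (hinv z hz0 hz1), ?_, ?_⟩
    · have e : x * (k⁻¹ * proj z * k) = k⁻¹ * proj (upper 1 * z) * k := by
        rw [map_mul, ← hk]; group
      rw [e, hconj]
      exact odd_of_tr_ne_zero ha
    · have e : k⁻¹ * proj z * k * y = k⁻¹ * proj (z * g) * k := by
        rw [map_mul, hg, hy']; group
      rw [e, hconj]
      exact odd_of_tr_ne_zero hb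
  by_cases hb : g 0 1 = 0
  · have hc : g 1 0 ≠ 0 := by
      intro hc
      rw [hb, hc] at hd
      have : proj g = 1 := proj_eq_one_iff.2 ((mem_center_iff_entries g).2
        ⟨hb, hc, by linear_combination hgt - g 1 1 * h0⟩)
      rw [← hg, this, orderOf_one] at hy'2
      omega
    refine ⟨weyl, tr_weyl, ?_, ?_, ?_⟩
    · intro e
      simpa using congrArg (fun z : SLtwo F => z 0 0) e
    · simp [tr, mul_00, mul_11]
    · simpa [tr, mul_00, mul_11, hb] using hc
  · refine ⟨lower 1, by simpa [tr] using (show (1 : F) + 1 = 0 by linear_combination h0), ?_, ?_, ?_⟩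
    · intro e
      simpa using congrArg (fun z : SLtwo F => z 1 0) e
    · simp only [tr, mul_00, mul_11, upper_00, upper_01, upper_10, upper_11, lower_00, lower_01,
        lower_10, lower_11]
      intro e
      exact one_ne_zero (α := F) (by linear_combination e - h0)
    · simp only [tr, mul_00, mul_11, lower_00, lower_01, lower_10, lower_11]
      intro e
      exact hb (by linear_combination e - hgt)

/-- Characteristic two: two distinct commuting involutions. -/
theorem exists_commuting_even [CharP F 2] (h4 : 4 ≤ Fintype.card F) :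
    ∃ x y : PSLtwo F, orderOf x = 2 ∧ orderOf y = 2 ∧ x ≠ y ∧ ¬ Odd (orderOf (x * y)) := by
  classical
  have h0 : (2 : F) = 0 := by simpa using CharP.cast_eq_zero F 2
  obtain ⟨d, hd0, hd1⟩ : ∃ d : F, d ≠ 0 ∧ d ≠ 1 := by
    obtain ⟨d, -, hd⟩ := exists_mem_notMem_of_card_lt_card
      (s := ({0, 1} : Finset F)) (t := univ) (by
        rw [card_univ]; exact lt_of_le_of_lt card_le_two (by omega))
    exact ⟨d, fun e => hd (by simp [e]), fun e => hd (by simp [e])⟩
  have hne : (1 : F) + d ≠ 0 := fun e => hd1 (by linear_combination e - h0)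
  refine ⟨proj (upper 1), proj (upper d), orderOf_proj_upper one_ne_zero,
    orderOf_proj_upper hd0, ?_, ?_⟩
  · intro e
    have h1 : proj (upper 1 * upper d) = 1 := by
      rw [map_mul, ← e, ← sq]
      have h' := pow_orderOf_eq_one (proj (upper (1 : F)))
      rwa [orderOf_proj_upper (one_ne_zero (α := F))] at h' 
    rw [upper_mul] at h1
    have := orderOf_proj_upper hne
    rw [h1, orderOf_one] at this
    omega
  · rw [← map_mul, upper_mul, orderOf_proj_upper hne]
    decide

end OddProductGraph

end Cfsg.Agent.Lib.SL2
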