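import Cfsg.Agent.Lib.SL2.PGLMax

/-!
# The case list for maximal subgroups of `PGL₂(q)`, `q` odd
-/

set_option autoImplicit false

namespace Cfsg.Agent.Lib.SL2

open Matrix

lemma a4_klein :
    (∀ x y : alternatingGroup (Fin 4), x * x = 1 → y * y = 1 → (x * y) * (x * y) = 1) ∧
    Nat.card {x : alternatingGroup (Fin 4) // x * x = 1} = 4 ∧
    (∀ σ : Equiv.Perm (Fin 4), (∀ a : alternatingGroup (Fin 4), σ * (a : Equiv.Perm (Fin 4)) * σ⁻¹ = a) → σ = 1) := by
  refine ⟨by decide +kernel, ?_, by decide +kernel⟩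
  rw [Nat.card_eq_fintype_card]
  decide +kernel

/-- The involutions of a copy of `A₄` and the identity. -/
def kleinOfA4 {G : Type*} [Group G] {H : Subgroup G} (e : H ≃* alternatingGroup (Fin 4)) : Subgroup G :=
  ({ carrier := {z : H | z * z = 1}
     one_mem' := one_mul 1
     mul_mem' := fun {x y} hx hy => e.injective (by
       simp only [map_mul, map_one]
       exact a4_klein.1 (e x) (e y) (by rw [← map_mul, hx, map_one]) (by rw [← map_mul, hy, map_one]))
     inv_mem' := fun {x} hx => by
       show x⁻¹ * x⁻¹ = 1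
       rw [← _root_.mul_inv_rev, hx, inv_one] } : Subgroup H).map H.subtype

lemma mem_kleinOfA4 {G : Type*} [Group G] {H : Subgroup G} {e : H ≃* alternatingGroup (Fin 4)}
    {z : G} : z ∈ kleinOfA4 e ↔ z ∈ H ∧ z * z = 1 := by
  constructor
  · rintro ⟨⟨w, hw⟩, h, rfl⟩
    exact ⟨hw, congrArg Subtype.val h⟩
  · rintro ⟨hz, h⟩
    exact ⟨⟨z, hz⟩, Subtype.ext h, rfl⟩

lemma isKleinFour_kleinOfA4 {G : Type*} [Group G] [Finite G] {H : Subgroup G}
    (e : H ≃* alternatingGroup (Fin 4)) : IsKleinFour (kleinOfA4 e) := by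
  have hsq : ∀ a : kleinOfA4 e, a * a = 1 := fun a => Subtype.ext (mem_kleinOfA4.1 a.2).2
  have hc : Nat.card (kleinOfA4 e) = 4 := by
    rw [← a4_klein.2.1]
    refine Nat.card_congr
      { toFun := fun a => ⟨e ⟨a, (mem_kleinOfA4.1 a.2).1⟩, by
          rw [← map_mul, ← map_one e]; exact congrArg e (Subtype.ext (mem_kleinOfA4.1 a.2).2)⟩
        invFun := fun b => ⟨(e.symm b.1 : H), mem_kleinOfA4.2 ⟨(e.symm b.1).2, by
          have h : e.symm b.1 * e.symm b.1 = 1 := by rw [← map_mul, b.2, map_one]
          exact congrArg Subtype.val h⟩⟩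
        left_inv := fun a => Subtype.ext (by simp)
        right_inv := fun b => Subtype.ext (by simp) }
  refine ⟨hc, ?_⟩
  rcases (Nat.dvd_prime Nat.prime_two).1 (Monoid.exponent_dvd_of_forall_pow_eq_one
    fun a : kleinOfA4 e => by rw [sq]; exact hsq a) with h | h
  · exfalso
    have := Monoid.exp_eq_one_iff.1 h
    have h1 : Nat.card (kleinOfA4 e) = 1 := Nat.card_unique
    omega
  · exact h

variable {F : Type*} [Field F] [Fintype F]

/-- The automorphism of `M ∩ PSL₂` induced by an element of `M`. -/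
noncomputable def actEquiv (M : Subgroup (PGLtwo F)) (δ : PGLtwo F) (hδ : δ ∈ M) :
    MulAut (M.comap toP : Subgroup (PSLtwo F)) :=
  MulEquiv.mk'
    { toFun := fun x => ⟨pglAct δ (x : PSLtwo F), pglAct_mem_comap hδ x.2⟩
      invFun := fun x => ⟨pglAct δ⁻¹ (x : PSLtwo F), pglAct_mem_comap (M.inv_mem hδ) x.2⟩
      left_inv := fun x => Subtype.ext (toP_injective (by
        show toP (pglAct δ⁻¹ (pglAct δ (x : PSLtwo F))) = _
        rw [toP_pglAct, toP_pglAct]; group))
      right_inv := fun x => Subtype.ext (toP_injective (by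
        show toP (pglAct δ (pglAct δ⁻¹ (x : PSLtwo F))) = _
        rw [toP_pglAct, toP_pglAct]; group)) }
    (fun x y => Subtype.ext (map_mul (pglAct δ) (x : PSLtwo F) (y : PSLtwo F)))

lemma actEquiv_apply (M : Subgroup (PGLtwo F)) (δ : PGLtwo F) (hδ : δ ∈ M)
    (x : (M.comap toP : Subgroup (PSLtwo F))) :
    ((actEquiv M δ hδ x : (M.comap toP : Subgroup (PSLtwo F))) : PSLtwo F) =
      pglAct δ (x : PSLtwo F) := rfl

/-- `M` acts on `M ∩ PSL₂`. -/
noncomputable def actH (M : Subgroup (PGLtwo F)) :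
    M →* MulAut (M.comap toP : Subgroup (PSLtwo F)) where
  toFun δ := actEquiv M (δ : PGLtwo F) δ.2
  map_one' := MulEquiv.ext fun x => Subtype.ext (toP_injective (by
    rw [actEquiv_apply, toP_pglAct, OneMemClass.coe_one, one_mul, inv_one, mul_one]; rfl))
  map_mul' δ ε := MulEquiv.ext fun x => Subtype.ext (pglAct_mul (δ : PGLtwo F) (ε : PGLtwo F) (x : PSLtwo F))

section

variable {M : Subgroup (PGLtwo F)} (hodd : Odd (Fintype.card F)) (h3 : 3 < Fintype.card F)
  (hM : IsCoatom M) (hML : ¬ (toP (F := F)).range ≤ M)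

include hodd in
lemma actH_injective {G : Type*} [Group G] (e : M.comap toP ≃* G)
    (hG : ∃ a b : G, a ^ 3 = 1 ∧ b ^ 3 = 1 ∧ a * b ≠ b * a) : Function.Injective (actH M) := by
  obtain ⟨a, b, ha, hb, hab⟩ := hG
  rw [injective_iff_map_eq_one]
  intro δ hδ
  have hfix : ∀ z : M.comap toP, pglAct (δ : PGLtwo F) z = z := fun z =>
    congrArg (fun f : MulAut (M.comap toP) => ((f z : M.comap toP) : PSLtwo F)) hδ
  refine Subtype.ext (eq_one_of_fix (two_ne_zero_iff_odd.2 hodd) (δ := (δ : PGLtwo F))
    (a := (e.symm a : M.comap toP)) (b := (e.symm b : M.comap toP)) ?_ ?_ ?_ (hfix _) (hfix _))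
  · rw [← Subgroup.coe_pow, ← map_pow, ha, map_one]; rfl
  · rw [← Subgroup.coe_pow, ← map_pow, hb, map_one]; rfl
  · rw [← Subgroup.coe_mul, ← Subgroup.coe_mul, ← map_mul, ← map_mul]
    exact fun h => hab (e.symm.injective (Subtype.ext h))

include hodd hM hML in
lemma card_le_mulAut {G : Type*} [Group G] [Finite G] (e : M.comap toP ≃* G)
    (hG : ∃ a b : G, a ^ 3 = 1 ∧ b ^ 3 = 1 ∧ a * b ≠ b * a) :
    2 * Nat.card G ≤ Nat.card (MulAut G) := by
  have : Finite (MulAut G) := Finite.of_injective (fun φ : MulAut G => (φ : G → G)) DFunLike.coe_injective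
  rw [← Nat.card_congr e.toEquiv, ← card_coatom_PGL hodd hM hML]
  exact Nat.card_le_card_of_injective (fun δ => MulAut.congr e (actH M δ))
    ((MulAut.congr e).injective.comp (actH_injective hodd e hG))

include hodd in
/-- The `A₄` case: `M ≅ S₄`. -/
lemma iso_S4 (e : M.comap toP ≃* alternatingGroup (Fin 4)) (hc : Nat.card M = 24) :
    Nonempty (M ≃* Equiv.Perm (Fin 4)) := by
  have : Finite (MulAut (alternatingGroup (Fin 4))) :=
    Finite.of_injective (fun φ : MulAut (alternatingGroup (Fin 4)) =>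
      (φ : alternatingGroup (Fin 4) → alternatingGroup (Fin 4))) DFunLike.coe_injective
  let f : M →* MulAut (alternatingGroup (Fin 4)) := (MulAut.congr e).toMonoidHom.comp (actH M)
  have hf : Function.Injective f :=
    (MulAut.congr e).injective.comp (actH_injective hodd e order_three_pairs.1)
  let g : Equiv.Perm (Fin 4) →* MulAut (alternatingGroup (Fin 4)) := MulAut.conjNormal
  have hg : Function.Injective g := by
    rw [injective_iff_map_eq_one]
    refine fun σ hσ => a4_klein.2.2 σ fun a => ?_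
    rw [← MulAut.conjNormal_apply]
    exact congrArg (fun φ : MulAut (alternatingGroup (Fin 4)) =>
      ((φ a : alternatingGroup (Fin 4)) : Equiv.Perm (Fin 4))) hσ
  have h24 := card_mulAut_A4
  have h1 := Nat.card_le_card_of_injective g hg
  rw [natCard_S4] at h1
  exact ⟨(MulEquiv.ofBijective f ((Nat.bijective_iff_injective_and_card f).2 ⟨hf, by omega⟩)).trans
    (MulEquiv.ofBijective g ((Nat.bijective_iff_injective_and_card g).2
      ⟨hg, by rw [natCard_S4]; omega⟩)).symm⟩

/-- The conclusion for subfield type. -/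
def IsPglType (M : Subgroup (PGLtwo F)) : Prop :=
  ∃ (K : Subfield F) (r : ℕ), r.Prime ∧ Odd r ∧ Nat.card K ^ r = Fintype.card F ∧
    3 ≤ Nat.card K ∧ Nonempty (M ≃* PGLtwo K) ∧
      ∃ δ, (M.comap toP).map toP = (slMap K).range.map (MulAut.conj δ).toMonoidHom

include hodd hM hML in
/-- `M` inside a subfield group. -/
lemma pglType_of_le {K : Subfield F} {r : ℕ} (hK : Nat.card K ^ r = Fintype.card F) (hr : 2 ≤ r)
    {δ : PGLtwo F} (hle : M ≤ (glMap K).range.map (MulAut.conj δ).toMonoidHom) : IsPglType M := by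
  classical
  have hRn : (toP (F := F)).range.Normal := toPGL_range_normal
  have hk2 : 2 ≤ Nat.card K := Finite.one_lt_card
  have hko : Odd (Nat.card K) := (Nat.odd_pow_iff (by omega)).1 (hK.symm ▸ hodd)
  have hk3 : 3 ≤ Nat.card K := by obtain ⟨t, ht⟩ := hko; omega
  have hlt : ∀ (L : Subfield F) (m : ℕ), 2 ≤ m → Nat.card L ^ m = Fintype.card F →
      (glMap L).range.map (MulAut.conj δ).toMonoidHom ≠ ⊤ := fun L m hm hL e => by
    have h1 := card_glMap_lt hm hL
    rw [← Subgroup.card_map_of_injective (f := (MulAut.conj δ).toMonoidHom) (MulEquiv.injective _), e,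
      Subgroup.card_top] at h1
    have h2 := Nat.card_le_card_of_injective _ (toP_injective (F := F))
    omega
  have eqM : ∀ (L : Subfield F) (m : ℕ), 2 ≤ m → Nat.card L ^ m = Fintype.card F →
      M ≤ (glMap L).range.map (MulAut.conj δ).toMonoidHom →
      M = (glMap L).range.map (MulAut.conj δ).toMonoidHom := fun L m hm hL h => by
    rcases h.lt_or_eq with h' | h'
    · exact absurd (hM.2 _ h') (hlt L m hm hL)
    · exact h'
  have hMeq := eqM K r hr hK hle
  have hrodd : Odd r := by
    by_contra hre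
    rw [Nat.not_odd_iff_even] at hre
    obtain ⟨j, hj⟩ := hre
    obtain ⟨y, hy, hyR⟩ := exists_mem_outside hodd hM hML
    refine hyR (map_conj_le_range (glMap_range_le K (isSquare_of_even_degree K (j := j) ?_)) δ (hle hy))
    rw [← Nat.card_eq_fintype_card (α := K), two_mul, ← hj, hK]
  have hrp : r.Prime := by
    by_contra hnp
    obtain ⟨r₁, hr₁, hr₁2, hr₁lt⟩ := Nat.exists_dvd_of_not_prime2 hr hnp
    obtain ⟨L, hKL, hL⟩ := exists_subfield_between K hK hr₁ (by omega)
    obtain ⟨j, hj⟩ := hr₁
    have hj2 : 2 ≤ j := by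
      by_contra hh
      rcases (show j = 0 ∨ j = 1 by omega) with rfl | rfl <;> omega
    have hLq : Nat.card L ^ j = Fintype.card F := by rw [hL, ← pow_mul, ← hj, hK]
    have hML' := eqM L j hj2 hLq (hle.trans (Subgroup.map_mono (glMap_mono hKL)))
    have hc : Nat.card (glMap K).range = Nat.card (glMap L).range := by
      rw [← Subgroup.card_map_of_injective (K := (glMap K).range) (f := (MulAut.conj δ).toMonoidHom)
        (MulEquiv.injective _), ← hMeq, hML', Subgroup.card_map_of_injective (MulEquiv.injective _)]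
    rw [card_glMap_range', card_glMap_range', hL] at hc
    have := group_order_lt hk2 (l := Nat.card K ^ r₁)
      (by rw [← sq]; exact Nat.pow_le_pow_right (by omega) hr₁2)
    have := Nat.div_le_self (Nat.card K ^ r₁ * ((Nat.card K ^ r₁) ^ 2 - 1))
      (Nat.gcd 2 (Nat.card K ^ r₁ - 1))
    omega
  have hcM : Nat.card M = Nat.card (glMap K).range := by
    rw [hMeq, Subgroup.card_map_of_injective (MulEquiv.injective _)]
  refine ⟨K, r, hrp, hrodd, hK, hk3,
    ⟨(MulEquiv.subgroupCongr hMeq).trans ((Subgroup.equivMapOfInjective _ _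
      (MulEquiv.injective _)).symm.trans (rangeGlMapEquiv K))⟩, δ, ?_⟩
  refine (Subgroup.eq_of_le_of_card_ge ?_ ?_).symm
  · rw [Subgroup.map_comap_eq]
    refine le_inf (map_conj_le_range (slMap_range_le K) δ) ?_
    rw [hMeq]
    exact Subgroup.map_mono (slMap_le_glMap K)
  · rw [Subgroup.card_map_of_injective toP_injective, Subgroup.card_map_of_injective (MulEquiv.injective _),
      card_slMap_range]
    have h := card_coatom_PGL hodd hM hML
    rw [hcM, card_glMap_range'] at h
    rw [Nat.gcd_eq_left (by obtain ⟨t, ht⟩ := hko; omega), h]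
    omega

include hodd hM hML in
/-- `M ∩ PSL₂` between `PSL₂(K)` and `PGL₂(K)`. -/
lemma pglType_of_sandwich {K : Subfield F} {r : ℕ} (hK : Nat.card K ^ r = Fintype.card F) (hr : 2 ≤ r)
    {δ : PGLtwo F} (hlo : (slMap K).range.map (MulAut.conj δ).toMonoidHom ≤ (M.comap toP).map toP)
    (hhi : (M.comap toP).map toP ≤ (glMap K).range.map (MulAut.conj δ).toMonoidHom) : IsPglType M := by
  have h2 : (2 : F) ≠ 0 := two_ne_zero_iff_odd.2 hodd
  refine pglType_of_le hodd hM hML hK hr (δ := δ) fun y hy => ?_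
  refine ⟨δ⁻¹ * y * δ, mem_glMap_of_slMap h2 fun z hz => ?_,
    by show δ * (δ⁻¹ * y * δ) * δ⁻¹ = y; group⟩
  obtain ⟨x, hx, hxz⟩ := hlo ⟨z, hz, rfl⟩
  obtain ⟨w, hw, hwe⟩ := hhi ⟨_, pglAct_mem_comap hy hx, rfl⟩
  change δ * w * δ⁻¹ = toP (pglAct y x) at hwe
  rw [toP_pglAct] at hwe
  change toP x = δ * z * δ⁻¹ at hxz
  rw [hxz] at hwe
  have : δ⁻¹ * y * δ * z * (δ⁻¹ * y * δ)⁻¹ = w := by
    calc δ⁻¹ * y * δ * z * (δ⁻¹ * y * δ)⁻¹ = δ⁻¹ * (y * (δ * z * δ⁻¹) * y⁻¹) * δ := by group
      _ = δ⁻¹ * (δ * w * δ⁻¹) * δ := by rw [hwe]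
      _ = w := by group
  rw [this]; exact hw

include hodd h3 hM hML in
/-- The case list. -/
theorem pgl_max_cases :
    (∃ x, IsUnip x ∧ x ≠ 1 ∧
      M.comap toP = Subgroup.normalizer ((torus x : Subgroup (PSLtwo F)) : Set (PSLtwo F))) ∨
    (∃ x τ, IsSemi x ∧ Nat.card (torus x) = τ ∧ 3 ≤ τ ∧
      M.comap toP = Subgroup.normalizer ((torus x : Subgroup (PSLtwo F)) : Set (PSLtwo F)) ∧
      Nonempty (M ≃* DihedralGroup (2 * τ))) ∨
    ((Fintype.card F).Prime ∧ (Fintype.card F % 8 = 3 ∨ Fintype.card F % 8 = 5) ∧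
      Nonempty (M.comap toP ≃* alternatingGroup (Fin 4)) ∧ Nonempty (M ≃* Equiv.Perm (Fin 4))) ∨
    IsPglType M := by
  classical
  obtain ⟨p, hp, hpc⟩ : ∃ p, p.Prime ∧ CharP F p :=
    ⟨ringChar F, CharP.char_is_prime F _, ringChar.charP F⟩
  have : Fact p.Prime := ⟨hp⟩
  obtain ⟨n, -, hn⟩ := FiniteField.card F p
  have h2 : (2 : F) ≠ 0 := two_ne_zero_iff_odd.2 hodd
  have hcM := card_coatom_PGL hodd hM hML
  have hG2 := card_PSLtwo_odd (F := F) hodd
  set H := M.comap toP with hHdef
  have hHfix : ∀ δ ∈ M, ∀ x ∈ H, pglAct δ x ∈ H := fun δ hδ x hx => pglAct_mem_comap hδ hx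
  have hHtop : H ≠ ⊤ := fun e => hML (by
    rintro _ ⟨x, rfl⟩
    exact (e.ge (Subgroup.mem_top x) : x ∈ H))
  have hklein : ¬ IsKleinFour H := fun hV => by
    obtain ⟨hne, h12⟩ := normalizer_klein hodd h3 hV
    have e := eq_normalizer_of_invariant hM hHfix hne
    rw [← e, hV.card_four] at h12
    omega
  rcases dickson_cases H with h | ⟨A, hA, hN⟩ | ⟨A, hA, hN⟩ | ⟨hc, A, hA, ha⟩ | ⟨hc, A, hA, ha⟩ |
    ⟨A, t, hA, hP, -, hN, ht, hH, -⟩
  · -- trivial intersection
    exfalso
    rw [h, Subgroup.card_bot, mul_one] at hcM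
    have : Fact (Nat.Prime 2) := ⟨Nat.prime_two⟩
    obtain ⟨S, hS⟩ := (IsPGroup.of_card (p := 2) (n := 1) (by rw [hcM]; rfl) : IsPGroup 2 M).exists_le_sylow
    have h4 : 4 ∣ Nat.card (PGLtwo F) := by
      rw [card_PGLtwo]
      obtain ⟨t, ht⟩ := hodd
      rw [ht, show (2 * t + 1) ^ 2 - 1 = 4 * (t * t + t) from Nat.sub_eq_of_eq_add (by ring)]
      exact Dvd.dvd.mul_left (dvd_mul_right _ _) _
    rw [← (S : Subgroup (PGLtwo F)).index_mul_card] at h4
    have hS4 : 4 ∣ Nat.card S :=
      (((Nat.prime_two.coprime_iff_not_dvd).2 S.not_dvd_index).pow_left 2).dvd_of_dvd_mul_left h4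
    rcases hS.lt_or_eq with hlt | heq
    · have htop := hM.2 _ hlt
      obtain ⟨j, hj⟩ := IsPGroup.iff_card.1 S.2
      rw [htop, Subgroup.card_top, card_PGLtwo] at hj
      have hdq : Fintype.card F ∣ 2 ^ j := hj ▸ dvd_mul_right _ _
      have hcop : (Fintype.card F).Coprime (2 ^ j) :=
        (Nat.coprime_two_right.2 hodd).pow_right _
      have := Nat.eq_one_of_dvd_coprimes hcop dvd_rfl hdq
      omega
    · rw [show Nat.card S = Nat.card M from heq ▸ rfl, hcM] at hS4
      norm_num at hS4
  · -- a semisimple member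
    by_cases hex : ∃ y ∈ H, y * y ≠ 1
    · obtain ⟨y, hy, hy2⟩ := hex
      have hout : ∀ z ∈ H, z * z ≠ 1 → z ∈ A := by
        intro z hz hz2
        by_contra hzA
        rcases hA.normIn_cases with h | ⟨-, h⟩
        · exact hzA (h ▸ hN.symm ▸ hz)
        · exact hz2 (h z (hN.symm ▸ hz) hzA).1
      have hy1 : y ≠ 1 := fun e => hy2 (by rw [e, one_mul])
      have hyA := hout y hy hy2
      have hs := hA.2 y hyA hy1
      have hAy := hA.1.eq_of_mem hyA hy1
      obtain ⟨hH', hiso⟩ := dihedral_route hodd h3 hM hML hs fun δ hδ => by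
        have := hout _ (hHfix δ hδ y hy) (fun e => hy2 ((pglAct δ).injective (by
          rw [map_mul, e, map_one])))
        rw [hAy] at this
        exact (Subgroup.mem_inf.1 this).1
      have hτ : 3 ≤ Nat.card (torus y) := by
        have hle : orderOf y ≤ Nat.card (torus y) :=
          Nat.le_of_dvd Nat.card_pos (Subgroup.orderOf_mk y (mem_torus_self y) ▸ orderOf_dvd_natCard _)
        by_contra hlt
        refine hy2 ?_
        have ho : orderOf y ∣ 2 := by
          have : orderOf y = 1 ∨ orderOf y = 2 := by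
            have := orderOf_pos y
            omega
          rcases this with e | e <;> rw [e] <;> norm_num
        rw [← sq]
        exact orderOf_dvd_iff_pow_eq_one.1 ho
      exact Or.inr (Or.inl ⟨y, _, hs, rfl, hτ, hH', hiso hτ⟩)
    · exfalso
      push Not at hex
      have hA2 : Nat.card A = 2 := by
        have := hA.isCyclic
        obtain ⟨g, hg⟩ := IsCyclic.exists_generator (α := A)
        have := hA.1.two_le_card
        rw [← orderOf_eq_card_of_forall_mem_zpowers hg] at this ⊢
        have := orderOf_le_of_pow_eq_one (x := g) two_pos (by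
          rw [sq]; exact Subtype.ext (hex g (hA.1.le g.2)))
        omega
      rcases hA.normIn_cases with h | ⟨h, -⟩
      · obtain ⟨x, hx, hx1⟩ := hA.1.exists_ne_one
        have hs := hA.2 x hx hx1
        have hAH : H = A := hN.symm.trans h
        obtain ⟨hH', -⟩ := dihedral_route hodd h3 hM hML hs fun δ hδ => by
          have := hHfix δ hδ x (hA.1.le hx)
          rw [hAH, hA.1.eq_of_mem hx hx1] at this
          exact (Subgroup.mem_inf.1 this).1
        have hc := normalizer_torus_card hs
        have hc2 := two_le_card_torus hs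
        rw [← hH', ← hHdef, hAH, hA2] at hc
        omega
      · rw [hN, hA2] at h
        refine hklein ⟨h, ?_⟩
        rcases (Nat.dvd_prime Nat.prime_two).1 (Monoid.exponent_dvd_of_forall_pow_eq_one
          fun a : H => by rw [sq]; exact Subtype.ext (hex a a.2)) with z | z
        · exfalso
          have := Monoid.exp_eq_one_iff.1 z
          have h1 : Nat.card H = 1 := Nat.card_unique
          omega
        · exact z
  · -- a unipotent member
    left
    obtain ⟨x, hx, hx1⟩ := hA.1.exists_ne_one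
    have hxu := hA.2 x hx
    refine ⟨x, hxu, hx1, eq_normalizer_of_invariant hM (fun δ hδ y hy => ?_) ?_⟩
    · have hne : pglAct δ x ≠ 1 := fun e => hx1 ((pglAct δ).injective (by rw [e, map_one]))
      have hmem : pglAct δ x ∈ torus x := by
        have hin := hHfix δ hδ x (hA.1.le hx)
        refine mem_torus_of_mem_normalizer p hxu hx1 ((mem_normalizer_torus_iff hx1).2
          ((mem_normIn_iff hA.1 hx hx1).1 (hN.symm ▸ hin)).2) ?_
        exact orderOf_dvd_iff_pow_eq_one.1 (orderOf_dvd_of_unip p (isUnip_pglAct hxu δ))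
      rw [← torus_eq_of_mem hx1 hmem hne]
      exact pglAct_mem_torus hy δ
    · intro e
      have hc := card_normalizer_torus_unip hxu hx1
      rw [e, Subgroup.card_top] at hc
      have hi := Subgroup.index_mul_card (borelPSL (F := F))
      rw [index_borelPSL, ← hc] at hi
      have hpos : 0 < Nat.card (PSLtwo F) := Nat.card_pos
      nlinarith
  · -- `A₄` and `S₄`
    obtain ⟨y, hy, hyc⟩ := exists_gen_of_prime hA Nat.prime_three le_rfl ha
    rcases hc with hc | hc
    · obtain ⟨e⟩ := iso_alternating_four hy hyc hc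
      have hc24 : Nat.card M = 24 := by rw [hcM, hc]
      have hq8 : Fintype.card F % 8 = 3 ∨ Fintype.card F % 8 = 5 := by
        by_contra hbad
        have hq : Fintype.card F % 8 = 1 ∨ Fintype.card F % 8 = 7 := by
          have := Nat.odd_iff.1 hodd; omega
        obtain ⟨V₁, V₂, hV₁, hV₂, hne, -⟩ := (kleinFour_classes hodd).2 hq
        have hV : IsKleinFour (kleinOfA4 e) := isKleinFour_kleinOfA4 e
        obtain ⟨hNe, -⟩ := normalizer_klein hodd h3 hV
        have hHN := eq_normalizer_of_invariant hM (S := kleinOfA4 e) (fun δ hδ z hz => by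
          obtain ⟨hzH, hz2⟩ := mem_kleinOfA4.1 hz
          exact mem_kleinOfA4.2 ⟨hHfix δ hδ z hzH, by rw [← map_mul, hz2, map_one]⟩) hNe
        have hN12 : Nat.card (Subgroup.normalizer (kleinOfA4 e : Set (PSLtwo F))) = 12 := hHN ▸ hc
        have h1 := card_conj_subgroups (kleinOfA4 e)
        have h2' := card_kleinFour_mul hodd
        rw [hN12, ← h2', mul_comm 12] at h1
        have hcl := Nat.eq_of_mul_eq_mul_right (by norm_num) h1
        have conjK : ∀ g, IsKleinFour ((kleinOfA4 e).map (MulAut.conj g).toMonoidHom) := fun g => by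
          let i := Subgroup.equivMapOfInjective (kleinOfA4 e) (MulAut.conj g).toMonoidHom (MulEquiv.injective _)
          exact ⟨(Nat.card_congr i.toEquiv).symm.trans hV.card_four,
            (Monoid.exponent_eq_of_mulEquiv i).symm.trans hV.exponent_two⟩
        let f : {W : Subgroup (PSLtwo F) // ∃ g, W = (kleinOfA4 e).map (MulAut.conj g).toMonoidHom} →
            {W : Subgroup (PSLtwo F) // IsKleinFour W} := fun W =>
          ⟨W.1, by obtain ⟨g, hg⟩ := W.2; rw [hg]; exact conjK g⟩
        have hf : Function.Bijective f := (Nat.bijective_iff_injective_and_card f).2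
          ⟨fun a b h => Subtype.ext (congrArg Subtype.val h :), hcl⟩
        obtain ⟨⟨W₁, g₁, hg₁⟩, hW₁⟩ := hf.2 ⟨V₁, hV₁⟩
        obtain ⟨⟨W₂, g₂, hg₂⟩, hW₂⟩ := hf.2 ⟨V₂, hV₂⟩
        have e1 : W₁ = V₁ := congrArg Subtype.val hW₁
        have e2 : W₂ = V₂ := congrArg Subtype.val hW₂
        refine hne ⟨g₂ * g₁⁻¹, ?_⟩
        rw [← e1, ← e2, hg₁, hg₂, Subgroup.map_map]
        congr 1; ext z; simp [mul_assoc]
      by_cases hprime : (Fintype.card F).Prime
      · exact Or.inr (Or.inr (Or.inl ⟨hprime, hq8, ⟨e⟩, iso_S4 hodd e hc24⟩))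
      · refine Or.inr (Or.inr (Or.inr ?_))
        obtain ⟨L, _, hL⟩ := exists_prime_subfield p hn
        have hn2 : 2 ≤ (n : ℕ) := by
          by_contra hlt
          have : (n : ℕ) = 1 := by have := n.pos; omega
          exact hprime (by rw [hn, this, pow_one]; exact hp)
        obtain ⟨δ, hδ⟩ := (A4_conj h2).2 H ⟨e⟩ L
        refine pglType_of_le hodd hM hML (K := L) (r := n)
          (by rw [Nat.card_eq_fintype_card, hL, hn]) hn2 (δ := δ) fun z hz => ?_
        let H0 := H.map (pglAct δ⁻¹).toMonoidHom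
        let i : H0 ≃* alternatingGroup (Fin 4) :=
          (Subgroup.equivMapOfInjective H _ (pglAct δ⁻¹).injective).symm.trans e
        refine ⟨δ⁻¹ * z * δ, mem_glMap_of_A4 h2 i ?_ ?_, by
          show δ * (δ⁻¹ * z * δ) * δ⁻¹ = z; group⟩
        · rintro _ ⟨_, ⟨x, hx, rfl⟩, rfl⟩
          obtain ⟨w, hw, hwe⟩ := hδ ⟨x, hx, rfl⟩
          change δ * w * δ⁻¹ = toP x at hwe
          show toP (pglAct δ⁻¹ x) ∈ _
          rw [toP_pglAct, ← hwe]
          simpa [mul_assoc] using hw
        · rintro _ ⟨x, hx, rfl⟩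
          refine ⟨pglAct z x, hHfix z hz x hx, toP_injective ?_⟩
          show toP (pglAct δ⁻¹ _) = toP (pglAct _ (pglAct δ⁻¹ x))
          rw [toP_pglAct, toP_pglAct, toP_pglAct, toP_pglAct]
          group
    · exfalso
      obtain ⟨e⟩ := iso_perm_four hy hyc hc
      have := card_le_mulAut hodd hM hML e order_three_pairs.2.1
      have := card_mulAut_S4
      rw [natCard_S4] at *
      omega
  · -- `A₅`
    obtain ⟨y, hy, hyc⟩ := exists_gen_of_prime hA (by norm_num : Nat.Prime 5) (by norm_num) ha
    obtain ⟨e⟩ := iso_alternating_five hy hyc hc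
    by_cases hp5 : p = 5
    · refine Or.inr (Or.inr (Or.inr ?_))
      subst hp5
      obtain ⟨L, _, hL⟩ := exists_prime_subfield 5 hn
      have hn2 : 2 ≤ (n : ℕ) := by
        by_contra hlt
        have h1 : (n : ℕ) = 1 := by have := n.pos; omega
        refine hHtop (Subgroup.eq_top_of_le_card _ ?_)
        rw [hn, h1] at hG2
        norm_num [-Nat.card_eq_fintype_card] at hG2
        rw [hc]; omega
      have h5 : IsSquare (5 : L) := by
        have : CharP L 5 := by
          obtain ⟨q', hq'⟩ := CharP.exists L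
          obtain ⟨m, hmq, hm⟩ := FiniteField.card L q'
          have hd : q' ∣ 5 := by rw [← hL, hm]; exact dvd_pow_self _ m.ne_zero
          rwa [(Nat.prime_dvd_prime_iff_eq hmq hp).1 hd] at hq'
        rw [show (5 : L) = 0 from CharP.cast_eq_zero L 5]
        exact IsSquare.zero
      obtain ⟨δ, hδ⟩ := A5_conj e h2 L h5
      have heq : H.map toP = (slMap L).range.map (MulAut.conj δ).toMonoidHom :=
        Subgroup.eq_of_le_of_card_ge hδ (by
          rw [Subgroup.card_map_of_injective toP_injective,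
            Subgroup.card_map_of_injective (MulEquiv.injective _), card_slMap_range,
            Nat.card_eq_fintype_card, hL, hc]
          norm_num)
      exact pglType_of_sandwich hodd hM hML (K := L) (r := n)
        (by rw [Nat.card_eq_fintype_card, hL, hn]) hn2 heq.ge
        (heq.le.trans (Subgroup.map_mono (slMap_le_glMap L)))
    · exfalso
      obtain ⟨δ, hδ, hδR⟩ := exists_mem_outside hodd hM hML
      set φ : MulAut (alternatingGroup (Fin 5)) := MulAut.congr e (actH M ⟨δ, hδ⟩) with hφ
      set c : alternatingGroup (Fin 5) := a5fst * a5snd with hcdef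
      obtain ⟨-, -, -, -, hc5, hc1, -⟩ := a5_pair.2
      have hφc : ∀ z, φ z = e (⟨pglAct δ (e.symm z : H), hHfix δ hδ _ (e.symm z).2⟩ : H) := fun z => rfl
      have hclass : ∃ w, φ c = w * c * w⁻¹ := by
        obtain ⟨w, hw | hw⟩ := a5_five_classes (φ c) (by rw [← map_pow, hc5, map_one])
          (fun h => hc1 (φ.injective (h.trans (map_one φ).symm)))
        · exact ⟨w, hw⟩
        exfalso
        obtain ⟨u, hu⟩ := proj_surjective ((e.symm c : H) : PSLtwo F)
        obtain ⟨v, hv⟩ := proj_surjective ((e.symm w : H) : PSLtwo F)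
        obtain ⟨D, rfl⟩ := Matrix.ProjGenLinGroup.mk_surjective δ
        have hact : proj (slConj D u) = proj (v * (u * u) * v⁻¹) := by
          rw [map_mul, map_mul, map_mul, map_inv, hu, hv, ← pglAct_mk, hu]
          have h := congrArg e.symm hw
          rw [hφc, MulEquiv.symm_apply_apply, map_mul e.symm (w * (c * c)) w⁻¹, map_mul e.symm w (c * c),
            map_mul e.symm c c, map_inv] at h
          exact congrArg Subtype.val h
        have hu1 : proj u ≠ 1 := fun h => hc1 (e.symm.injective (Subtype.ext (by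
          rw [← hu, h, map_one]; rfl)))
        have hu5 : proj u ^ 5 = 1 := by
          rw [hu, ← Subgroup.coe_pow, ← map_pow, hc5, map_one]; rfl
        have hrel := (tr_of_pow hu1).2.2.2 hu5
        have hsq : tr (u * u) = tr u * tr u - 2 := by
          have hd := det_entries u
          simp only [tr, mul_00, mul_11]
          linear_combination -2 * hd
        have h5 : (5 : F) ≠ 0 := by
          intro h0
          have h0' : ((5 : ℕ) : F) = 0 := by exact_mod_cast h0
          exact hp5 ((Nat.prime_dvd_prime_iff_eq hp (by norm_num)).1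
            ((CharP.cast_eq_zero_iff F p 5).1 h0'))
        rcases proj_eq_proj_iff.1 hact with h | h <;>
          have h' := congrArg tr h <;>
          simp only [tr_neg, tr_conj, tr_slConj, hsq] at h' <;>
          rcases mul_eq_zero.1 hrel with hh | hh
        all_goals
          first
            | exact h5 (by linear_combination (2 * tr u + 1) * (hh - h') - 4 * hh)
            | exact h5 (by linear_combination (2 * tr u + 1) * (hh + h') - 4 * hh)
            | exact h5 (by linear_combination (2 * tr u - 1) * (h' - hh) - 4 * hh)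
            | exact h5 (by linear_combination (2 * tr u - 1) * (-h' - hh) - 4 * hh)
            | exact one_ne_zero (α := F) (by linear_combination h' - hh)
            | exact one_ne_zero (α := F) (by linear_combination hh - h')
            | exact one_ne_zero (α := F) (by linear_combination h' + hh)
            | exact one_ne_zero (α := F) (by linear_combination -h' - hh)
      obtain ⟨w, hw⟩ := a5_inner φ hclass
      have hmem : toP ((e.symm w : H) : PSLtwo F) ∈ M := (e.symm w).2
      have heq : (⟨δ, hδ⟩ : M) = ⟨toP ((e.symm w : H) : PSLtwo F), hmem⟩ := by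
        refine actH_injective hodd e order_three_pairs.2.2 ((MulAut.congr e).injective ?_)
        rw [← hφ, hw]
        refine MulEquiv.ext fun z => ?_
        show w * z * w⁻¹ = e (⟨pglAct (toP _) (e.symm z : H), _⟩ : H)
        apply e.symm.injective
        rw [MulEquiv.symm_apply_apply, map_mul, map_mul, map_inv]
        exact Subtype.ext (pglAct_toP _ _).symm
      exact hδR ⟨_, (congrArg Subtype.val heq).symm⟩
  · -- subfield
    refine Or.inr (Or.inr (Or.inr ?_))
    obtain ⟨K, δ, hK, h⟩ := subfield_case hA hP hN ht hH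
    have hKc : Nat.card K = Fintype.card K := Nat.card_eq_fintype_card
    have hm : Nat.card K ^ Module.finrank K F = Fintype.card F := by
      rw [hKc]; exact Module.card_eq_pow_finrank.symm
    obtain ⟨S, hS, hlo, hhi⟩ : ∃ S, H.map toP = S.map (MulAut.conj δ).toMonoidHom ∧
        (slMap K).range ≤ S ∧ S ≤ (glMap K).range := by
      rcases h with h | h
      · exact ⟨_, h.2, slMap_le_glMap K, le_rfl⟩
      · exact ⟨_, h.2, le_rfl, slMap_le_glMap K⟩
    have hm2 : 2 ≤ Module.finrank K F := by
      by_contra hlt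
      have h1 : Module.finrank K F = 1 := by
        have : 0 < Module.finrank K F := Module.finrank_pos
        omega
      rw [h1, pow_one] at hm
      refine hHtop (Subgroup.eq_top_of_le_card _ ?_)
      rw [← Subgroup.card_map_of_injective (K := H) toP_injective, hS,
        Subgroup.card_map_of_injective (MulEquiv.injective _)]
      refine le_trans ?_ (Subgroup.card_le_of_le hlo)
      rw [card_slMap_range, hm, card_PSL]
    exact pglType_of_sandwich hodd hM hML hm hm2 (hS.symm ▸ Subgroup.map_mono hlo)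
      (hS.symm ▸ Subgroup.map_mono hhi)

end

end Cfsg.Agent.Lib.SL2
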