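import Cfsg.Agent.Lib.SL2.PGLCases

/-!
# Maximality in `PSL₂(q)` of Borel subgroups and of `A₄`
-/

set_option autoImplicit false

namespace Cfsg.Agent.Lib.SL2

open Matrix

variable {F : Type*} [Field F] [Fintype F]

/-- The normaliser of a unipotent torus is maximal. -/
theorem isCoatom_normalizer_unip (h4 : 4 ≤ Fintype.card F) (hodd : Odd (Fintype.card F))
    (h7 : Fintype.card F ≠ 7) (h9 : Fintype.card F ≠ 9) (h11 : Fintype.card F ≠ 11)
    (p : ℕ) [Fact p.Prime] [CharP F p] {x : PSLtwo F} (hx : IsUnip x) (hx1 : x ≠ 1) :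
    IsCoatom (Subgroup.normalizer ((torus x : Subgroup (PSLtwo F)) : Set (PSLtwo F))) := by
  classical
  have hq := Nat.odd_iff.1 hodd
  have hg2 : Nat.gcd 2 (Fintype.card F - 1) = 2 := Nat.gcd_eq_left (by omega)
  set N := Subgroup.normalizer ((torus x : Subgroup (PSLtwo F)) : Set (PSLtwo F))
  have hN : 2 * Nat.card N = (Fintype.card F - 1) * Fintype.card F := by
    rw [card_normalizer_torus_unip hx hx1, ← card_borelPSL_mul, hg2, mul_comm]
  have hG := card_PSLtwo_odd (F := F) hodd
  have hA : 4 * Fintype.card F ≤ (Fintype.card F - 1) * Fintype.card F := Nat.mul_le_mul_right _ (by omega)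
  have hsq : Fintype.card F ^ 2 - 1 = (Fintype.card F - 1) * (Fintype.card F + 1) := by
    rw [mul_comm, ← Nat.sq_sub_sq, one_pow]
  have hG' : 2 * Nat.card (PSLtwo F) = 2 * Nat.card N * (Fintype.card F + 1) := by
    rw [hG, hN, hsq]; ring
  have hNpos : 0 < Nat.card N := Nat.card_pos
  refine isCoatom_of_card ?_ fun X hle hX => ?_
  · have : 2 * Nat.card N * 2 ≤ 2 * Nat.card N * (Fintype.card F + 1) := Nat.mul_le_mul_left _ (by omega)
    omega
  rcases proper_cases p hX with h | ⟨A, hA', -, hd⟩ | ⟨y, hy, hy1, h⟩ | hs | ⟨K, m, hK3, hm, hKm, hc⟩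
  · rw [h, Subgroup.card_bot]; exact hNpos
  · have h1 := card_dihedralOrCyclic_le hA' hd
    rw [hg2] at h1
    have h2 := Subgroup.card_le_of_le hle
    omega
  · exact le_trans (Subgroup.card_le_of_le h)
      (le_of_eq ((card_normalizer_torus_unip hy hy1).trans (card_normalizer_torus_unip hx hx1).symm))
  · have hd := Subgroup.card_dvd_of_le hle
    rcases (show Fintype.card F = 5 ∨ 13 ≤ Fintype.card F by omega) with z | z
    · rw [z] at hN hG
      norm_num [-Nat.card_eq_fintype_card] at hN hG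
      rw [show Nat.card N = 10 by omega] at hd ⊢
      rcases card_small hs with e | e | e <;> rw [e] at hd
      · omega
      · omega
      · exact absurd (Subgroup.eq_top_of_card_eq _ (by rw [e]; omega)) hX
    · have : 12 * 13 ≤ (Fintype.card F - 1) * Fintype.card F := Nat.mul_le_mul (by omega) (by omega)
      rcases card_small hs with e | e | e <;> omega
  · have hle' : Nat.card X ≤ Nat.card K * (Nat.card K ^ 2 - 1) := by
      rcases hc with e | e <;> rw [e]
      exact Nat.div_le_self _ _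
    set k := Nat.card K
    have hk2 : k * k ≤ Fintype.card F := by
      rw [← hKm, ← sq]; exact Nat.pow_le_pow_right (by omega) hm
    set q := Fintype.card F
    have h1 : (k * k - 1) * (k * k) ≤ (q - 1) * q := Nat.mul_le_mul (by omega) hk2
    have h2 : 2 * (k * (k ^ 2 - 1)) ≤ (k * k - 1) * (k * k) := by
      rw [sq, show (k * k - 1) * (k * k) = k * (k * k - 1) * k by ring, mul_comm 2]
      exact Nat.mul_le_mul_left _ (by omega)
    omega

/-- `A₄` is maximal in `PSL₂(p)`. -/
theorem isCoatom_A4 (hpr : (Fintype.card F).Prime) (h5 : 5 ≤ Fintype.card F)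
    (h8 : Fintype.card F % 8 = 3 ∨ Fintype.card F % 8 = 5)
    (h10 : Fintype.card F % 10 ≠ 1 ∧ Fintype.card F % 10 ≠ 9)
    {H : Subgroup (PSLtwo F)} (e : H ≃* alternatingGroup (Fin 4)) : IsCoatom H := by
  classical
  have hF : Fact (Fintype.card F).Prime := ⟨hpr⟩
  have hch : CharP F (Fintype.card F) := charP_of_prime_card
  obtain ⟨a, b, hab⟩ := A4_pairs.1
  obtain ⟨c, d, hcd⟩ := A4_pairs.2
  obtain ⟨hdih, hbor⟩ := pairs_of_iso e hab Nat.prime_two (by omega) hpr hcd
  have hc : Nat.card H = 12 := (Nat.card_congr e.toEquiv).trans natCard_A4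
  have hG : Nat.card (PSLtwo F) * Nat.gcd 2 (Fintype.card F - 1) = _ := card_PSL_mul (F := F)
  rw [Nat.gcd_eq_left (by omega)] at hG
  refine isCoatom_of_card ?_ fun M hle hM => ?_
  · have h2 : 24 ≤ Fintype.card F ^ 2 - 1 := by
      have : 5 ^ 2 ≤ Fintype.card F ^ 2 := Nat.pow_le_pow_left h5 2
      omega
    have h3 := Nat.mul_le_mul h5 h2
    omega
  rw [hc]
  rcases smallOrSubfield_of_comm (Fintype.card F) hle hM hdih hbor with h | ⟨K1, m, -, hm, hm', -⟩
  · have hd := Subgroup.card_subgroup_dvd_card M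
    rcases card_small h with e' | e' | e' <;> rw [e'] at hd ⊢ <;> exfalso
    · obtain ⟨c, hc'⟩ := hd
      obtain ⟨t, r, hr, ht⟩ : ∃ t r, (r = 3 ∨ r = 5) ∧ Fintype.card F = 8 * t + r :=
        ⟨Fintype.card F / 8, Fintype.card F % 8, h8, (Nat.div_add_mod _ _).symm⟩
      rw [hc', ht] at hG
      rcases hr with rfl | rfl
      · rw [show (8 * t + 3) ^ 2 - 1 = 8 * (8 * t * t + 6 * t + 1) from
          Nat.sub_eq_of_eq_add (by ring)] at hG
        ring_nf at hG
        omega
      · rw [show (8 * t + 5) ^ 2 - 1 = 8 * (8 * t * t + 10 * t + 3) from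
          Nat.sub_eq_of_eq_add (by ring)] at hG
        ring_nf at hG
        omega
    · rcases Nat.lt_or_ge (Fintype.card F) 6 with hlt | hge
      · refine hM (Subgroup.eq_top_of_card_eq _ ?_)
        have : Fintype.card F = 5 := by omega
        rw [this] at hG
        show Nat.card M = Nat.card (PSLtwo F)
        rw [e']
        norm_num [-Nat.card_eq_fintype_card] at hG
        omega
      · have h5' : 5 ∣ Fintype.card F * (Fintype.card F ^ 2 - 1) :=
          hG ▸ ((Dvd.intro 12 rfl : 5 ∣ 60).trans hd).mul_right _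
        rcases Nat.prime_five.dvd_mul.1 h5' with h' | h'
        · have := (Nat.prime_dvd_prime_iff_eq Nat.prime_five hpr).1 h'
          omega
        · obtain ⟨t, r, hr, ht⟩ : ∃ t r, (r = 0 ∨ r = 2 ∨ r = 3) ∧ Fintype.card F = 5 * t + r := by
            refine ⟨Fintype.card F / 5, Fintype.card F % 5, ?_, (Nat.div_add_mod _ _).symm⟩
            omega
          obtain ⟨u, hu⟩ := h'
          have h1 : 1 ≤ Fintype.card F ^ 2 := Nat.one_le_pow _ _ Fintype.card_pos
          rw [ht, show (5 * t + r) ^ 2 = 5 * (5 * t * t + 2 * t * r) + r ^ 2 by ring] at hu h1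
          rcases hr with rfl | rfl | rfl <;> omega
  · exact absurd (hm' ▸ hpr) (Nat.Prime.not_prime_pow hm)

end Cfsg.Agent.Lib.SL2
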