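import Cfsg.Agent.Lib.SL2.Partition

/-!
# The groups `A₄`, `S₄`, `A₅` inside `PSL₂(F)` in odd characteristic, from quaternion tables

Doubled quaternion coordinates live in `ℤ[φ]`, `φ² = u φ + t`.
-/

set_option autoImplicit false

namespace Cfsg.Agent.Lib.SL2.Quat

open Matrix

/-- Elements `a + b φ`. -/
abbrev Zp := ℤ × ℤ

/-- Doubled quaternion coordinates. -/
abbrev Q4 := Zp × Zp × Zp × Zp

/-- Product in `ℤ[φ]`, `φ² = u φ + t`. -/
def zmul (t u : ℤ) (a b : Zp) : Zp :=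
  (a.1 * b.1 + t * a.2 * b.2, a.1 * b.2 + a.2 * b.1 + u * a.2 * b.2)

/-- Quaternion product. -/
def qmul (t u : ℤ) : Q4 → Q4 → Q4
  | (x0, x1, x2, x3), (y0, y1, y2, y3) =>
    (zmul t u x0 y0 - zmul t u x1 y1 - zmul t u x2 y2 - zmul t u x3 y3,
     zmul t u x0 y1 + zmul t u x1 y0 + zmul t u x2 y3 - zmul t u x3 y2,
     zmul t u x0 y2 - zmul t u x1 y3 + zmul t u x2 y0 + zmul t u x3 y1,
     zmul t u x0 y3 + zmul t u x1 y2 - zmul t u x2 y1 + zmul t u x3 y0)

/-- Quaternion norm. -/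
def qnorm (t u : ℤ) : Q4 → Zp
  | (x0, x1, x2, x3) => zmul t u x0 x0 + zmul t u x1 x1 + zmul t u x2 x2 + zmul t u x3 x3

/-- Quaternion conjugate. -/
def qconj : Q4 → Q4
  | (x0, x1, x2, x3) => (x0, -x1, -x2, -x3)

/-- Twice the coordinates. -/
def qtwo : Q4 → Q4
  | (x0, x1, x2, x3) => (x0 + x0, x1 + x1, x2 + x2, x3 + x3)

/-- `g x = ± 2 y`. -/
def isProd (t u : ℤ) (g x y : Q4) : Bool :=
  (qmul t u g x == qtwo y) || (qmul t u g x == qtwo (-y))

/-- A certificate that the image of `c` in a field of characteristic `≠ 2` is non-zero. -/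
def unitCert (t u : ℤ) (U : List Zp) (c : Zp) : Bool :=
  U.any fun d => [(1, 0), (2, 0), (4, 0), (8, 0), (16, 0), (-1, 0), (-2, 0), (-4, 0), (-8, 0),
    (-16, 0)].contains (zmul t u c d)

/-- Some coordinate is certified non-zero. -/
def anyCert (t u : ℤ) (U : List Zp) : Q4 → Bool
  | (x0, x1, x2, x3) => unitCert t u U x0 || unitCert t u U x1 || unitCert t u U x2 ||
      unitCert t u U x3

/-- Some imaginary coordinate is certified non-zero. -/
def imCert (t u : ℤ) (U : List Zp) : Q4 → Bool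
  | (_, x1, x2, x3) => unitCert t u U x1 || unitCert t u U x2 || unitCert t u U x3

/-- The identity. -/
def qone : Q4 := ((2, 0), (0, 0), (0, 0), (0, 0))

/-- Every element of the table is obtained from an earlier one by a generator. -/
def reach (t u : ℤ) (G : List Q4) : List Q4 → List Q4 → Bool
  | _, [] => true
  | done, x :: rest =>
      (x == qone || G.any fun g => done.any fun y => isProd t u g y x) &&
        reach t u G (x :: done) rest

/-- All facts about a table that are checked by computation. -/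
structure IsTable (t u : ℤ) (G L C : List Q4) (y : Q4) (U : List Zp) : Prop where
  norm : (G ++ L ++ L.map qconj).all (fun x => qnorm t u x == ((4, 0) : Zp)) = true
  one_mem : L.contains qone = true
  closed : G.all (fun g => L.all fun x => L.any fun z => isProd t u g x z) = true
  reached : reach t u G [] L = true
  distinct : L.all (fun x => L.all fun z =>
    x == z || imCert t u U (qmul t u (qconj x) z)) = true
  cent_sub : C.all (fun z => L.contains z &&
    (qmul t u y z == qmul t u z y || qmul t u y z == -qmul t u z y)) = true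
  cent_self : (C.contains y && imCert t u U y) = true
  cent_full : L.all (fun z => C.contains z ||
    (anyCert t u U (qmul t u y z - qmul t u z y) &&
      anyCert t u U (qmul t u y z + qmul t u z y))) = true

/-- The doubled coordinates of the binary tetrahedral group up to sign. -/
def tetraTable : List Q4 :=
  [((2, 0), (0, 0), (0, 0), (0, 0)), ((0, 0), (2, 0), (0, 0), (0, 0)),
    ((0, 0), (0, 0), (2, 0), (0, 0)), ((-1, 0), (1, 0), (1, 0), (1, 0)),
    ((0, 0), (0, 0), (0, 0), (-2, 0)), ((-1, 0), (-1, 0), (1, 0), (-1, 0)),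
    ((-1, 0), (-1, 0), (-1, 0), (1, 0)), ((-1, 0), (1, 0), (-1, 0), (-1, 0)),
    ((-1, 0), (-1, 0), (-1, 0), (-1, 0)), ((1, 0), (-1, 0), (-1, 0), (1, 0)),
    ((1, 0), (1, 0), (-1, 0), (-1, 0)), ((1, 0), (-1, 0), (1, 0), (-1, 0))]

/-- Elements of `tetraTable` commuting up to sign with the chosen element of prime order. -/
def tetraCent : List Q4 :=
  [((2, 0), (0, 0), (0, 0), (0, 0)), ((-1, 0), (1, 0), (1, 0), (1, 0)),
    ((-1, 0), (-1, 0), (-1, 0), (-1, 0))]

lemma tetra_cert :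
    IsTable (0) (0) [((0, 0), (2, 0), (0, 0), (0, 0)), ((0, 0), (0, 0), (2, 0), (0, 0)),
    ((-1, 0), (1, 0), (1, 0), (1, 0))]
      tetraTable tetraCent ((-1, 0), (1, 0), (1, 0), (1, 0)) [(1, 0)] := by
  refine ⟨?_, ?_, ?_, ?_, ?_, ?_, ?_, ?_⟩ <;> decide +kernel

/-- The doubled coordinates of the binary octahedral group up to sign. -/
def octaTable : List Q4 :=
  [((2, 0), (0, 0), (0, 0), (0, 0)), ((0, 0), (2, 0), (0, 0), (0, 0)),
    ((0, 0), (0, 0), (2, 0), (0, 0)), ((-1, 0), (1, 0), (1, 0), (1, 0)),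
    ((0, 1), (0, 1), (0, 0), (0, 0)), ((0, 0), (0, 0), (0, 0), (-2, 0)),
    ((-1, 0), (-1, 0), (1, 0), (-1, 0)), ((0, -1), (0, 1), (0, 0), (0, 0)),
    ((-1, 0), (-1, 0), (-1, 0), (1, 0)), ((0, 0), (0, 0), (0, 1), (0, 1)),
    ((-1, 0), (1, 0), (-1, 0), (-1, 0)), ((-1, 0), (-1, 0), (-1, 0), (-1, 0)),
    ((0, -1), (0, 0), (0, 0), (0, 1)), ((0, 0), (0, 0), (0, 1), (0, -1)),
    ((0, -1), (0, 0), (0, 1), (0, 0)), ((1, 0), (-1, 0), (-1, 0), (1, 0)),
    ((0, 0), (0, -1), (0, 1), (0, 0)), ((0, 0), (0, -1), (0, 0), (0, -1)),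
    ((1, 0), (1, 0), (-1, 0), (-1, 0)), ((0, 0), (0, -1), (0, -1), (0, 0)),
    ((0, -1), (0, 0), (0, -1), (0, 0)), ((1, 0), (-1, 0), (1, 0), (-1, 0)),
    ((0, -1), (0, 0), (0, 0), (0, -1)), ((0, 0), (0, -1), (0, 0), (0, 1))]

/-- Elements of `octaTable` commuting up to sign with the chosen element of prime order. -/
def octaCent : List Q4 :=
  [((2, 0), (0, 0), (0, 0), (0, 0)), ((-1, 0), (1, 0), (1, 0), (1, 0)),
    ((-1, 0), (-1, 0), (-1, 0), (-1, 0))]

lemma octa_cert :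
    IsTable (2) (0) [((0, 0), (2, 0), (0, 0), (0, 0)), ((0, 0), (0, 0), (2, 0), (0, 0)),
    ((-1, 0), (1, 0), (1, 0), (1, 0)), ((0, 1), (0, 1), (0, 0), (0, 0))]
      octaTable octaCent ((-1, 0), (1, 0), (1, 0), (1, 0)) [(1, 0), (0, -2)] := by
  refine ⟨?_, ?_, ?_, ?_, ?_, ?_, ?_, ?_⟩ <;> decide +kernel

/-- The doubled coordinates of the binary icosahedral group up to sign. -/
def icosaTable : List Q4 :=
  [((2, 0), (0, 0), (0, 0), (0, 0)), ((0, 0), (2, 0), (0, 0), (0, 0)),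
    ((0, 0), (0, 0), (2, 0), (0, 0)), ((-1, 0), (1, 0), (1, 0), (1, 0)),
    ((0, 1), (-1, 1), (1, 0), (0, 0)), ((0, 0), (0, 0), (0, 0), (-2, 0)),
    ((-1, 0), (-1, 0), (1, 0), (-1, 0)), ((1, -1), (0, 1), (0, 0), (-1, 0)),
    ((-1, 0), (-1, 0), (-1, 0), (1, 0)), ((-1, 0), (0, 0), (0, 1), (-1, 1)),
    ((-1, 0), (1, 0), (-1, 0), (-1, 0)), ((-1, 0), (-1, 0), (-1, 0), (-1, 0)),
    ((0, -1), (1, 0), (0, 0), (-1, 1)), ((1, -1), (0, 1), (0, 0), (1, 0)),
    ((-1, 0), (0, 0), (0, 1), (1, -1)), ((0, -1), (0, 0), (-1, 1), (1, 0)),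
    ((-1, 1), (1, 0), (0, 1), (0, 0)), ((0, 0), (-1, 0), (-1, 1), (0, -1)),
    ((1, 0), (-1, 0), (-1, 0), (1, 0)), ((-1, 0), (0, -1), (-1, 1), (0, 0)),
    ((0, -1), (1, -1), (1, 0), (0, 0)), ((0, 0), (-1, 0), (1, -1), (0, -1)),
    ((0, 0), (0, -1), (1, 0), (1, -1)), ((-1, 0), (-1, 1), (0, 0), (0, -1)),
    ((1, 0), (1, 0), (-1, 0), (-1, 0)), ((0, 0), (1, -1), (0, -1), (1, 0)),
    ((0, 0), (-1, 0), (1, -1), (0, 1)), ((0, -1), (-1, 1), (-1, 0), (0, 0)),
    ((1, 0), (-1, 0), (1, 0), (-1, 0)), ((1, -1), (0, 0), (-1, 0), (0, -1)),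
    ((0, 0), (0, -1), (-1, 0), (1, -1)), ((-1, 0), (0, -1), (1, -1), (0, 0)),
    ((0, 0), (-1, 1), (0, -1), (-1, 0)), ((0, 0), (1, 0), (1, -1), (0, -1)),
    ((-1, 0), (1, -1), (0, 0), (0, -1)), ((-1, 0), (0, 1), (1, -1), (0, 0)),
    ((0, 0), (0, -1), (-1, 0), (-1, 1)), ((1, -1), (1, 0), (0, -1), (0, 0)),
    ((0, 0), (1, -1), (0, -1), (-1, 0)), ((0, -1), (0, 0), (1, -1), (1, 0)),
    ((-1, 0), (-1, 1), (0, 0), (0, 1)), ((0, -1), (0, 0), (-1, 1), (-1, 0)),
    ((0, -1), (-1, 0), (0, 0), (-1, 1)), ((1, -1), (1, 0), (0, 1), (0, 0)),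
    ((1, 0), (0, 0), (0, 1), (-1, 1)), ((1, -1), (0, -1), (0, 0), (1, 0)),
    ((0, 1), (-1, 0), (0, 0), (-1, 1)), ((1, -1), (0, 0), (-1, 0), (0, 1)),
    ((-1, 0), (0, 0), (0, -1), (-1, 1)), ((0, 1), (0, 0), (-1, 1), (1, 0)),
    ((-1, 0), (1, -1), (0, 0), (0, 1)), ((-1, 1), (0, 0), (-1, 0), (0, 1)),
    ((0, 0), (0, -1), (1, 0), (-1, 1)), ((1, -1), (-1, 0), (0, 1), (0, 0)),
    ((-1, 1), (0, 0), (-1, 0), (0, -1)), ((0, 1), (1, 0), (0, 0), (-1, 1)),
    ((-1, 1), (0, 1), (0, 0), (1, 0)), ((0, 0), (1, -1), (0, 1), (-1, 0)),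
    ((1, 0), (0, -1), (1, -1), (0, 0)), ((0, -1), (-1, 1), (1, 0), (0, 0))]

/-- Elements of `icosaTable` commuting up to sign with the chosen element of prime order. -/
def icosaCent : List Q4 :=
  [((2, 0), (0, 0), (0, 0), (0, 0)), ((0, 1), (-1, 1), (1, 0), (0, 0)),
    ((-1, 1), (1, 0), (0, 1), (0, 0)), ((1, -1), (1, 0), (0, 1), (0, 0)),
    ((0, -1), (-1, 1), (1, 0), (0, 0))]

lemma icosa_cert :
    IsTable (1) (1) [((0, 0), (2, 0), (0, 0), (0, 0)), ((0, 0), (0, 0), (2, 0), (0, 0)),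
    ((-1, 0), (1, 0), (1, 0), (1, 0)), ((0, 1), (-1, 1), (1, 0), (0, 0))]
      icosaTable icosaCent ((0, 1), (-1, 1), (1, 0), (0, 0)) [(1, 0), (0, -2),
    (-2, 1), (-2, 2)] := by
  refine ⟨?_, ?_, ?_, ?_, ?_, ?_, ?_, ?_⟩ <;> decide +kernel

/-- The field data: `φ² = u φ + t`, `a² + b² = -1`. -/
structure Data (F : Type*) [Field F] where
  /-- linear coefficient data -/
  t : ℤ
  /-- linear coefficient data -/
  u : ℤ
  /-- root -/
  φ : F
  /-- quaternion parameter -/
  a : F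
  /-- quaternion parameter -/
  b : F
  hφ : φ * φ = (u : F) * φ + (t : F)
  hab : a * a + b * b = -1
  h2 : (2 : F) ≠ 0

variable {F : Type*} [Field F] (D : Data F)

/-- Evaluation. -/
def Data.ev (c : Zp) : F := (c.1 : F) + (c.2 : F) * D.φ

lemma ev_add (c d : Zp) : D.ev (c + d) = D.ev c + D.ev d := by
  simp only [Data.ev, Prod.fst_add, Prod.snd_add, Int.cast_add]; ring

lemma ev_sub (c d : Zp) : D.ev (c - d) = D.ev c - D.ev d := by
  simp only [Data.ev, Prod.fst_sub, Prod.snd_sub, Int.cast_sub]; ring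

lemma ev_neg (c : Zp) : D.ev (-c) = -D.ev c := by
  simp only [Data.ev, Prod.fst_neg, Prod.snd_neg, Int.cast_neg]; ring

lemma ev_zmul (c d : Zp) : D.ev (zmul D.t D.u c d) = D.ev c * D.ev d := by
  simp only [Data.ev, zmul, Int.cast_add, Int.cast_mul]
  linear_combination -(c.2 : F) * (d.2 : F) * D.hφ

lemma ev_mk (n : ℤ) : D.ev (n, 0) = (n : F) := by simp [Data.ev]

lemma ev_ne_zero_of_cert {U : List Zp} {c : Zp} (h : unitCert D.t D.u U c = true) : D.ev c ≠ 0 := by
  simp only [unitCert, List.any_eq_true, List.contains_iff_mem] at h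
  obtain ⟨d, -, hd⟩ := h
  intro hc
  have h0 : D.ev (zmul D.t D.u c d) = 0 := by rw [ev_zmul, hc, zero_mul]
  have h4 : (4 : F) ≠ 0 := by
    rw [show (4 : F) = 2 * 2 by norm_num]; exact mul_ne_zero D.h2 D.h2
  have h8 : (8 : F) ≠ 0 := by
    rw [show (8 : F) = 2 * 4 by norm_num]; exact mul_ne_zero D.h2 h4
  have h16 : (16 : F) ≠ 0 := by
    rw [show (16 : F) = 2 * 8 by norm_num]; exact mul_ne_zero D.h2 h8
  simp only [List.mem_cons, List.not_mem_nil, or_false] at hd
  rcases hd with e | e | e | e | e | e | e | e | e | e <;>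
    (rw [e] at h0; simp [Data.ev, D.h2, h4, h8, h16] at h0)

/-- Twice the matrix of a quaternion. -/
def Data.mat : Q4 → Matrix (Fin 2) (Fin 2) F
  | (x0, x1, x2, x3) =>
    !![D.ev x0 + D.a * D.ev x2 + D.b * D.ev x3, D.ev x1 + D.b * D.ev x2 - D.a * D.ev x3;
       -D.ev x1 + D.b * D.ev x2 - D.a * D.ev x3, D.ev x0 - D.a * D.ev x2 - D.b * D.ev x3]

lemma mat_qmul (x y : Q4) : D.mat (qmul D.t D.u x y) = D.mat x * D.mat y := by
  obtain ⟨x0, x1, x2, x3⟩ := x
  obtain ⟨y0, y1, y2, y3⟩ := y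
  ext i j
  fin_cases i <;> fin_cases j <;>
    simp only [qmul, Data.mat, Matrix.mul_apply, Fin.sum_univ_two, Matrix.of_apply,
      Matrix.cons_val', Matrix.cons_val_zero, Matrix.cons_val_one, Matrix.empty_val',
      Matrix.cons_val_fin_one, ev_add, ev_sub, ev_zmul, Fin.mk_zero, Fin.mk_one, Fin.isValue,
      Fin.zero_eta]
  · linear_combination (-(D.ev x2 * D.ev y2) - D.ev x3 * D.ev y3) * D.hab
  · linear_combination (D.ev x2 * D.ev y3 - D.ev x3 * D.ev y2) * D.hab
  · linear_combination (D.ev x3 * D.ev y2 - D.ev x2 * D.ev y3) * D.hab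
  · linear_combination (-(D.ev x2 * D.ev y2) - D.ev x3 * D.ev y3) * D.hab

lemma mat_neg (x : Q4) : D.mat (-x) = -D.mat x := by
  obtain ⟨x0, x1, x2, x3⟩ := x
  ext i j
  fin_cases i <;> fin_cases j <;> simp [Data.mat, ev_neg] <;> ring

lemma mat_qtwo (x : Q4) : D.mat (qtwo x) = (2 : F) • D.mat x := by
  obtain ⟨x0, x1, x2, x3⟩ := x
  ext i j
  fin_cases i <;> fin_cases j <;> simp [qtwo, Data.mat, ← Prod.mk_add_mk, ev_add] <;> ring

lemma mat_add (x y : Q4) : D.mat (x + y) = D.mat x + D.mat y := by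
  obtain ⟨x0, x1, x2, x3⟩ := x
  obtain ⟨y0, y1, y2, y3⟩ := y
  ext i j
  fin_cases i <;> fin_cases j <;> simp [Data.mat, ev_add] <;> ring

lemma mat_sub (x y : Q4) : D.mat (x - y) = D.mat x - D.mat y := by
  rw [sub_eq_add_neg, mat_add, mat_neg, sub_eq_add_neg]

lemma det_mat {x : Q4} (h : qnorm D.t D.u x = (4, 0)) :
    ((2 : F)⁻¹ • D.mat x).det = 1 := by
  have h2 := D.h2
  obtain ⟨x0, x1, x2, x3⟩ := x
  have h' := congrArg D.ev h
  rw [ev_mk] at h'
  simp only [qnorm, ev_add, ev_zmul, Int.cast_ofNat] at h'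
  rw [Matrix.det_smul, Fintype.card_fin]
  simp only [Data.mat, Matrix.det_fin_two_of]
  field_simp
  linear_combination h' - (D.ev x2 ^ 2 + D.ev x3 ^ 2) * D.hab

/-- The element of `PSL₂` attached to a table entry. -/
noncomputable def Data.toPSL (x : Q4) : PSLtwo F :=
  if h : qnorm D.t D.u x = (4, 0) then proj ⟨(2 : F)⁻¹ • D.mat x, det_mat D h⟩ else 1

lemma mat_scalar_imp {U : List Zp} {x : Q4} (h : imCert D.t D.u U x = true) {c : F}
    (hc : D.mat x = c • (1 : Matrix (Fin 2) (Fin 2) F)) : False := by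
  obtain ⟨x0, x1, x2, x3⟩ := x
  have e00 := congrArg (fun M : Matrix (Fin 2) (Fin 2) F => M 0 0) hc
  have e01 := congrArg (fun M : Matrix (Fin 2) (Fin 2) F => M 0 1) hc
  have e10 := congrArg (fun M : Matrix (Fin 2) (Fin 2) F => M 1 0) hc
  have e11 := congrArg (fun M : Matrix (Fin 2) (Fin 2) F => M 1 1) hc
  simp [Data.mat] at e00 e01 e10 e11
  have h1 : D.ev x1 = 0 := by
    apply (mul_right_inj' D.h2).1; linear_combination e01 - e10
  have h23 : D.b * D.ev x2 - D.a * D.ev x3 = 0 := by linear_combination e01 - h1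
  have h32 : D.a * D.ev x2 + D.b * D.ev x3 = 0 := by
    apply (mul_right_inj' D.h2).1; linear_combination e00 - e11
  have h2 : D.ev x2 = 0 := by
    linear_combination -D.a * h32 - D.b * h23 + D.ev x2 * D.hab
  have h3 : D.ev x3 = 0 := by
    linear_combination D.a * h23 - D.b * h32 + D.ev x3 * D.hab
  simp only [imCert, Bool.or_eq_true] at h
  rcases h with (h | h) | h
  exacts [ev_ne_zero_of_cert D h h1, ev_ne_zero_of_cert D h h2, ev_ne_zero_of_cert D h h3]

lemma mat_ne_zero_of_cert {U : List Zp} {x : Q4} (h : anyCert D.t D.u U x = true) :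
    D.mat x ≠ 0 := by
  obtain ⟨x0, x1, x2, x3⟩ := x
  intro hz
  by_cases him : imCert D.t D.u U (x0, x1, x2, x3) = true
  · exact mat_scalar_imp D him (c := 0) (by rw [hz, zero_smul])
  simp only [imCert, Bool.or_eq_true, not_or] at him
  simp only [anyCert, Bool.or_eq_true] at h
  rcases h with ((h | h) | h) | h
  · refine ev_ne_zero_of_cert D h ?_
    have e00 := congrArg (fun M : Matrix (Fin 2) (Fin 2) F => M 0 0) hz
    have e11 := congrArg (fun M : Matrix (Fin 2) (Fin 2) F => M 1 1) hz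
    simp [Data.mat] at e00 e11
    apply (mul_right_inj' D.h2).1; linear_combination e00 + e11
  exacts [him.1.1 h, him.1.2 h, him.2 h]

lemma toPSL_def {x : Q4} (h : qnorm D.t D.u x = (4, 0)) :
    ∃ g : SLtwo F, proj g = D.toPSL x ∧
      (g : Matrix (Fin 2) (Fin 2) F) = (2 : F)⁻¹ • D.mat x := by
  refine ⟨⟨(2 : F)⁻¹ • D.mat x, det_mat D h⟩, ?_, rfl⟩
  rw [Data.toPSL, dif_pos h]

lemma toPSL_qone : D.toPSL qone = 1 := by
  obtain ⟨g, hg, hm⟩ := toPSL_def D (x := qone) (by simp [qnorm, qone, zmul])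
  rw [← hg, ← map_one (proj (F := F))]
  congr 1
  refine Subtype.ext (hm.trans ?_)
  have := D.h2
  ext i j
  fin_cases i <;> fin_cases j <;> simp [qone, Data.mat, Data.ev, inv_mul_cancel₀ D.h2]

lemma toPSL_mul {x y z : Q4} (hx : qnorm D.t D.u x = (4, 0)) (hy : qnorm D.t D.u y = (4, 0))
    (hz : qnorm D.t D.u z = (4, 0)) (h : isProd D.t D.u x y z = true) :
    D.toPSL x * D.toPSL y = D.toPSL z := by
  obtain ⟨gx, hgx, hmx⟩ := toPSL_def D hx
  obtain ⟨gy, hgy, hmy⟩ := toPSL_def D hy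
  obtain ⟨gz, hgz, hmz⟩ := toPSL_def D hz
  have h2 := D.h2
  rw [← hgx, ← hgy, ← hgz, ← map_mul, proj_eq_proj_iff]
  simp only [isProd, Bool.or_eq_true, beq_iff_eq] at h
  have hm : ((gx * gy : SLtwo F) : Matrix (Fin 2) (Fin 2) F) =
      ((2 : F)⁻¹ * (2 : F)⁻¹) • D.mat (qmul D.t D.u x y) := by
    rw [mat_qmul, Matrix.SpecialLinearGroup.coe_mul, hmx, hmy, smul_mul_smul_comm]
  rcases h with h | h
  · left
    refine Subtype.ext ?_
    rw [hm, h, mat_qtwo, smul_smul, hmz]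
    congr 1
    field_simp
  · right
    refine Subtype.ext ?_
    rw [Matrix.SpecialLinearGroup.coe_neg, hm, h, mat_qtwo, mat_neg, smul_smul, hmz, smul_neg,
      neg_neg]
    congr 1
    field_simp

variable {D} {G L C : List Q4} {y : Q4} {U : List Zp} (hT : IsTable D.t D.u G L C y U)
include hT

lemma norm_G {x : Q4} (hx : x ∈ G) : qnorm D.t D.u x = (4, 0) := by
  have := List.all_eq_true.1 hT.norm x (by simp [hx])
  simpa using this

lemma norm_L {x : Q4} (hx : x ∈ L) : qnorm D.t D.u x = (4, 0) := by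
  have := List.all_eq_true.1 hT.norm x (by simp [hx])
  simpa using this

lemma norm_conj {x : Q4} (hx : x ∈ L) : qnorm D.t D.u (qconj x) = (4, 0) := by
  have := List.all_eq_true.1 hT.norm (qconj x)
    (List.mem_append_right _ (List.mem_map_of_mem hx))
  simpa using this

lemma toPSL_injOn {x z : Q4} (hx : x ∈ L) (hz : z ∈ L) (h : D.toPSL x = D.toPSL z) : x = z := by
  by_contra hne
  have hc := List.all_eq_true.1 (List.all_eq_true.1 hT.distinct x hx) z hz
  simp only [Bool.or_eq_true, beq_iff_eq, hne, false_or] at hc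
  obtain ⟨gx, hgx, hmx⟩ := toPSL_def D (norm_L hT hx)
  obtain ⟨gz, hgz, hmz⟩ := toPSL_def D (norm_L hT hz)
  rw [← hgx, ← hgz, proj_eq_proj_iff] at h
  have h2 := D.h2
  have hadj : D.mat (qconj x) * D.mat x = (4 : F) • (1 : Matrix (Fin 2) (Fin 2) F) := by
    have hn := congrArg D.ev (norm_L hT hx)
    obtain ⟨x0, x1, x2, x3⟩ := x
    rw [ev_mk] at hn
    simp only [qnorm, ev_add, ev_zmul, Int.cast_ofNat] at hn
    ext i j
    fin_cases i <;> fin_cases j <;> simp [qconj, Data.mat, ev_neg, Matrix.mul_apply]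
    · linear_combination hn - (D.ev x2 ^ 2 + D.ev x3 ^ 2) * D.hab
    · ring
    · ring
    · linear_combination hn - (D.ev x2 ^ 2 + D.ev x3 ^ 2) * D.hab
  rcases h with h | h <;>
    have hm := congrArg (fun g : SLtwo F => (g : Matrix (Fin 2) (Fin 2) F)) h
  · refine mat_scalar_imp D hc (c := 4) ?_
    simp only [hmz, hmx] at hm
    rw [mat_qmul, (smul_right_injective _ (inv_ne_zero h2)) hm, hadj]
  · refine mat_scalar_imp D hc (c := -4) ?_
    simp only [Matrix.SpecialLinearGroup.coe_neg, hmz, hmx] at hm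
    rw [mat_qmul, (smul_right_injective _ (inv_ne_zero h2)) (hm.trans (smul_neg _ _).symm),
      mul_neg, hadj, neg_smul]

/-- The subgroup given by a table. -/
theorem exists_subgroup [Finite F] :
    ∃ (H : Subgroup (PSLtwo F)) (h : H), Nat.card H = L.toFinset.card ∧ h ≠ 1 ∧
      Nat.card (Subgroup.centralizer ({h} : Set H)) = C.toFinset.card := by
  classical
  let H : Subgroup (PSLtwo F) := Subgroup.closure {g | ∃ x ∈ G, D.toPSL x = g}
  have hsub : ∀ g ∈ H, ∃ x ∈ L, D.toPSL x = g := by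
    intro g hg
    have hg' : g ∈ Submonoid.closure {g | ∃ x ∈ G, D.toPSL x = g} := by
      rwa [← Subgroup.closure_toSubmonoid_of_finite] at *
    induction hg' using Submonoid.closure_induction_left with
    | one => exact ⟨qone, List.contains_iff_mem.1 hT.one_mem, toPSL_qone D⟩
    | mul_left a ha b _ ih =>
      obtain ⟨g, hgG, rfl⟩ := ha
      obtain ⟨x, hx, rfl⟩ := ih (Subgroup.closure_mono le_rfl (by
        rw [← Subgroup.mem_toSubmonoid, Subgroup.closure_toSubmonoid_of_finite]; assumption))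
      obtain ⟨z, hz, he⟩ := List.any_eq_true.1
        (List.all_eq_true.1 (List.all_eq_true.1 hT.closed g hgG) x hx)
      exact ⟨z, hz, (toPSL_mul D (norm_G hT hgG) (norm_L hT hx) (norm_L hT hz) he).symm⟩
  have hmem : ∀ rest done : List Q4, (∀ x ∈ done, x ∈ L ∧ D.toPSL x ∈ H) →
      (∀ x ∈ rest, x ∈ L) → reach D.t D.u G done rest = true → ∀ x ∈ rest, D.toPSL x ∈ H := by
    intro rest
    induction rest with
    | nil => intro _ _ _ _ x hx; simp at hx
    | cons x rest ih =>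
      intro done hdone hrest hr
      simp only [reach, Bool.and_eq_true, Bool.or_eq_true, beq_iff_eq, List.any_eq_true] at hr
      have hxH : D.toPSL x ∈ H := by
        rcases hr.1 with rfl | ⟨g, hg, y, hy, he⟩
        · rw [toPSL_qone]; exact H.one_mem
        · rw [← toPSL_mul D (norm_G hT hg) (norm_L hT (hdone y hy).1)
            (norm_L hT (hrest x (List.mem_cons_self ..))) he]
          exact H.mul_mem (Subgroup.subset_closure ⟨g, hg, rfl⟩) (hdone y hy).2
      intro z hz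
      rcases List.mem_cons.1 hz with rfl | hz
      · exact hxH
      · refine ih (x :: done) ?_ (fun w hw => hrest w (List.mem_cons_of_mem _ hw)) hr.2 z hz
        intro w hw
        rcases List.mem_cons.1 hw with rfl | hw
        exacts [⟨hrest w (List.mem_cons_self ..), hxH⟩, hdone w hw]
  have hL : ∀ x ∈ L, D.toPSL x ∈ H :=
    hmem L [] (by simp) (fun x hx => hx) hT.reached
  have hcs := Bool.and_eq_true_iff.1 hT.cent_self
  have hyC : y ∈ C := List.contains_iff_mem.1 hcs.1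
  have hCL : ∀ z ∈ C, z ∈ L ∧ (qmul D.t D.u y z = qmul D.t D.u z y ∨
      qmul D.t D.u y z = -qmul D.t D.u z y) := fun z hz => by
    have := List.all_eq_true.1 hT.cent_sub z hz
    simpa using this
  have hyL := (hCL y hyC).1
  let h : H := ⟨D.toPSL y, hL y hyL⟩
  refine ⟨H, h, ?_, ?_, ?_⟩
  · show Nat.card (H : Set (PSLtwo F)) = _
    rw [Nat.card_coe_set_eq]
    rw [show (H : Set (PSLtwo F)) = ↑(L.toFinset.image D.toPSL) by
      ext g; simp only [SetLike.mem_coe, Finset.coe_image, Set.mem_image, List.coe_toFinset,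
        Set.mem_setOf_eq]
      exact ⟨fun hg => hsub g hg, by rintro ⟨x, hx, rfl⟩; exact hL x hx⟩,
      Set.ncard_coe_finset, Finset.card_image_of_injOn]
    intro a ha b hb e
    exact toPSL_injOn hT (by simpa using ha) (by simpa using hb) e
  · intro e
    obtain ⟨g, hg, hm⟩ := toPSL_def D (norm_L hT hyL)
    have e' : proj g = proj (1 : SLtwo F) := by rw [hg, map_one]; exact congrArg Subtype.val e
    have h2 := D.h2
    rcases proj_eq_proj_iff.1 e' with e' | e'
    · refine mat_scalar_imp D hcs.2 (c := 2) ?_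
      rw [← e'] at hm
      calc D.mat y = (2 : F) • ((2 : F)⁻¹ • D.mat y) := by rw [smul_smul, mul_inv_cancel₀ h2, one_smul]
        _ = _ := by rw [← hm, Matrix.SpecialLinearGroup.coe_one]
    · refine mat_scalar_imp D hcs.2 (c := -2) ?_
      have hg' : g = -1 := by rw [e', neg_neg]
      rw [hg'] at hm
      calc D.mat y = (2 : F) • ((2 : F)⁻¹ • D.mat y) := by rw [smul_smul, mul_inv_cancel₀ h2, one_smul]
        _ = _ := by rw [← hm, Matrix.SpecialLinearGroup.coe_neg, Matrix.SpecialLinearGroup.coe_one,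
              smul_neg, neg_smul]
  · rw [← Nat.card_eq_finsetCard]
    symm
    refine Nat.card_congr (Equiv.ofBijective
      (fun z => ⟨⟨D.toPSL z.1, hL _ (hCL _ (List.mem_toFinset.1 z.2)).1⟩, ?_⟩) ⟨?_, ?_⟩)
    · obtain ⟨hzL, hz⟩ := hCL _ (List.mem_toFinset.1 z.2)
      rw [Subgroup.mem_centralizer_singleton_iff]
      apply Subtype.ext
      show D.toPSL z.1 * D.toPSL y = D.toPSL y * D.toPSL z.1
      obtain ⟨gy, hgy, hmy⟩ := toPSL_def D (norm_L hT hyL)
      obtain ⟨gz, hgz, hmz⟩ := toPSL_def D (norm_L hT hzL)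
      rw [← hgy, ← hgz, ← map_mul, ← map_mul, proj_eq_proj_iff]
      rcases hz with e | e
      · left
        refine Subtype.ext ?_
        simp only [Matrix.SpecialLinearGroup.coe_mul, hmy, hmz, smul_mul_smul_comm, ← mat_qmul, e]
      · right
        refine Subtype.ext ?_
        simp only [Matrix.SpecialLinearGroup.coe_neg, Matrix.SpecialLinearGroup.coe_mul, hmy, hmz,
          smul_mul_smul_comm, ← mat_qmul, e, mat_neg, smul_neg, neg_neg]
    · rintro ⟨a, ha⟩ ⟨b, hb⟩ e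
      exact Subtype.ext (toPSL_injOn hT (hCL _ (List.mem_toFinset.1 ha)).1
        (hCL _ (List.mem_toFinset.1 hb)).1 (congrArg (fun w => (w.1 : PSLtwo F)) e))
    · rintro ⟨⟨g, hg⟩, hc⟩
      obtain ⟨x, hx, rfl⟩ := hsub g hg
      refine ⟨⟨x, List.mem_toFinset.2 ?_⟩, rfl⟩
      by_contra hxC
      have hf := List.all_eq_true.1 hT.cent_full x hx
      simp only [Bool.or_eq_true, List.contains_iff_mem, hxC, false_or, Bool.and_eq_true] at hf
      rw [Subgroup.mem_centralizer_singleton_iff] at hc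
      have e : D.toPSL x * D.toPSL y = D.toPSL y * D.toPSL x := congrArg Subtype.val hc
      obtain ⟨gy, hgy, hmy⟩ := toPSL_def D (norm_L hT hyL)
      obtain ⟨gx, hgx, hmx⟩ := toPSL_def D (norm_L hT hx)
      rw [← hgy, ← hgx, ← map_mul, ← map_mul, proj_eq_proj_iff] at e
      have hi : ((2 : F)⁻¹ * (2 : F)⁻¹) ≠ 0 := mul_ne_zero (inv_ne_zero D.h2) (inv_ne_zero D.h2)
      rcases e with e | e <;>
        have hm := congrArg (fun g : SLtwo F => (g : Matrix (Fin 2) (Fin 2) F)) e <;>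
        simp only [Matrix.SpecialLinearGroup.coe_neg, Matrix.SpecialLinearGroup.coe_mul, hmy, hmx,
          smul_mul_smul_comm, ← mat_qmul, ← smul_neg] at hm
      · exact mat_ne_zero_of_cert D hf.1
          (by rw [mat_sub, smul_right_injective _ hi hm, sub_self])
      · exact mat_ne_zero_of_cert D hf.2
          (by rw [mat_add, smul_right_injective _ hi hm, neg_add_cancel])

end Cfsg.Agent.Lib.SL2.Quat
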